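import Cfsg.Agent.Lib.LinearOrders.Basic

/-!
Orders of unipotent matrices in characteristic `p`.
-/

set_option autoImplicit false

namespace Cfsg.Agent.Lib.LinearOrders

open Matrix Polynomial

variable {F : Type*} [Field F]

theorem pow_card_eq_zero_of_isNilpotent {n : ℕ} {A : Matrix (Fin n) (Fin n) F}
    (hA : IsNilpotent A) : A ^ n = 0 := by
  obtain ⟨k, hk⟩ := hA
  have h1 : minpoly F A ∣ X ^ k := minpoly.dvd F A (by simp [hk])
  obtain ⟨j, -, hj⟩ := (dvd_prime_pow Polynomial.prime_X k).1 h1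
  have h2 : j ≤ n := by
    have h3 := natDegree_le_of_dvd (Matrix.minpoly_dvd_charpoly A) (Matrix.charpoly_monic A).ne_zero
    rw [natDegree_eq_of_degree_eq (degree_eq_degree_of_associated hj), natDegree_X_pow,
      Matrix.charpoly_natDegree_eq_dim, Fintype.card_fin] at h3
    exact h3
  have h4 : (X ^ n : F[X]) = X ^ j * X ^ (n - j) := by
    rw [← pow_add, Nat.add_sub_cancel' h2]
  obtain ⟨c, hc⟩ := hj.dvd
  have : aeval A (X ^ n : F[X]) = 0 := by
    rw [h4, hc, map_mul, map_mul, minpoly.aeval, zero_mul, zero_mul]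
  simpa using this

/-- The largest order of a unipotent element in dimension `n`. -/
def unipExp (p n : ℕ) : ℕ := p ^ Nat.clog p n

theorem le_unipExp {p : ℕ} (hp : 1 < p) (n : ℕ) : n ≤ unipExp p n := Nat.le_pow_clog hp n

theorem pow_unipExp_eq_one {n : ℕ} (hn : 1 ≤ n) (p : ℕ) [Fact p.Prime] [CharP F p]
    (A : Matrix (Fin n) (Fin n) F) {i : ℕ} (hA : A ^ p ^ i = 1) : A ^ unipExp p n = 1 := by
  have : Nonempty (Fin n) := ⟨⟨0, hn⟩⟩
  have hz : (A - 1) ^ p ^ i = 0 := by
    rw [sub_pow_char_pow_of_commute p (n := i) (Commute.one_right A), hA, one_pow, sub_self]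
  have h0 : (A - 1) ^ unipExp p n = 0 :=
    pow_eq_zero_of_le (le_unipExp (Fact.out : p.Prime).one_lt n)
      (pow_card_eq_zero_of_isNilpotent ⟨_, hz⟩)
  rw [unipExp, sub_pow_char_pow_of_commute p (n := Nat.clog p n) (Commute.one_right A), one_pow,
    sub_eq_zero] at h0
  exact h0

theorem not_dvd_orderOf_pow_unipExp {n : ℕ} (hn : 1 ≤ n) (p : ℕ) [Fact p.Prime] [CharP F p] [Finite F]
    (g : GL (Fin n) F) : ¬ p ∣ orderOf (g ^ unipExp p n) := by
  have hp : p.Prime := Fact.out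
  have ho := orderOf_pos g
  set v := (orderOf g).factorization p with hv
  have hd : p ^ v ∣ orderOf g := Nat.ordProj_dvd _ _
  have hh : orderOf (g ^ (orderOf g / p ^ v)) = p ^ v := orderOf_pow_orderOf_div ho.ne' hd
  have h1 : (g ^ (orderOf g / p ^ v)) ^ unipExp p n = 1 := by
    apply Units.ext
    rw [Units.val_pow_eq_pow_val, Units.val_one]
    exact pow_unipExp_eq_one hn p _ (i := v) (by
      rw [← Units.val_pow_eq_pow_val, orderOf_dvd_iff_pow_eq_one.1 (dvd_of_eq hh), Units.val_one])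
  have h2 : p ^ v ∣ unipExp p n := hh ▸ orderOf_dvd_of_pow_eq_one h1
  intro hdvd
  have h3 : (g ^ unipExp p n) ^ (orderOf g / p ^ v) = 1 := by rw [← pow_mul, mul_comm, pow_mul, h1]
  exact Nat.not_dvd_ordCompl hp ho.ne' (hdvd.trans (orderOf_dvd_of_pow_eq_one h3))

theorem det_eq_one_of_pow_eq_one {n : ℕ} (p : ℕ) [Fact p.Prime] [CharP F p]
    (A : Matrix (Fin n) (Fin n) F) {i : ℕ} (hA : A ^ p ^ i = 1) : A.det = 1 := by
  have h : A.det ^ p ^ i = 1 := by rw [← det_pow, hA, det_one]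
  have h2 : (A.det - 1) ^ p ^ i = 0 := by rw [sub_pow_char_pow A.det 1, h, one_pow, sub_self]
  exact sub_eq_zero.1 (eq_zero_of_pow_eq_zero h2)

theorem exists_regular_unipotent {d : ℕ} (hd : 1 ≤ d) (p : ℕ) [Fact p.Prime] [CharP F p] :
    ∃ A : Matrix (Fin d) (Fin d) F, A ^ unipExp p d = 1 ∧
      ∀ j, p ^ j < d → ¬ ∃ c : F, A ^ p ^ j = Matrix.scalar (Fin d) c := by
  have hmon : (X ^ d : F[X]).Monic := monic_X_pow d
  let pb := AdjoinRoot.powerBasis' hmon
  have hdim : pb.dim = d := by simp [pb]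
  let b : Module.Basis (Fin d) F (AdjoinRoot (X ^ d : F[X])) := pb.basis.reindex (finCongr hdim)
  let φ := Algebra.leftMulMatrix b
  have hφ : Function.Injective φ := Algebra.leftMulMatrix_injective b
  have : Nontrivial (AdjoinRoot (X ^ d : F[X])) := AdjoinRoot.nontrivial _ (by simp; omega)
  have : CharP (AdjoinRoot (X ^ d : F[X])) p :=
    charP_of_injective_algebraMap (algebraMap F (AdjoinRoot (X ^ d : F[X]))).injective p
  refine ⟨φ (1 + AdjoinRoot.root _), ?_, ?_⟩
  · have h0 : (AdjoinRoot.root (X ^ d : F[X])) ^ d = 0 := by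
      have := AdjoinRoot.mk_self (f := (X ^ d : F[X]))
      rw [map_pow, AdjoinRoot.mk_X] at this
      exact this
    rw [← map_pow, unipExp, add_pow_char_pow _ _ p (Nat.clog p d), one_pow,
      pow_eq_zero_of_le (Nat.le_pow_clog (Fact.out : p.Prime).one_lt d) h0, add_zero, map_one]
  · rintro j hj ⟨c, hc⟩
    have hsc : Matrix.scalar (Fin d) c = algebraMap F (Matrix (Fin d) (Fin d) F) c := rfl
    rw [← map_pow, hsc, ← φ.commutes c, add_pow_char_pow _ _ p j, one_pow] at hc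
    have h := hφ hc
    rw [AdjoinRoot.algebraMap_eq] at h
    have h' : AdjoinRoot.mk (X ^ d : F[X]) (X ^ p ^ j - C (c - 1)) = 0 := by
      simp [map_sub, map_pow, ← h]
    rw [AdjoinRoot.mk_eq_zero] at h'
    have hpos : 0 < p ^ j := pow_pos (Fact.out : p.Prime).pos j
    have := natDegree_le_of_dvd h' (X_pow_sub_C_ne_zero hpos (c - 1))
    rw [natDegree_X_pow, natDegree_X_pow_sub_C] at this
    omega

end Cfsg.Agent.Lib.LinearOrders
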