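import Cfsg.Agent.Lib.Forms.Basis
import Cfsg.Agent.Lib.Unitary.Transvection
import Cfsg.Agent.Lib.LinearOrders.Unipotent
import Cfsg.Agent.Lib.OrderSets.Basic

/-!
Element orders of `PSU_n(q)` from commutative algebras with semilinear involution.
-/

set_option autoImplicit false

namespace Cfsg.Agent.Lib.LinearOrders

open Polynomial
open Cfsg.Agent.Lib.OrderSets
open Cfsg.Agent.Lib.Unitary (conj)

universe u

variable {F : Type u} [Field F] {q : ℕ}

/-- A semilinear involution with a compatible nondegenerate functional. -/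
structure IsUnitAlg (q : ℕ) {A : Type*} [CommRing A] [Algebra F A] (σ : A →+* A) (ℓ : A →ₗ[F] F) :
    Prop where
  invol : ∀ a, σ (σ a) = a
  semilin : ∀ c : F, σ (algebraMap F A c) = algebraMap F A (c ^ q)
  skew : ∀ a, ℓ (σ a) = ℓ a ^ q
  nondeg : ∀ a, (∀ b, ℓ (a * b) = 0) → a = 0

theorem conj_ne_id [Fintype F] (hF : Fintype.card F = q ^ 2) : conj hF ≠ RingHom.id F := by
  intro h
  have h1 := Cfsg.Agent.Lib.Unitary.card_fixed hF
  rw [Nat.card_congr (Equiv.subtypeUnivEquiv (p := fun x : F => x ^ q = x) (fun x => RingHom.congr_fun h x)),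
    Nat.card_eq_fintype_card, hF] at h1
  have := Cfsg.Agent.Lib.Unitary.one_lt_q hF
  have : q * 1 < q * q := Nat.mul_lt_mul_of_pos_left this (by omega)
  rw [sq] at h1
  omega

theorem exists_psu_order [Fintype F] (hF : Fintype.card F = q ^ 2) {A : Type*} [CommRing A] [Algebra F A]
    [Module.Finite F A] {σ : A →+* A} {ℓ : A →ₗ[F] F} (hA : IsUnitAlg q σ ℓ) {n : ℕ} (hn : 2 ≤ n)
    (hfin : Module.finrank F A = n) (v : A) (hv : v * σ v = 1) (hnorm : Algebra.norm F v = 1) {T : ℕ}
    (hT : ∀ (k : ℕ) (l : F), v ^ k = algebraMap F A l → T ∣ k) : T ∈ omega (Cfsg.PSU n F q) := by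
  have hsmul : ∀ (c : F) (a : A), σ (c • a) = c ^ q • σ a := by
    intro c a
    rw [Algebra.smul_def, map_mul, hA.semilin, ← Algebra.smul_def]
  let B : A →ₛₗ[conj hF] A →ₗ[F] F := LinearMap.mk₂'ₛₗ (conj hF) (RingHom.id F)
    (fun a b => ℓ (σ a * b))
    (fun a a' b => by rw [map_add, add_mul, map_add])
    (fun c a b => by rw [hsmul, smul_mul_assoc, map_smul]; rfl)
    (fun a b b' => by rw [mul_add, map_add])
    (fun c a b => by rw [mul_smul_comm, map_smul]; rfl)
  have hBapp : ∀ a b, B a b = ℓ (σ a * b) := fun _ _ => rfl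
  have hS : B.IsSymm := ⟨fun a b => by
    rw [hBapp, hBapp, Cfsg.Agent.Lib.Unitary.conj_apply, ← hA.skew, map_mul, hA.invol, mul_comm]⟩
  have hleft : ∀ a, (∀ b, B a b = 0) → a = 0 := by
    intro a ha
    have h := hA.nondeg (σ a) fun b => ha b
    rw [← hA.invol a, h, map_zero]
  have hnd : B.Nondegenerate := ⟨hleft, fun b hb => hleft b fun a => by
    rw [← hS.eq, hb a, map_zero]⟩
  obtain ⟨b, hb⟩ := Cfsg.Agent.Lib.Forms.exists_orthonormal_herm (conj hF) (conj_ne_id hF)
    (fun a => Cfsg.Agent.Lib.Unitary.pow_q_q hF a) n B hS hnd hfin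
  have hkey : ∀ a a' : A, Cfsg.hermForm n F q (b.equivFun a) (b.equivFun a') = B a' a := by
    intro a a'
    conv_rhs => rw [← b.sum_equivFun a, ← b.sum_equivFun a']
    generalize b.equivFun a = y
    generalize b.equivFun a' = z
    simp [Cfsg.hermForm, map_sum, LinearMap.map_smulₛₗ, LinearMap.sum_apply, hb, mul_comm]
  set M := Algebra.leftMulMatrix b v with hM
  have hmv : ∀ a, Matrix.mulVec M (b.equivFun a) = b.equivFun (v * a) := fun a =>
    Algebra.leftMulMatrix_mulVec_repr b v a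
  have hpres : ∀ x y, Cfsg.hermForm n F q (Matrix.mulVec M x) (Matrix.mulVec M y) = Cfsg.hermForm n F q x y := by
    intro x y
    obtain ⟨a, rfl⟩ := b.equivFun.surjective x
    obtain ⟨a', rfl⟩ := b.equivFun.surjective y
    rw [hmv, hmv, hkey, hkey, hBapp, hBapp, map_mul σ, show σ v * σ a' * (v * a) = v * σ v * (σ a' * a) by ring,
      hv, one_mul]
  let x : Cfsg.SU n F q := ⟨⟨M, by rw [hM, ← Algebra.norm_eq_matrix_det, hnorm]⟩, hpres⟩
  refine omega_of_dvd ⟨(QuotientGroup.mk x : Cfsg.PSU n F q), rfl⟩ ?_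
  have hk := pow_orderOf_eq_one (QuotientGroup.mk x : Cfsg.PSU n F q)
  rw [← QuotientGroup.mk_pow, QuotientGroup.eq_one_iff,
    Cfsg.Agent.Lib.Unitary.mem_center_SU_iff hF hn] at hk
  obtain ⟨l, hl⟩ := hk
  refine hT _ l (Algebra.leftMulMatrix_injective b ?_)
  rw [map_pow, (Algebra.leftMulMatrix b).commutes]
  apply Matrix.toLin'.injective
  apply LinearMap.ext
  intro w
  rw [Matrix.toLin'_apply, Matrix.toLin'_apply, Algebra.algebraMap_eq_smul_one, Matrix.smul_mulVec,
    Matrix.one_mulVec]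
  exact hl w

theorem isUnitAlg_prod [Fintype F] (hF : Fintype.card F = q ^ 2) {A A' : Type*} [CommRing A] [Algebra F A]
    [CommRing A'] [Algebra F A'] {σ : A →+* A} {ℓ : A →ₗ[F] F} {σ' : A' →+* A'} {ℓ' : A' →ₗ[F] F}
    (hA : IsUnitAlg q σ ℓ) (hA' : IsUnitAlg q σ' ℓ') :
    IsUnitAlg q (RingHom.prod (σ.comp (RingHom.fst A A')) (σ'.comp (RingHom.snd A A')))
      (ℓ.coprod ℓ') := by
  refine ⟨fun a => Prod.ext (hA.invol a.1) (hA'.invol a.2), fun c => Prod.ext (hA.semilin c) (hA'.semilin c),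
    fun a => ?_, fun a ha => Prod.ext (hA.nondeg _ fun b => ?_) (hA'.nondeg _ fun b => ?_)⟩
  · change ℓ (σ a.1) + ℓ' (σ' a.2) = (ℓ a.1 + ℓ' a.2) ^ q
    rw [hA.skew, hA'.skew, Cfsg.Agent.Lib.Unitary.add_pow_q hF]
  · simpa using ha (b, 0)
  · simpa using ha (0, b)

theorem isUnitAlg_self [Fintype F] (hF : Fintype.card F = q ^ 2) :
    IsUnitAlg q (conj hF) (LinearMap.id : F →ₗ[F] F) :=
  ⟨fun a => Cfsg.Agent.Lib.Unitary.pow_q_q hF a, fun _ => rfl, fun _ => rfl,
    fun a ha => by simpa using ha 1⟩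

theorem norm_prod_mk {A A' : Type*} [CommRing A] [Algebra F A] [CommRing A'] [Algebra F A']
    [Module.Finite F A] [Module.Finite F A'] (a : A) (b : A') :
    Algebra.norm F ((a, b) : A × A') = Algebra.norm F a * Algebra.norm F b := by
  rw [Algebra.norm_apply, Algebra.norm_apply, Algebra.norm_apply, ← LinearMap.det_prodMap]
  congr 1

theorem pow_q_pow_odd [Fintype F] (hF : Fintype.card F = q ^ 2) (c : F) {m : ℕ} (hm : Odd m) :
    c ^ q ^ m = c ^ q := by
  obtain ⟨i, rfl⟩ := hm
  rw [pow_succ, pow_mul q 2, pow_mul, ← hF, FiniteField.pow_card_pow]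

theorem algebraMap_pow_q_trace [Fintype F] (hF : Fintype.card F = q ^ 2) {K : Type*} [Field K] [Finite K]
    [Algebra F K] {m : ℕ} (hm : Odd m) (x : K) :
    Algebra.trace F K (x ^ q ^ m) = Algebra.trace F K x ^ q := by
  obtain ⟨p, k, hp, hc, -, rfl⟩ := Cfsg.Agent.Lib.Unitary.q_eq_primePow hF
  have := Fact.mk hp
  have : CharP K p := charP_of_injective_algebraMap (algebraMap F K).injective p
  apply (algebraMap F K).injective
  rw [← pow_q_pow_odd hF (Algebra.trace F K x) hm, map_pow (algebraMap F K), FiniteField.algebraMap_trace_eq_sum_pow,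
    FiniteField.algebraMap_trace_eq_sum_pow, ← pow_mul p k m, sum_pow_char_pow]
  exact Finset.sum_congr rfl fun i _ => pow_right_comm _ _ _

theorem exists_unipotent_unitAlg [Fintype F] (hF : Fintype.card F = q ^ 2) (p : ℕ) [Fact p.Prime]
    [CharP F p] {d : ℕ} (hd : 1 ≤ d) :
    ∃ (A : Type u) (_ : CommRing A) (_ : Algebra F A) (_ : Module.Finite F A)
      (σ : A →+* A) (ℓ : A →ₗ[F] F) (v : A), IsUnitAlg q σ ℓ ∧ Module.finrank F A = d ∧
        v * σ v = 1 ∧ v ^ unipExp p d = 1 ∧ Algebra.norm F v = 1 ∧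
        ∀ (k : ℕ) (l : F), v ^ k = algebraMap F A l → unipExp p d ∣ k := by
  have hp : p.Prime := Fact.out
  have hmon : (X ^ d : F[X]).Monic := monic_X_pow _
  let A := AdjoinRoot (X ^ d : F[X])
  let pb := AdjoinRoot.powerBasis' hmon
  have hdim : pb.dim = d := by simp [pb]
  have hgen : pb.gen = AdjoinRoot.root _ := AdjoinRoot.powerBasis'_gen hmon
  have : Module.Finite F A := Module.Finite.of_basis pb.basis
  have : Nontrivial A := AdjoinRoot.nontrivial _ (by simp; omega)
  set x : A := AdjoinRoot.root (X ^ d : F[X]) with hx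
  have hxd : x ^ d = 0 := by
    have := AdjoinRoot.mk_self (f := (X ^ d : F[X]))
    rwa [map_pow, AdjoinRoot.mk_X] at this
  let σ : A →+* A := AdjoinRoot.lift ((algebraMap F A).comp (conj hF)) x
    (by rw [eval₂_X_pow, hxd])
  have hσx : σ x = x := AdjoinRoot.lift_root _
  have hσc : ∀ c : F, σ (algebraMap F A c) = algebraMap F A (c ^ q) := fun c => by
    rw [AdjoinRoot.algebraMap_eq]
    exact AdjoinRoot.lift_of _
  have hbasis : ∀ i : Fin pb.dim, pb.basis i = x ^ (i : ℕ) := fun i => by rw [pb.basis_eq_pow, hgen]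
  have hcoord : ∀ (i : Fin pb.dim) (m : ℕ), pb.basis.coord i (x ^ m) = if m = (i : ℕ) then 1 else 0 := by
    intro i m
    by_cases hm : m < d
    · have h := hbasis ⟨m, by rw [hdim]; exact hm⟩
      simp only at h
      rw [← h]
      simp only [Module.Basis.coord_apply, Module.Basis.repr_self, Finsupp.single_apply, Fin.ext_iff]
    · rw [pow_eq_zero_of_le (not_lt.1 hm) hxd, map_zero, if_neg (by have := i.2; omega)]
  let ℓ : A →ₗ[F] F := pb.basis.coord ⟨d - 1, by rw [hdim]; omega⟩
  have hℓ : ∀ m, ℓ (x ^ m) = if m = d - 1 then 1 else 0 := fun m => hcoord _ m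
  have hσsum : ∀ a, σ a = ∑ i, (pb.basis.repr a i) ^ q • pb.basis i := by
    intro a
    conv_lhs => rw [← pb.basis.sum_repr a]
    rw [map_sum]
    refine Finset.sum_congr rfl fun i _ => ?_
    rw [Algebra.smul_def, map_mul, hσc, hbasis, map_pow σ, hσx, ← Algebra.smul_def]
  have hA : IsUnitAlg q σ ℓ := by
    refine ⟨fun a => ?_, hσc, fun a => ?_, fun a ha => ?_⟩
    · rw [hσsum a, map_sum]
      refine (Finset.sum_congr rfl fun i _ => ?_).trans (pb.basis.sum_repr a)
      rw [Algebra.smul_def, map_mul, hσc, hbasis, map_pow σ, hσx, Cfsg.Agent.Lib.Unitary.pow_q_q hF,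
        ← Algebra.smul_def]
    · rw [hσsum a]
      conv_rhs => rw [← pb.basis.sum_repr a]
      rw [map_sum, map_sum, Cfsg.Agent.Lib.Unitary.sum_pow_q hF]
      refine Finset.sum_congr rfl fun i _ => ?_
      rw [map_smul, map_smul, hbasis, hℓ, smul_eq_mul, smul_eq_mul, mul_pow]
      split
      · rw [one_pow]
      · rw [Cfsg.Agent.Lib.Unitary.zero_pow_q hF]
    · rw [← pb.basis.forall_coord_eq_zero_iff]
      intro i
      have hi := i.2
      have h := ha (x ^ (d - 1 - (i : ℕ)))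
      rw [← pb.basis.sum_repr a, Finset.sum_mul, map_sum, Finset.sum_eq_single i] at h
      · rw [smul_mul_assoc, map_smul, hbasis, ← pow_add, hℓ, if_pos (by omega), smul_eq_mul, mul_one] at h
        exact h
      · intro j _ hj
        rw [smul_mul_assoc, map_smul, hbasis, ← pow_add, hℓ, if_neg (fun he => hj (Fin.ext (by omega))),
          smul_zero]
      · exact fun h' => absurd (Finset.mem_univ i) h'
  obtain ⟨c, hc⟩ : ∃ c : F, c ^ q ≠ c := by
    by_contra hcon
    push Not at hcon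
    exact conj_ne_id hF (RingHom.ext fun c => hcon c)
  set C : A := algebraMap F A c with hC
  set C' : A := algebraMap F A (c ^ q) with hC'
  set G : A := ∑ i ∈ Finset.range d, (-(C' * x)) ^ i with hG
  have hG1 : (1 + C' * x) * G = 1 := by
    have h := mul_neg_geom_sum (-(C' * x)) d
    rwa [← hG, sub_neg_eq_add, neg_pow, mul_pow, hxd, mul_zero, mul_zero, sub_zero] at h
  have hG2 : (1 + C * x) * σ G = 1 := by
    have h := congrArg σ hG1
    rwa [map_mul, map_one, map_add, map_one, map_mul, hσx, hC', hσc,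
      Cfsg.Agent.Lib.Unitary.pow_q_q hF, ← hC] at h
  have : CharP A p := charP_of_injective_algebraMap (algebraMap F A).injective p
  have hv : ∀ i, ((1 + C * x) * G) ^ p ^ i * (1 + C' ^ p ^ i * x ^ p ^ i) = 1 + C ^ p ^ i * x ^ p ^ i := by
    intro i
    have e1 : (1 + C' ^ p ^ i * x ^ p ^ i) = (1 + C' * x) ^ p ^ i := by
      rw [add_pow_char_pow 1 (C' * x) p i, one_pow, mul_pow]
    rw [e1, ← mul_pow, mul_assoc, mul_comm G, hG1, mul_one, add_pow_char_pow 1 (C * x) p i, one_pow, mul_pow]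
  have hP : ((1 + C * x) * G) ^ unipExp p d = 1 := by
    have := hv (Nat.clog p d)
    rwa [show x ^ p ^ Nat.clog p d = 0 from pow_eq_zero_of_le (le_unipExp hp.one_lt d) hxd,
      mul_zero, mul_zero, add_zero, mul_one] at this
  refine ⟨A, inferInstance, inferInstance, inferInstance, σ, ℓ, (1 + C * x) * G, hA,
    by rw [pb.finrank, hdim], ?_, hP, ?_, ?_⟩
  · rw [map_mul, map_add, map_one, map_mul, hσx, hσc, ← hC']
    calc (1 + C * x) * G * ((1 + C' * x) * σ G) = ((1 + C' * x) * G) * ((1 + C * x) * σ G) := by ring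
      _ = 1 := by rw [hG1, hG2, one_mul]
  · have h := congrArg (Algebra.norm F) hP
    rw [map_pow, map_one] at h
    have h2 : (Algebra.norm F ((1 + C * x) * G) - 1) ^ unipExp p d = 0 := by
      rw [unipExp, sub_pow_char_pow, ← unipExp, h, one_pow, sub_self]
    exact sub_eq_zero.1 (eq_zero_of_pow_eq_zero h2)
  · intro k l hkl
    rcases Nat.eq_zero_or_pos k with rfl | hk0
    · exact dvd_zero _
    set i := k.factorization p with hi
    rcases le_or_gt (Nat.clog p d) i with hle | hlt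
    · exact (pow_dvd_pow p hle).trans (Nat.ordProj_dvd k p)
    exfalso
    set m := k / p ^ i with hm
    have hkm : k = p ^ i * m := (Nat.mul_div_cancel' (Nat.ordProj_dvd k p)).symm
    have hcop : m.Coprime (unipExp p d) :=
      Nat.Coprime.pow_right _ (Nat.coprime_ordCompl hp hk0.ne').symm
    have hP1 : 1 < unipExp p d := Nat.one_lt_pow (by omega) hp.one_lt
    obtain ⟨j, -, hj⟩ := Nat.exists_mul_mod_eq_one_of_coprime hcop hP1
    have hscal : ((1 + C * x) * G) ^ p ^ i = algebraMap F A (l ^ j) := by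
      rw [map_pow, ← hkl, hkm, ← pow_mul, mul_assoc, ← Nat.mod_add_div (m * j) (unipExp p d), hj,
        mul_add, mul_one, pow_add, mul_left_comm, pow_mul _ (unipExp p d), hP, one_pow, mul_one]
    have hpj : p ^ i < d := by
      by_contra hcon
      exact absurd ((Nat.clog_le_iff_le_pow hp.one_lt).2 (not_lt.1 hcon)) (not_le.2 hlt)
    have h0 := hv i
    rw [hscal, hC', hC, ← map_pow (algebraMap F A), ← map_pow (algebraMap F A), mul_add, mul_one,
      ← mul_assoc, ← map_mul, ← Algebra.smul_def, ← Algebra.smul_def, Algebra.algebraMap_eq_smul_one] at h0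
    have hone : (1 : A) = x ^ 0 := (pow_zero x).symm
    rw [hone] at h0
    have e0 := congrArg (pb.basis.coord ⟨0, by rw [hdim]; omega⟩) h0
    have e1 := congrArg (pb.basis.coord ⟨p ^ i, by rw [hdim]; exact hpj⟩) h0
    have hpi : p ^ i ≠ 0 := (pow_pos hp.pos i).ne'
    simp only [map_add, map_smul, hcoord, if_pos, if_neg hpi, if_neg (Ne.symm hpi), smul_eq_mul, mul_one,
      mul_zero, add_zero, zero_add] at e0 e1
    rw [e0, one_mul] at e1
    have h2 : (c ^ q - c) ^ p ^ i = 0 := by rw [sub_pow_char_pow, e1, sub_self]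
    exact hc (sub_eq_zero.1 (eq_zero_of_pow_eq_zero h2))

end Cfsg.Agent.Lib.LinearOrders
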