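import Mathlib

/-!
Semisimple element orders in general linear groups over finite fields.
-/

set_option autoImplicit false

namespace Cfsg.Agent.Lib.LinearOrders

open Matrix Polynomial

variable {F : Type*} [Field F]

/-- `A ↦ diag(A, 1)` on square matrices. -/
def blockMatHom {d n : ℕ} (h : d ≤ n) :
    Matrix (Fin d) (Fin d) F →* Matrix (Fin n) (Fin n) F where
  toFun A := (fromBlocks A 0 0 (1 : Matrix (Fin (n - d)) (Fin (n - d)) F)).submatrix
      (finSumFinEquiv.trans (finCongr (Nat.add_sub_cancel' h))).symm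
      (finSumFinEquiv.trans (finCongr (Nat.add_sub_cancel' h))).symm
  map_one' := by rw [fromBlocks_one, submatrix_one_equiv]
  map_mul' A B := by
    rw [submatrix_mul_equiv, fromBlocks_multiply]
    simp

theorem blockMatHom_injective {d n : ℕ} (h : d ≤ n) :
    Function.Injective (blockMatHom (F := F) h) := by
  intro A B hAB
  ext i j
  have := congrFun (congrFun hAB ((finSumFinEquiv.trans (finCongr (Nat.add_sub_cancel' h))) (Sum.inl i)))
    ((finSumFinEquiv.trans (finCongr (Nat.add_sub_cancel' h))) (Sum.inl j))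
  simpa [blockMatHom] using this

/-- `A ↦ diag(A, 1)` from `GL_d` to `GL_n`. -/
def blockEmb {d n : ℕ} (h : d ≤ n) : GL (Fin d) F →* GL (Fin n) F :=
  Units.map (blockMatHom h)

theorem blockEmb_injective {d n : ℕ} (h : d ≤ n) : Function.Injective (blockEmb (F := F) h) :=
  Units.map_injective (blockMatHom_injective h)

theorem exists_orderOf_eq_pow_sub_one [Fintype F] {d n : ℕ} (hd : 1 ≤ d) (h : d ≤ n) :
    ∃ g : GL (Fin n) F, orderOf g = Fintype.card F ^ d - 1 := by
  obtain ⟨p, hchar⟩ := CharP.exists F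
  have : Fact p.Prime := ⟨CharP.char_is_prime F p⟩
  have : NeZero d := ⟨by omega⟩
  let K := FiniteField.Extension F p d
  obtain ⟨u, hu⟩ := IsCyclic.exists_ofOrder_eq_natCard (α := Kˣ)
  let b : Module.Basis (Fin d) F K :=
    Module.finBasisOfFinrankEq F K (FiniteField.finrank_extension F p d)
  let f : Kˣ →* GL (Fin d) F := Units.map (Algebra.leftMulMatrix b).toRingHom.toMonoidHom
  have hf : Function.Injective f := Units.map_injective (Algebra.leftMulMatrix_injective b)
  refine ⟨blockEmb h (f u), ?_⟩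
  rw [orderOf_injective _ (blockEmb_injective h), orderOf_injective f hf, hu, Nat.card_units,
    FiniteField.natCard_extension, Nat.card_eq_fintype_card]

theorem mem_range_orderOf_GL [Fintype F] {d n m : ℕ} (hd : 1 ≤ d) (h : d ≤ n)
    (hm : m ∣ Fintype.card F ^ d - 1) :
    m ∈ Set.range (orderOf : GL (Fin n) F → ℕ) := by
  obtain ⟨g, hg⟩ := exists_orderOf_eq_pow_sub_one (F := F) hd h
  refine ⟨g ^ (orderOf g / m), orderOf_pow_orderOf_div ?_ (hg ▸ hm)⟩
  exact (orderOf_pos g).ne'

theorem prime_pow_dvd_pow_sub_one [Fintype F] (p : ℕ) [CharP F p] {n : ℕ} (hn : 1 ≤ n)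
    (g : GL (Fin n) F) {r e : ℕ} (hr : r.Prime) (hrp : r ≠ p) (hdvd : r ^ e ∣ orderOf g) :
    ∃ d, 1 ≤ d ∧ d ≤ n ∧ r ^ e ∣ Fintype.card F ^ d - 1 := by
  classical
  rcases e with _ | e
  · exact ⟨1, le_rfl, hn, one_dvd _⟩
  set h : GL (Fin n) F := g ^ (orderOf g / r ^ (e + 1)) with hhdef
  have hord : orderOf h = r ^ (e + 1) := orderOf_pow_orderOf_div (orderOf_pos g).ne' hdvd
  set A : Matrix (Fin n) (Fin n) F := (h : Matrix (Fin n) (Fin n) F) with hA
  have hp : p.Prime := CharP.char_is_prime F p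
  have hne : ((r ^ (e + 1) : ℕ) : F) ≠ 0 := by
    rw [Ne, CharP.cast_eq_zero_iff F p]
    intro hh
    exact hrp ((Nat.prime_dvd_prime_iff_eq hp hr).1 (hp.dvd_of_dvd_pow hh)).symm
  set P : F[X] := X ^ r ^ (e + 1) - C 1 with hP
  have hPsep : P.Separable := separable_X_pow_sub_C 1 hne one_ne_zero
  have hAP : aeval A P = 0 := by
    have : A ^ r ^ (e + 1) = 1 := by
      rw [hA, ← Units.val_pow_eq_pow_val, ← hord, pow_orderOf_eq_one, Units.val_one]
    simp [hP, this]
  set m := minpoly F A with hm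
  have hmP : m ∣ P := minpoly.dvd F A hAP
  have hm0 : m ≠ 0 := minpoly.ne_zero (Matrix.isIntegral A)
  have hmsq : Squarefree m := hPsep.squarefree.squarefree_of_dvd hmP
  have hQ0 : (X ^ r ^ e - C 1 : F[X]) ≠ 0 := X_pow_sub_C_ne_zero (pow_pos hr.pos e) 1
  have hnot : ¬ m ∣ X ^ r ^ e - C 1 := by
    intro hd
    have h0 : aeval A (X ^ r ^ e - C 1 : F[X]) = 0 := by
      obtain ⟨c, hc⟩ := hd
      rw [hc, map_mul, hm, minpoly.aeval, zero_mul]
    simp [sub_eq_zero] at h0
    have h1 : h ^ r ^ e = 1 := Units.ext (by rw [Units.val_pow_eq_pow_val, ← hA, h0, Units.val_one])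
    have h2 : r ^ (e + 1) ∣ r ^ e := hord ▸ orderOf_dvd_of_pow_eq_one h1
    have h3 := (Nat.pow_dvd_pow_iff_le_right hr.one_lt).1 h2
    omega
  have hex : ∃ f ∈ UniqueFactorizationMonoid.normalizedFactors m, ¬ f ∣ X ^ r ^ e - C 1 := by
    by_contra hcon
    push Not at hcon
    apply hnot
    rw [UniqueFactorizationMonoid.dvd_iff_normalizedFactors_le_normalizedFactors hm0 hQ0,
      Multiset.le_iff_subset ((UniqueFactorizationMonoid.squarefree_iff_nodup_normalizedFactors hm0).1 hmsq)]
    intro f hf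
    rw [UniqueFactorizationMonoid.mem_normalizedFactors_iff' hQ0]
    exact ⟨UniqueFactorizationMonoid.irreducible_of_normalized_factor f hf,
      UniqueFactorizationMonoid.normalize_normalized_factor f hf, hcon f hf⟩
  obtain ⟨f, hf, hfQ⟩ := hex
  have hfirr : Irreducible f := UniqueFactorizationMonoid.irreducible_of_normalized_factor f hf
  have hfm : f ∣ m := UniqueFactorizationMonoid.dvd_of_mem_normalizedFactors hf
  have hdeg : f.natDegree ≤ n := by
    refine (natDegree_le_of_dvd hfm hm0).trans ?_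
    refine (natDegree_le_of_dvd (Matrix.minpoly_dvd_charpoly A) (Matrix.charpoly_monic A).ne_zero).trans ?_
    rw [Matrix.charpoly_natDegree_eq_dim, Fintype.card_fin]
  refine ⟨f.natDegree, hfirr.natDegree_pos, hdeg, ?_⟩
  have : Fact (Irreducible f) := ⟨hfirr⟩
  set α : AdjoinRoot f := AdjoinRoot.root f with hαdef
  have hα1 : α ^ r ^ (e + 1) = 1 := by
    have h0 : AdjoinRoot.mk f P = 0 := AdjoinRoot.mk_eq_zero.2 (hfm.trans hmP)
    simpa [hP, hαdef, sub_eq_zero] using h0
  have hα2 : α ^ r ^ e ≠ 1 := by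
    intro h0
    apply hfQ
    rw [← AdjoinRoot.mk_eq_zero]
    simp [← hαdef, h0]
  have := Module.Finite.of_basis (AdjoinRoot.powerBasis hfirr.ne_zero).basis
  have : Finite (AdjoinRoot f) := Module.finite_of_finite F
  have := Fintype.ofFinite (AdjoinRoot f)
  have : Fact r.Prime := ⟨hr⟩
  have hcard : Fintype.card (AdjoinRoot f) = Fintype.card F ^ f.natDegree := by
    rw [Fintype.card_eq_nat_card, Module.natCard_eq_pow_finrank (K := F),
      (AdjoinRoot.powerBasis hfirr.ne_zero).finrank, AdjoinRoot.powerBasis_dim, Nat.card_eq_fintype_card]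
  have hαord : orderOf α = r ^ (e + 1) := orderOf_eq_prime_pow hα2 hα1
  have hα0 : α ≠ 0 := by
    intro h0
    rw [h0, zero_pow (pow_pos hr.pos _).ne'] at hα1
    exact zero_ne_one hα1
  rw [← hαord, ← hcard]
  exact orderOf_dvd_of_pow_eq_one (FiniteField.pow_card_sub_one_eq_one α hα0)

theorem units_eq_one_of_card_two [Fintype F] (hF : Fintype.card F = 2) (u : Fˣ) : u = 1 := by
  have h : Nat.card Fˣ = 1 := by rw [Nat.card_units, Nat.card_eq_fintype_card, hF]
  have := (Nat.card_eq_one_iff_unique.1 h).1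
  exact Subsingleton.elim u 1

/-- Over the field with two elements `SL_n = GL_n`. -/
noncomputable def slEquivGL [Fintype F] (hF : Fintype.card F = 2) (n : ℕ) :
    SpecialLinearGroup (Fin n) F ≃* GL (Fin n) F :=
  MulEquiv.ofBijective SpecialLinearGroup.toGL
    ⟨SpecialLinearGroup.toGL_injective, fun g => ⟨⟨(g : Matrix (Fin n) (Fin n) F), by
      have := congrArg Units.val (units_eq_one_of_card_two hF (GeneralLinearGroup.det g))
      simpa using this⟩, Units.ext rfl⟩⟩

theorem center_SL_eq_bot [Fintype F] (hF : Fintype.card F = 2) (n : ℕ) :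
    Subgroup.center (SpecialLinearGroup (Fin n) F) = ⊥ := by
  rw [eq_bot_iff]
  intro A hA
  obtain ⟨r, hr, hA⟩ := Matrix.SpecialLinearGroup.mem_center_iff.1 hA
  rw [Subgroup.mem_bot]
  rcases n with _ | n
  · exact Matrix.SpecialLinearGroup.ext _ _ (fun i => i.elim0)
  · have hr0 : r ≠ 0 := by
      intro h0
      simp [h0] at hr
    have : r = 1 := congrArg Units.val (units_eq_one_of_card_two hF (Units.mk0 r hr0))
    subst this
    apply Subtype.ext
    rw [← hA]
    simp

/-- Over the field with two elements `PSL_n = GL_n`. -/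
noncomputable def pslEquivGL [Fintype F] (hF : Fintype.card F = 2) (n : ℕ) :
    ProjectiveSpecialLinearGroup (Fin n) F ≃* GL (Fin n) F :=
  ((QuotientGroup.quotientMulEquivOfEq (center_SL_eq_bot hF n)).trans QuotientGroup.quotientBot).trans
    (slEquivGL hF n)

end Cfsg.Agent.Lib.LinearOrders
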