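import Cfsg.Agent.Lib.LinearOrders.Unipotent

/-!
Operators with irreducible minimal polynomial and their commutants; finite field polynomial facts.
-/

set_option autoImplicit false

namespace Cfsg.Agent.Lib.LinearOrders

open Polynomial

variable {F : Type*} [Field F]

theorem sub_one_pow_char_pow {R : Type*} [Ring R] {p : ℕ} (hp : p.Prime) (hR : (p : R) = 0) (x : R) (i : ℕ) :
    x ^ p ^ i = (x - 1) ^ p ^ i + 1 := by
  obtain ⟨r, hr⟩ := (Commute.one_right (x - 1)).exists_add_pow_prime_pow_eq hp i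
  rw [sub_add_cancel, one_pow, hR, zero_mul, zero_mul, zero_mul, add_zero] at hr
  exact hr

/-- The basic facts about the commutant of an operator annihilated by an irreducible polynomial. -/
theorem commutant_facts [Finite F] (p : ℕ) [Fact p.Prime] [CharP F p] {W : Type*} [AddCommGroup W]
    [Module F W] [Module.Finite F W] (T : Module.End F W) {f : F[X]} (hf : Irreducible f)
    (hT : aeval T f = 0) :
    ∃ e, f.natDegree * e = Module.finrank F W ∧ ∀ G : Module.End F W, Commute G T →
      (∀ i, G ^ p ^ i = 1 → G ^ unipExp p e = 1) ∧ (e = 1 → ∃ r : F[X], G = aeval T r) := by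
  have : Fact (Irreducible f) := ⟨hf⟩
  let E := AdjoinRoot f
  let pb := AdjoinRoot.powerBasis hf.ne_zero
  have : Module.Finite F E := Module.Finite.of_basis pb.basis
  have hker : ∀ a : F[X], a ∈ Ideal.span {f} → (aeval T : F[X] →ₐ[F] _) a = 0 := by
    intro a ha
    obtain ⟨c, rfl⟩ := Ideal.mem_span_singleton.1 ha
    rw [map_mul, hT, zero_mul]
  let toEnd : E →ₐ[F] Module.End F W := Ideal.Quotient.liftₐ _ (aeval T) hker
  have hmk : ∀ r : F[X], toEnd (AdjoinRoot.mk f r) = aeval T r := fun _ => rfl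
  letI : Module E W := Module.compHom _ toEnd.toRingHom
  have hsmul : ∀ (x : E) (v : W), x • v = toEnd x v := fun _ _ => rfl
  haveI : IsScalarTower F E W := ⟨fun a x v => by
    rw [hsmul, hsmul, map_smul, LinearMap.smul_apply]⟩
  have : Module.Finite E W := Module.Finite.of_restrictScalars_finite F E _
  have hdeg : Module.finrank F E = f.natDegree := by
    rw [pb.finrank, AdjoinRoot.powerBasis_dim]
  refine ⟨Module.finrank E W, by rw [← hdeg, Module.finrank_mul_finrank], fun G hG => ?_⟩
  have hlin : ∀ (x : E) (v : W), G (x • v) = x • G v := by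
    intro x v
    obtain ⟨r, rfl⟩ := AdjoinRoot.mk_surjective x
    rw [hsmul, hsmul, hmk]
    have hc : Commute G (aeval T r) := by
      induction r using Polynomial.induction_on' with
      | add a b ha hb => rw [map_add]; exact ha.add_right hb
      | monomial k a =>
        rw [aeval_monomial, ← Algebra.smul_def]
        exact (hG.pow_right k).smul_right a
    exact LinearMap.congr_fun hc.eq v
  let Gl : Module.End E W := { toFun := G, map_add' := map_add G, map_smul' := hlin }
  have hpow : ∀ (k : ℕ) (v : W), (Gl ^ k) v = (G ^ k) v := by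
    intro k
    induction k with
    | zero => intro v; rfl
    | succ k ih =>
      intro v
      rw [pow_succ, pow_succ, Module.End.mul_apply, Module.End.mul_apply, ih]
      rfl
  refine ⟨fun i hi => ?_, fun he => ?_⟩
  · have hp0 : ((p : ℕ) : Module.End E W) = 0 := by
      apply LinearMap.ext
      intro v
      rw [Module.End.natCast_apply, LinearMap.zero_apply, ← Nat.cast_smul_eq_nsmul F, CharP.cast_eq_zero,
        zero_smul]
    have hG1 : Gl ^ p ^ i = 1 := LinearMap.ext fun v => by rw [hpow, hi]; rfl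
    rw [sub_one_pow_char_pow Fact.out hp0 Gl i, add_eq_right] at hG1
    have hN : (Gl - 1) ^ Module.finrank E W = 0 := by
      have h := LinearMap.aeval_self_charpoly (Gl - 1)
      rwa [IsNilpotent.charpoly_eq_X_pow_finrank ⟨_, hG1⟩, map_pow, aeval_X] at h
    have h : (Gl - 1) ^ unipExp p (Module.finrank E W) = 0 :=
      pow_eq_zero_of_le (le_unipExp (Fact.out : p.Prime).one_lt _) hN
    apply LinearMap.ext
    intro v
    rw [← hpow, unipExp, sub_one_pow_char_pow Fact.out hp0 Gl]
    rw [unipExp] at h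
    rw [h, zero_add]
    rfl
  · obtain ⟨v, -, hv⟩ := finrank_eq_one_iff'.1 he
    obtain ⟨c, hc⟩ := hv (G v)
    obtain ⟨r, rfl⟩ := AdjoinRoot.mk_surjective c
    refine ⟨r, LinearMap.ext fun w => ?_⟩
    obtain ⟨x, rfl⟩ := hv w
    rw [hlin, ← hc, ← hmk, ← hsmul, ← mul_smul, ← mul_smul, mul_comm]

theorem aeval_eq_zero_of_not_dvd {A : Type*} [Ring A] [Algebra F A] {T : A} {f g : F[X]}
    (hf : Irreducible f) (hT : aeval T f = 0) (hg : aeval T g = 0) (hfg : ¬ f ∣ g) :
    Subsingleton A := by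
  obtain ⟨u, v, huv⟩ := hf.coprime_iff_not_dvd.2 hfg
  have := congrArg (aeval T) huv
  rw [map_add, map_mul, map_mul, hT, hg, mul_zero, mul_zero, add_zero, map_one] at this
  exact subsingleton_of_zero_eq_one this

theorem aeval_eq_one_or_neg_one {A : Type*} [Ring A] [Algebra F A] {T : A} {f : F[X]}
    (hf : Irreducible f) (hT : aeval T f = 0) (r : F[X]) (h : aeval T r * aeval T r = 1) :
    aeval T r = 1 ∨ aeval T r = -1 := by
  by_cases hd : f ∣ r * r - 1
  · rw [show r * r - 1 = (r - 1) * (r + 1) by ring] at hd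
    rcases hf.prime.dvd_mul.1 hd with hd | hd <;> obtain ⟨c, hc⟩ := hd <;>
      have hc' := congrArg (aeval T) hc
    · rw [map_sub, map_one, map_mul, hT, zero_mul, sub_eq_zero] at hc'
      exact Or.inl hc'
    · rw [map_add, map_one, map_mul, hT, zero_mul, add_eq_zero_iff_eq_neg] at hc'
      exact Or.inr hc'
  · have := aeval_eq_zero_of_not_dvd hf hT (g := r * r - 1) (by simp [h]) hd
    exact Or.inl (Subsingleton.elim _ _)

theorem aeval_pow_card_sub_one [Fintype F] {A : Type*} [Ring A] [Algebra F A] {T : A} {f : F[X]}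
    (hf : Irreducible f) (hT : aeval T f = 0) (r : F[X]) (h : aeval T r ≠ 0) :
    aeval T r ^ (Fintype.card F ^ f.natDegree - 1) = 1 := by
  classical
  have : Fact (Irreducible f) := ⟨hf⟩
  have := Module.Finite.of_basis (AdjoinRoot.powerBasis hf.ne_zero).basis
  have : Finite (AdjoinRoot f) := Module.finite_of_finite F
  have := Fintype.ofFinite (AdjoinRoot f)
  have hcard : Fintype.card (AdjoinRoot f) = Fintype.card F ^ f.natDegree := by
    rw [Fintype.card_eq_nat_card, Module.natCard_eq_pow_finrank (K := F),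
      (AdjoinRoot.powerBasis hf.ne_zero).finrank, AdjoinRoot.powerBasis_dim, Nat.card_eq_fintype_card]
  have hr : AdjoinRoot.mk f r ≠ 0 := by
    rw [Ne, AdjoinRoot.mk_eq_zero]
    rintro ⟨c, rfl⟩
    exact h (by rw [map_mul, hT, zero_mul])
  have h1 := FiniteField.pow_card_sub_one_eq_one _ hr
  rw [hcard, ← map_pow, ← map_one (AdjoinRoot.mk f), AdjoinRoot.mk_eq_mk] at h1
  obtain ⟨c, hc⟩ := h1
  have := congrArg (aeval T) hc
  rw [map_sub, map_pow, map_one, map_mul, hT, zero_mul, sub_eq_zero] at this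
  exact this

theorem comp_X_pow_card_pow [Fintype F] (r : F[X]) (d : ℕ) :
    r.comp (X ^ Fintype.card F ^ d) = r ^ Fintype.card F ^ d := by
  rw [← Polynomial.expand_eq_comp_X_pow]
  induction d with
  | zero => simp
  | succ d ih =>
    rw [pow_succ, mul_comm, Polynomial.expand_mul, ih, map_pow, FiniteField.expand_card, ← pow_mul]

theorem exists_half_degree [Fintype F] {f : F[X]} (hf : Irreducible f) {o : ℕ} (ho : 1 ≤ o)
    (hfo : f ∣ X ^ o - 1) (hinv : f ∣ f.comp (X ^ (o - 1))) (hne : ¬ f ∣ X ^ 2 - 1) :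
    ∃ d, f.natDegree = 2 * d ∧ f ∣ X ^ (o - 1) - X ^ Fintype.card F ^ d := by
  classical
  have : Fact (Irreducible f) := ⟨hf⟩
  let pb := AdjoinRoot.powerBasis hf.ne_zero
  have := Module.Finite.of_basis pb.basis
  have : Finite (AdjoinRoot f) := Module.finite_of_finite F
  set α : AdjoinRoot f := AdjoinRoot.root f with hα
  have hαo : α ^ o = 1 := by
    have h := AdjoinRoot.mk_eq_zero.2 hfo
    simpa [← hα, sub_eq_zero] using h
  have hαf : aeval (α ^ (o - 1)) f = 0 := by
    have h := AdjoinRoot.mk_eq_zero.2 hinv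
    rw [← AdjoinRoot.aeval_eq, aeval_comp, map_pow, aeval_X] at h
    exact h
  let σ : AdjoinRoot f →ₐ[F] AdjoinRoot f :=
    AdjoinRoot.liftAlgHom f (Algebra.ofId F _) (α ^ (o - 1)) (by simpa [aeval_def] using hαf)
  have hσ : σ α = α ^ (o - 1) := AdjoinRoot.liftAlgHom_root _ _ _ _
  have hinv' : α * α ^ (o - 1) = 1 := by rw [← pow_succ', Nat.sub_add_cancel ho, hαo]
  have hσσ : σ (σ α) = α := by
    have h2 : (σ α) * σ (σ α) = 1 := by rw [← map_mul, hσ, hinv', map_one]
    rw [hσ] at h2 ⊢
    calc σ (α ^ (o - 1)) = α * α ^ (o - 1) * σ (α ^ (o - 1)) := by rw [hinv', one_mul]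
      _ = α := by rw [mul_assoc, h2, mul_one]
  obtain ⟨⟨j, hj⟩, hjσ⟩ := (FiniteField.bijective_frobeniusAlgHom_pow F (AdjoinRoot f)).2 σ
  have happ : ∀ (i : ℕ) (x : AdjoinRoot f),
      (FiniteField.frobeniusAlgHom F (AdjoinRoot f) ^ i) x = x ^ Fintype.card F ^ i := by
    intro i x
    rw [AlgHom.coe_pow, FiniteField.coe_frobeniusAlgHom, pow_iterate]
  have hjα : α ^ (o - 1) = α ^ Fintype.card F ^ j := by
    rw [← hσ, ← happ]
    exact congrArg (fun φ : AdjoinRoot f →ₐ[F] AdjoinRoot f => φ α) hjσ.symm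
  have hfix : FiniteField.frobeniusAlgHom F (AdjoinRoot f) ^ (2 * j) = 1 := by
    apply AdjoinRoot.algHom_ext
    have hjσ' : FiniteField.frobeniusAlgHom F (AdjoinRoot f) ^ j = σ := hjσ
    rw [← hα, two_mul, pow_add, AlgHom.mul_apply, hjσ', hσσ]
    rfl
  have hdvd := orderOf_dvd_of_pow_eq_one hfix
  rw [FiniteField.orderOf_frobeniusAlgHom, pb.finrank, AdjoinRoot.powerBasis_dim] at hdvd
  rw [pb.finrank, AdjoinRoot.powerBasis_dim] at hj
  have hj0 : j ≠ 0 := by
    rintro rfl
    apply hne
    rw [← AdjoinRoot.mk_eq_zero, map_sub, map_pow, map_one, AdjoinRoot.mk_X, ← hα, sub_eq_zero, sq]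
    rw [pow_zero, pow_one] at hjα
    calc α * α = α * α ^ (o - 1) := by rw [hjα]
      _ = 1 := hinv'
  obtain ⟨c, hc⟩ := hdvd
  have hc1 : c = 1 := by
    rcases c with _ | _ | c
    · omega
    · rfl
    · exfalso
      have : f.natDegree * 2 ≤ f.natDegree * (c + 1 + 1) := Nat.mul_le_mul_left _ (by omega)
      omega
  subst hc1
  refine ⟨j, by omega, ?_⟩
  rw [← AdjoinRoot.mk_eq_zero, map_sub, map_pow, map_pow, AdjoinRoot.mk_X, ← hα, hjα, sub_self]

end Cfsg.Agent.Lib.LinearOrders
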