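import Cfsg.Agent.Lib.Symplectic.Std
import Cfsg.Agent.Lib.LinearOrders.Unipotent
import Cfsg.Agent.Lib.OrderSets.Basic

/-!
Element orders of `PSp_2n(q)` from commutative algebras with involution and skew functional.
-/

set_option autoImplicit false

namespace Cfsg.Agent.Lib.LinearOrders

open Polynomial
open Cfsg.Agent.Lib.Symplectic
open Cfsg.Agent.Lib.OrderSets

universe u

variable {F : Type u} [Field F]

/-- An involution and a skew functional with nondegenerate pairing. -/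
structure IsFormAlg {A : Type*} [CommRing A] [Algebra F A] (σ : A →ₐ[F] A) (ℓ : A →ₗ[F] F) : Prop where
  invol : ∀ a, σ (σ a) = a
  skew : ∀ a, ℓ (σ a) = -ℓ a
  nondeg : ∀ a, (∀ b, ℓ (a * b) = 0) → a = 0

/-- The form `ℓ (a σ b)`. -/
def algForm {A : Type*} [CommRing A] [Algebra F A] (σ : A →ₐ[F] A) (ℓ : A →ₗ[F] F) :
    A →ₗ[F] A →ₗ[F] F :=
  LinearMap.mk₂ F (fun a b => ℓ (a * σ b))
    (fun a a' b => by rw [add_mul, map_add])
    (fun c a b => by rw [smul_mul_assoc, map_smul])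
    (fun a b b' => by rw [map_add, mul_add, map_add])
    (fun c a b => by rw [map_smul, mul_smul_comm, map_smul])

theorem exists_psp_order [Finite F] (h2 : (2 : F) ≠ 0) {A : Type*} [CommRing A] [Algebra F A]
    [Module.Finite F A] {σ : A →ₐ[F] A} {ℓ : A →ₗ[F] F} (hA : IsFormAlg σ ℓ) {n : ℕ}
    (hfin : Module.finrank F A = 2 * n) (u : A) (hu : u * σ u = 1) {T : ℕ}
    (hT : ∀ k, u ^ k = 1 ∨ u ^ k = -1 → T ∣ k) : T ∈ omega (Cfsg.PSp n F) := by
  have hB : IsSympForm (algForm σ ℓ) := by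
    refine ⟨fun a => ?_, fun a ha => ?_⟩
    · have h := hA.skew (a * σ a)
      rw [map_mul, hA.invol, mul_comm (σ a)] at h
      have h' : (2 : F) * ℓ (a * σ a) = 0 := by linear_combination h
      exact (mul_eq_zero.1 h').resolve_left h2
    · refine hA.nondeg a fun b => ?_
      have := ha (σ b)
      simpa [algForm, hA.invol] using this
  let g : A ≃ₗ[F] A := LinearEquiv.ofLinearMap (LinearMap.mulLeft F u) (LinearMap.mulLeft F (σ u))
    (LinearMap.ext fun x => by simp [← mul_assoc, hu])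
    (LinearMap.ext fun x => by simp [← mul_assoc, mul_comm (σ u) u, hu])
  have hg : g ∈ Isom (algForm σ ℓ) := by
    intro x y
    change ℓ (u * x * σ (u * y)) = ℓ (x * σ y)
    rw [map_mul σ, show u * x * (σ u * σ y) = (u * σ u) * (x * σ y) by ring, hu, one_mul]
  let G : Isom (algForm σ ℓ) := ⟨g, hg⟩
  have hGk : ∀ (k : ℕ) (x : A), (G ^ k) • x = u ^ k * x := by
    intro k
    induction k with
    | zero => intro x; simp
    | succ k ih =>
      intro x
      rw [pow_succ, mul_smul, ih, pow_succ, mul_assoc]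
      rfl
  obtain ⟨e⟩ := nonempty_isom_mulEquiv hB (isSympForm_stdForm n F) (by rw [hfin, finrank_std])
  set x : Cfsg.PSp n F := (pspEquiv n F).symm (QuotientGroup.mk (e G)) with hx
  have hk : (QuotientGroup.mk (e G) : Isom (stdForm n F) ⧸ Subgroup.center _) ^ orderOf x = 1 := by
    rw [← (pspEquiv n F).apply_symm_apply (QuotientGroup.mk (e G)), ← map_pow, ← hx, pow_orderOf_eq_one,
      map_one]
  rw [← QuotientGroup.mk_pow, QuotientGroup.eq_one_iff, ← map_pow, ← map_center_eq e,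
    Subgroup.mem_map_equiv, MulEquiv.symm_apply_apply, ← SetLike.mem_coe, center_isom hB] at hk
  refine omega_of_dvd ⟨x, rfl⟩ (hT _ ?_)
  rcases hk with hk | hk
  · left
    have h := hGk (orderOf x) 1
    rw [hk, one_smul, mul_one] at h
    exact h.symm
  · right
    have h := hGk (orderOf x) 1
    rw [Set.mem_singleton_iff.1 hk, negIsom_smul, mul_one] at h
    exact h.symm

theorem exists_psp_order_prod [Finite F] (h2 : (2 : F) ≠ 0) {A A' : Type*} [CommRing A] [Algebra F A]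
    [CommRing A'] [Algebra F A'] [Module.Finite F A] [Module.Finite F A']
    {σ : A →ₐ[F] A} {ℓ : A →ₗ[F] F} {σ' : A' →ₐ[F] A'} {ℓ' : A' →ₗ[F] F}
    (hA : IsFormAlg σ ℓ) (hA' : IsFormAlg σ' ℓ') {n : ℕ}
    (hfin : Module.finrank F A + Module.finrank F A' = 2 * n)
    (u : A) (hu : u * σ u = 1) {T : ℕ} (hT : ∀ k, u ^ k = 1 → T ∣ k)
    [Nontrivial A'] (u' : A') (hu' : u' * σ' u' = 1) {T' : ℕ} (hT' : ∀ k, u' ^ k = 1 ∨ u' ^ k = -1 → u' ^ k = 1 ∧ T' ∣ k) :
    Nat.lcm T T' ∈ omega (Cfsg.PSp n F) := by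
  have hAA : IsFormAlg (AlgHom.prod (σ.comp (AlgHom.fst F A A')) (σ'.comp (AlgHom.snd F A A')))
      (ℓ.coprod ℓ') := by
    refine ⟨fun a => ?_, fun a => ?_, fun a ha => ?_⟩
    · exact Prod.ext (hA.invol a.1) (hA'.invol a.2)
    · change ℓ (σ a.1) + ℓ' (σ' a.2) = -(ℓ a.1 + ℓ' a.2)
      rw [hA.skew, hA'.skew]; ring
    · refine Prod.ext (hA.nondeg _ fun b => ?_) (hA'.nondeg _ fun b => ?_)
      · simpa using ha (b, 0)
      · simpa using ha (0, b)
  refine exists_psp_order h2 hAA (by rw [Module.finrank_prod, hfin]) (u, u') ?_ ?_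
  · exact Prod.ext hu hu'
  · intro k hk
    rcases hk with hk | hk
    · obtain ⟨h1, h3⟩ := Prod.ext_iff.1 hk
      exact Nat.lcm_dvd (hT k h1) (hT' k (Or.inl h3)).2
    · obtain ⟨h1, h3⟩ := Prod.ext_iff.1 hk
      obtain ⟨h4, -⟩ := hT' k (Or.inr h3)
      have h6 : (1 : A') = -1 := h4.symm.trans h3
      have h7 : (2 : F) • (1 : A') = 0 := by
        rw [two_smul]
        nth_rewrite 1 [h6]
        exact neg_add_cancel 1
      exact absurd ((smul_eq_zero.1 h7).resolve_left h2) one_ne_zero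

end Cfsg.Agent.Lib.LinearOrders
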