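import Cfsg.Agent.Lib.LinearOrders.Projective
import Cfsg.Agent.Lib.LinearOrders.Unipotent
import Cfsg.Agent.Lib.OrderSets.Basic

/-!
Element orders of `PSL_3(q)`.

Owner: helper83.
-/

set_option autoImplicit false
set_option linter.style.haveILetI false

namespace Cfsg.Agent.Lib.LinearOrders.PSL83

open Polynomial
open Cfsg.Agent.Lib.OrderSets
open Cfsg.Agent.Lib.LinearOrders

universe u

variable {F : Type u} [Field F]

theorem dvd_mul_div_of_dvd {N d x : ℕ} (hN : d ∣ N) (hx : d ∣ x) : N ∣ x * (N / d) := by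
  obtain ⟨y, rfl⟩ := hx
  rw [mul_comm d, mul_assoc, Nat.mul_div_cancel' hN]
  exact dvd_mul_left N y

theorem pow_one_of_dvd {M : Type*} [Monoid M] {a : M} {N k : ℕ} (ha : a ^ N = 1) (h : N ∣ k) : a ^ k = 1 := by
  obtain ⟨t, rfl⟩ := h
  rw [pow_mul, ha, one_pow]

theorem div_gcd_dvd {a N : ℕ} (ha : 0 < Nat.gcd N a) {k : ℕ} (h : N ∣ a * k) : N / Nat.gcd N a ∣ k := by
  have h1 : (N / Nat.gcd N a).Coprime (a / Nat.gcd N a) := Nat.coprime_div_gcd_div_gcd ha
  apply h1.dvd_of_dvd_mul_left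
  rw [← mul_comm k, ← Nat.mul_div_assoc k (Nat.gcd_dvd_right N a), mul_comm k]
  exact Nat.div_dvd_div (Nat.gcd_dvd_left N a) h

/-- The divisibilities used below. -/
theorem facts (q : ℕ) (hq : 2 ≤ q) :
    Nat.gcd 3 (q - 1) ∣ q - 1 ∧ Nat.gcd 3 (q - 1) ∣ q ^ 2 - 1 ∧ Nat.gcd 3 (q - 1) ∣ q ^ 2 + q + 1 ∧
      Nat.gcd (q ^ 2 + q + 1) (q - 1) = Nat.gcd 3 (q - 1) := by
  have hg : Nat.gcd (q ^ 2 + q + 1) (q - 1) = Nat.gcd 3 (q - 1) := by
    have h3 : q ^ 2 + q + 1 = 3 + (q + 2) * (q - 1) := by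
      zify [(by omega : 1 ≤ q)]; ring
    rw [h3, Nat.gcd_add_mul_right_left]
  refine ⟨Nat.gcd_dvd_right _ _, ?_, ?_, hg⟩
  · rw [show q ^ 2 - 1 = (q + 1) * (q - 1) by rw [← Nat.sq_sub_sq, one_pow]]
    exact (Nat.gcd_dvd_right 3 (q - 1)).mul_left _
  · rw [← hg]
    exact Nat.gcd_dvd_left _ _

section cases

variable {K : Type*} [Field K] {a b c : K} {q : ℕ}

theorem triple_eq {k : ℕ} (hab : b ^ k = a ^ k) (ha : a ^ (3 * k) = 1) (habc : a * b * c = 1) :
    c ^ k = a ^ k := by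
  have h := congrArg (· ^ k) habc
  simp only [mul_pow, one_pow, hab] at h
  have e3 : a ^ k * a ^ k * a ^ k = 1 := by rw [← pow_add, ← pow_add, show k + k + k = 3 * k by ring, ha]
  exact mul_left_cancel₀ (left_ne_zero_of_mul_eq_one h) (h.trans e3.symm)

theorem swap_case (hq : 2 ≤ q) (ha0 : a ≠ 0) (hab : b = a ^ q) (hba : a = b ^ q) (habc : a * b * c = 1) :
    b ^ ((q ^ 2 - 1) / Nat.gcd 3 (q - 1)) = a ^ ((q ^ 2 - 1) / Nat.gcd 3 (q - 1)) ∧
      c ^ ((q ^ 2 - 1) / Nat.gcd 3 (q - 1)) = a ^ ((q ^ 2 - 1) / Nat.gcd 3 (q - 1)) := by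
  obtain ⟨h1, h2, -, -⟩ := facts q hq
  have haN : a ^ (q ^ 2 - 1) = 1 := by
    apply mul_right_cancel₀ ha0
    rw [← pow_succ, Nat.sub_add_cancel (Nat.one_le_pow 2 q (by omega)), one_mul, sq, pow_mul, ← hab, ← hba]
  have e1 := pow_one_of_dvd haN (dvd_mul_div_of_dvd h2 h1)
  have e2 := pow_one_of_dvd haN (dvd_mul_div_of_dvd h2 (Nat.gcd_dvd_left 3 (q - 1)))
  set k := (q ^ 2 - 1) / Nat.gcd 3 (q - 1)
  have hb : b ^ k = a ^ k := by
    rw [hab, ← pow_mul, show q = q - 1 + 1 by omega, Nat.succ_mul, pow_add, e1, one_mul]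
  exact ⟨hb, triple_eq hb e2 habc⟩

theorem cycle_case (hq : 2 ≤ q) (hab : b = a ^ q) (hbc : c = b ^ q) (habc : a * b * c = 1) :
    b ^ ((q ^ 2 + q + 1) / Nat.gcd 3 (q - 1)) = a ^ ((q ^ 2 + q + 1) / Nat.gcd 3 (q - 1)) ∧
      c ^ ((q ^ 2 + q + 1) / Nat.gcd 3 (q - 1)) = a ^ ((q ^ 2 + q + 1) / Nat.gcd 3 (q - 1)) := by
  obtain ⟨h1, h2, h3, -⟩ := facts q hq
  have hc : c = a ^ q ^ 2 := by rw [hbc, hab, ← pow_mul, ← sq]
  have haN : a ^ (q ^ 2 + q + 1) = 1 := by
    rw [hab, hc] at habc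
    rw [← habc, pow_add, pow_add, pow_one]; ring
  have e1 := pow_one_of_dvd haN (dvd_mul_div_of_dvd h3 h1)
  have e2 := pow_one_of_dvd haN (dvd_mul_div_of_dvd h3 h2)
  set k := (q ^ 2 + q + 1) / Nat.gcd 3 (q - 1)
  refine ⟨?_, ?_⟩
  · rw [hab, ← pow_mul, show q = q - 1 + 1 by omega, Nat.succ_mul, pow_add, e1, one_mul]
  · rw [hc, ← pow_mul, ← Nat.sub_add_cancel (Nat.one_le_pow 2 q (by omega)), Nat.succ_mul, pow_add, e2, one_mul]

theorem double_case (hq : 2 ≤ q) (ha0 : a ≠ 0) (ha : a ^ q = a) (hc : a * a * c = 1) :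
    c ^ ((q - 1) / Nat.gcd 3 (q - 1)) = a ^ ((q - 1) / Nat.gcd 3 (q - 1)) := by
  obtain ⟨h1, -, -, -⟩ := facts q hq
  have haN : a ^ (q - 1) = 1 := by
    apply mul_right_cancel₀ ha0
    rw [← pow_succ, Nat.sub_add_cancel (by omega : 1 ≤ q), one_mul, ha]
  exact triple_eq rfl (pow_one_of_dvd haN (dvd_mul_div_of_dvd h1 (Nat.gcd_dvd_left 3 (q - 1)))) hc

end cases

set_option maxHeartbeats 1600000 in
theorem classify [Fintype F] (p : ℕ) [Fact p.Prime] [CharP F p]
    (g : Matrix.SpecialLinearGroup (Fin 3) F) :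
    orderOf (toPSL g) ∣ Fintype.card F - 1 ∨
    orderOf (toPSL g) ∣ p * ((Fintype.card F - 1) / Nat.gcd 3 (Fintype.card F - 1)) ∨
    orderOf (toPSL g) ∣ (Fintype.card F ^ 2 - 1) / Nat.gcd 3 (Fintype.card F - 1) ∨
    orderOf (toPSL g) ∣ (Fintype.card F ^ 2 + Fintype.card F + 1) / Nat.gcd 3 (Fintype.card F - 1) ∨
    (p = 2 ∧ orderOf (toPSL g) ∣ 4) := by
  classical
  set q := Fintype.card F with hqdef
  have hq : 2 ≤ q := Fintype.one_lt_card
  let K := AlgebraicClosure F
  set ι := algebraMap F K with hι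
  haveI : CharP K p := charP_of_injective_algebraMap ι.injective p
  set M : Matrix (Fin 3) (Fin 3) K := (g : Matrix (Fin 3) (Fin 3) F).map ι with hM
  have hdet : M.det = 1 := by
    rw [hM, ← RingHom.mapMatrix_apply, ← RingHom.map_det, g.2, map_one]
  have hfin : ∀ (k : ℕ) (l : K), M ^ k = l • (1 : Matrix (Fin 3) (Fin 3) K) → (toPSL g) ^ k = 1 := by
    intro k l hl
    rw [← map_pow, toPSL_eq_one_iff]
    set A : Matrix (Fin 3) (Fin 3) F := ((g ^ k : Matrix.SpecialLinearGroup (Fin 3) F) : Matrix (Fin 3) (Fin 3) F) with hA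
    have hA' : A.map ι = l • (1 : Matrix (Fin 3) (Fin 3) K) := by
      rw [← hl, hM, ← RingHom.mapMatrix_apply, ← RingHom.mapMatrix_apply, ← map_pow, hA,
        Matrix.SpecialLinearGroup.coe_pow]
    refine ⟨A 0 0, ?_⟩
    ext i j
    apply ι.injective
    have e := congrFun (congrFun hA' i) j
    have e0 := congrFun (congrFun hA' 0) 0
    simp only [Matrix.map_apply, Matrix.smul_apply, smul_eq_mul] at e e0
    rw [e, Matrix.scalar_apply]
    by_cases hij : i = j
    · subst hij; simp [e0]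
    · simp [hij]
  set χ := M.charpoly with hχ
  have hmon : χ.Monic := M.charpoly_monic
  have hsplit : χ.Splits := IsAlgClosed.splits χ
  have hcard : χ.roots.card = 3 := by
    rw [← hsplit.natDegree_eq_card_roots, hχ, Matrix.charpoly_natDegree_eq_dim, Fintype.card_fin]
  obtain ⟨a, b, c, habc⟩ := Multiset.card_eq_three.1 hcard
  have hprod : χ = (X - C a) * ((X - C b) * (X - C c)) := by
    rw [hsplit.eq_prod_roots_of_monic hmon, habc]
    simp
  have hroot : ∀ x, χ.eval x = 0 ↔ x = a ∨ x = b ∨ x = c := by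
    intro x
    rw [hprod]
    simp [sub_eq_zero]
  have hp1 : a * b * c = 1 := by
    have h := Matrix.det_eq_prod_roots_charpoly M
    rw [hdet, ← hχ, habc] at h
    rw [h]
    simp [mul_assoc]
  have hne : ∀ x, (x = a ∨ x = b ∨ x = c) → x ≠ 0 := by
    rintro x (rfl | rfl | rfl) rfl <;> simp at hp1
  have perm : ∀ x, (x = a ∨ x = b ∨ x = c) → (x ^ q = a ∨ x ^ q = b ∨ x ^ q = c) := by
    intro x hx
    rw [← hroot] at hx ⊢
    rw [hχ, hM, Matrix.charpoly_map] at hx ⊢
    rw [eval_map] at hx ⊢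
    change aeval x (g : Matrix (Fin 3) (Fin 3) F).charpoly = 0 at hx
    show aeval (x ^ q) (g : Matrix (Fin 3) (Fin 3) F).charpoly = 0
    rw [hqdef, ← expand_aeval, FiniteField.expand_card, map_pow, hx, zero_pow Fintype.card_ne_zero]
  have hinj : ∀ x y : K, x ^ q = y ^ q → x = y := fun x y h => by
    obtain ⟨k, hp, hk⟩ := FiniteField.card F p
    rw [hqdef, hk] at h
    exact iterateFrobenius_inj K p k h
  have hCH : aeval M χ = 0 := M.aeval_self_charpoly
  have hscal : ∀ (e : ℕ) (m : ℕ) (l : K), χ ∣ (X ^ m - C l : K[X]) ^ p ^ e →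
      (toPSL g) ^ (p ^ e * m) = 1 := by
    intro e m l h3
    rw [sub_pow_char_pow, ← pow_mul, ← C_pow] at h3
    obtain ⟨r, hr⟩ := h3
    have h := congrArg (aeval M) hr
    rw [map_mul, hCH, zero_mul] at h
    refine hfin _ (l ^ p ^ e) ?_
    rw [← sub_eq_zero, mul_comm (p ^ e), ← h]
    simp [Algebra.algebraMap_eq_smul_one, _root_.smul_pow]
  have hd : ∀ (m : ℕ) (x l : K), x ^ m = l → X - C x ∣ (X ^ m - C l : K[X]) := fun m x l hx =>
    dvd_iff_isRoot.2 (by simp [hx])
  have hco : ∀ x y : K, x ≠ y → IsCoprime (X - C x) (X - C y) := fun x y h =>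
    isCoprime_X_sub_C_of_isUnit_sub (sub_ne_zero.2 h).isUnit
  -- repeated eigenvalue
  have hdouble : ∀ x z : K, x * x * z = 1 → (χ = (X - C x) * (X - C x) * (X - C z)) →
      (∀ y, (y = a ∨ y = b ∨ y = c) ↔ (y = x ∨ y = z)) →
      orderOf (toPSL g) ∣ p * ((q - 1) / Nat.gcd 3 (q - 1)) ∨ (p = 2 ∧ orderOf (toPSL g) ∣ 4) := by
    intro x z hxz hχ' hset
    have hx0 : x ≠ 0 := left_ne_zero_of_mul (left_ne_zero_of_mul_eq_one hxz)
    have hx : x ^ q = x := by
      rcases (hset _).1 (perm x ((hset x).2 (Or.inl rfl))) with h | h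
      · exact h
      rcases (hset _).1 (perm z ((hset z).2 (Or.inr rfl))) with h' | h'
      · have h2 := congrArg (· ^ q) hxz
        simp only [mul_pow, one_pow, h, h'] at h2
        have hxz' : x = z := mul_left_cancel₀ (mul_ne_zero hx0 (right_ne_zero_of_mul_eq_one hxz))
          (show x * z * x = x * z * z by linear_combination hxz - h2)
        rw [h, hxz']
      · rw [← hinj x z (h.trans h'.symm)] at h; exact h
    have hk := double_case hq hx0 hx hxz
    set k := (q - 1) / Nat.gcd 3 (q - 1)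
    by_cases hxz' : x = z
    · by_cases hp3 : 3 ≤ p
      · left
        refine orderOf_dvd_of_pow_eq_one ?_
        have := hscal 1 k (x ^ k) ?_
        · rwa [pow_one] at this
        rw [hχ', ← hxz', pow_one]
        refine dvd_trans ?_ (pow_dvd_pow _ hp3)
        rw [pow_succ, sq]
        exact mul_dvd_mul (mul_dvd_mul (hd k x _ rfl) (hd k x _ rfl)) (hd k x _ rfl)
      · right
        have hp2 : p = 2 := by have := (Fact.out : p.Prime).two_le; omega
        refine ⟨hp2, orderOf_dvd_of_pow_eq_one ?_⟩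
        have := hscal 2 1 x ?_
        · rwa [hp2] at this
        rw [hχ', ← hxz', hp2, pow_one]
        exact ⟨X - C x, by ring⟩
    · left
      refine orderOf_dvd_of_pow_eq_one ?_
      have := hscal 1 k (x ^ k) ?_
      · rwa [pow_one] at this
      rw [hχ', pow_one]
      refine dvd_trans ?_ (pow_dvd_pow _ (Fact.out : p.Prime).two_le)
      rw [← sq (X - C x)]
      refine ((hco x z hxz').pow_left (m := 2)).mul_dvd ?_ ?_
      · exact pow_dvd_pow_of_dvd (hd k x _ rfl) 2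
      · exact (hd k z _ hk).trans (dvd_pow_self _ two_ne_zero)
  have hsplit3 : ∀ x z : K, (∀ y, (y = a ∨ y = b ∨ y = c) ↔ (y = x ∨ y = z)) → x * x * z = 1 →
      (χ = (X - C x) * (X - C x) * (X - C z)) →
      (orderOf (toPSL g) ∣ q - 1 ∨
        orderOf (toPSL g) ∣ p * ((q - 1) / Nat.gcd 3 (q - 1)) ∨
        orderOf (toPSL g) ∣ (q ^ 2 - 1) / Nat.gcd 3 (q - 1) ∨
        orderOf (toPSL g) ∣ (q ^ 2 + q + 1) / Nat.gcd 3 (q - 1) ∨
        (p = 2 ∧ orderOf (toPSL g) ∣ 4)) := fun x z h1 h2 h3 => by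
    rcases hdouble x z h2 h3 h1 with h | h
    · exact Or.inr (Or.inl h)
    · exact Or.inr (Or.inr (Or.inr (Or.inr h)))
  by_cases hab : a = b
  · subst hab
    exact hsplit3 a c (fun y => by tauto) hp1 (by rw [hprod]; ring)
  by_cases hac : a = c
  · subst hac
    exact hsplit3 a b (fun y => by tauto) (by rw [← hp1]; ring) (by rw [hprod]; ring)
  by_cases hbc : b = c
  · subst hbc
    exact hsplit3 b a (fun y => by tauto) (by rw [← hp1]; ring) (by rw [hprod]; ring)
  have hdist : ∀ (m : ℕ) (l : K), a ^ m = l → b ^ m = l → c ^ m = l → orderOf (toPSL g) ∣ m := by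
    intro m l ha hb hc
    refine orderOf_dvd_of_pow_eq_one ?_
    have := hscal 0 m l ?_
    · rwa [pow_zero, one_mul] at this
    rw [pow_zero, pow_one, hprod]
    exact ((hco a b hab).mul_right (hco a c hac)).mul_dvd (hd m a l ha) ((hco b c hbc).mul_dvd (hd m b l hb) (hd m c l hc))
  have hswap : ∀ x y z : K, x * y * z = 1 → x ^ q = y → y ^ q = x →
      (∀ w, (w = a ∨ w = b ∨ w = c) → (w = x ∨ w = y ∨ w = z)) →
      orderOf (toPSL g) ∣ (q ^ 2 - 1) / Nat.gcd 3 (q - 1) := by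
    intro x y z h h1 h2 hs
    obtain ⟨e1, e2⟩ := swap_case hq (left_ne_zero_of_mul (left_ne_zero_of_mul_eq_one h)) h1.symm h2.symm h
    have hval : ∀ w, (w = a ∨ w = b ∨ w = c) → w ^ ((q ^ 2 - 1) / Nat.gcd 3 (q - 1)) = x ^ ((q ^ 2 - 1) / Nat.gcd 3 (q - 1)) := by
      intro w hw
      rcases hs w hw with rfl | rfl | rfl
      · rfl
      · exact e1
      · exact e2
    exact hdist _ _ (hval a (by simp)) (hval b (by simp)) (hval c (by simp))
  have hcyc : ∀ x y z : K, x * y * z = 1 → x ^ q = y → y ^ q = z →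
      (∀ w, (w = a ∨ w = b ∨ w = c) → (w = x ∨ w = y ∨ w = z)) →
      orderOf (toPSL g) ∣ (q ^ 2 + q + 1) / Nat.gcd 3 (q - 1) := by
    intro x y z h h1 h2 hs
    obtain ⟨e1, e2⟩ := cycle_case hq h1.symm h2.symm h
    have hval : ∀ w, (w = a ∨ w = b ∨ w = c) → w ^ ((q ^ 2 + q + 1) / Nat.gcd 3 (q - 1)) = x ^ ((q ^ 2 + q + 1) / Nat.gcd 3 (q - 1)) := by
      intro w hw
      rcases hs w hw with rfl | rfl | rfl
      · rfl
      · exact e1
      · exact e2
    exact hdist _ _ (hval a (by simp)) (hval b (by simp)) (hval c (by simp))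
  have nab : a ^ q ≠ b ^ q := fun h => hab (hinj _ _ h)
  have nac : a ^ q ≠ c ^ q := fun h => hac (hinj _ _ h)
  have nbc : b ^ q ≠ c ^ q := fun h => hbc (hinj _ _ h)
  rcases perm a (by simp) with h1 | h1 | h1 <;> rcases perm b (by simp) with h2 | h2 | h2 <;>
    rcases perm c (by simp) with h3 | h3 | h3 <;>
    first
    | exact absurd (h1.trans h2.symm) nab
    | exact absurd (h1.trans h3.symm) nac
    | exact absurd (h2.trans h3.symm) nbc
    | (left
       have hfix : ∀ x : K, x ≠ 0 → x ^ q = x → x ^ (q - 1) = 1 := fun x hx hxq => by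
         apply mul_right_cancel₀ hx
         rw [← pow_succ, Nat.sub_add_cancel (by omega : 1 ≤ q), one_mul, hxq]
       exact hdist _ 1 (hfix a (hne a (by simp)) h1) (hfix b (hne b (by simp)) h2) (hfix c (hne c (by simp)) h3))
    | (right; right; left; exact hswap a b c hp1 h1 h2 (fun w hw => hw))
    | (right; right; left; exact hswap a c b (by rw [← hp1]; ring) h1 h3 (fun w hw => by tauto))
    | (right; right; left; exact hswap b c a (by rw [← hp1]; ring) h2 h3 (fun w hw => by tauto))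
    | (right; right; right; left; exact hcyc a b c hp1 h1 h2 (fun w hw => hw))
    | (right; right; right; left; exact hcyc a c b (by rw [← hp1]; ring) h1 h3 (fun w hw => by tauto))

theorem norm_prod {A A' : Type*} [CommRing A] [Algebra F A] [CommRing A'] [Algebra F A']
    [Module.Finite F A] [Module.Finite F A'] (a : A) (b : A') :
    Algebra.norm F ((a, b) : A × A') = Algebra.norm F a * Algebra.norm F b := by
  rw [Algebra.norm_apply, Algebra.norm_apply, Algebra.norm_apply, ← LinearMap.det_prodMap]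
  congr 1

/-- Elements from commutative algebras. -/
theorem exists_psl_order [Fintype F] {A : Type*} [CommRing A] [Algebra F A] [Module.Finite F A] {n : ℕ}
    (hfin : Module.finrank F A = n) (v : A) (hnorm : Algebra.norm F v = 1) {T : ℕ}
    (hT : ∀ (k : ℕ) (l : F), v ^ k = algebraMap F A l → T ∣ k) :
    T ∈ omega (Matrix.ProjectiveSpecialLinearGroup (Fin n) F) := by
  let b : Module.Basis (Fin n) F A := Module.finBasisOfFinrankEq F A hfin
  let x : Matrix.SpecialLinearGroup (Fin n) F :=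
    ⟨Algebra.leftMulMatrix b v, by rw [← Algebra.norm_eq_matrix_det, hnorm]⟩
  refine omega_of_dvd ⟨toPSL x, rfl⟩ ?_
  have hk := pow_orderOf_eq_one (toPSL x)
  rw [← map_pow, toPSL_eq_one_iff] at hk
  obtain ⟨l, hl⟩ := hk
  refine hT _ l (Algebra.leftMulMatrix_injective b ?_)
  rw [map_pow, (Algebra.leftMulMatrix b).commutes]
  exact hl

theorem exists_gen (K : Type*) [Field K] [Fintype K] : ∃ g : K, g ≠ 0 ∧ orderOf g = Fintype.card K - 1 := by
  obtain ⟨g, hg⟩ := IsCyclic.exists_generator (α := Kˣ)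
  exact ⟨g, g.ne_zero, by
    rw [orderOf_units, orderOf_eq_card_of_forall_mem_zpowers hg, Nat.card_units, Nat.card_eq_fintype_card]⟩

theorem mem_sub_one [Fintype F] :
    Fintype.card F - 1 ∈ omega (Matrix.ProjectiveSpecialLinearGroup (Fin 3) F) := by
  obtain ⟨a, ha0, hao⟩ := exists_gen F
  refine exists_psl_order (A := F × F × F) (by simp [Module.finrank_prod]) (a, a⁻¹, 1) ?_ ?_
  · simp [norm_prod, Algebra.norm_self, ha0]
  · intro k l h
    have h1 : a ^ k = l := congrArg Prod.fst h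
    have h3 : (1 : F) ^ k = l := congrArg (fun t => t.2.2) h
    rw [one_pow] at h3
    rw [← hao]
    exact orderOf_dvd_of_pow_eq_one (h1.trans h3.symm)

theorem mem_quad [Fintype F] (p : ℕ) [Fact p.Prime] [CharP F p] :
    (Fintype.card F ^ 2 - 1) / Nat.gcd 3 (Fintype.card F - 1) ∈
      omega (Matrix.ProjectiveSpecialLinearGroup (Fin 3) F) := by
  let K := FiniteField.Extension F p 2
  have hK : Module.finrank F K = 2 := FiniteField.finrank_extension F p 2
  haveI : Fintype K := Fintype.ofFinite K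
  have hcard : Fintype.card K = Fintype.card F ^ 2 := by
    rw [Fintype.card_eq_nat_card, FiniteField.natCard_extension, Nat.card_eq_fintype_card]
  have hq : 2 ≤ Fintype.card F := Fintype.one_lt_card
  obtain ⟨a, ha0, hao⟩ := exists_gen K
  rw [hcard] at hao
  set q := Fintype.card F with hqdef
  have hNq : algebraMap F K (Algebra.norm F a) = a ^ (q + 1) := by
    rw [FiniteField.algebraMap_norm_eq_pow, Nat.card_eq_fintype_card, Nat.card_eq_fintype_card, hcard, ← hqdef]
    congr 1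
    rw [show q ^ 2 - 1 = (q + 1) * (q - 1) by rw [← Nat.sq_sub_sq, one_pow], Nat.mul_div_cancel _ (by omega)]
  have hN0 : Algebra.norm F a ≠ 0 := Algebra.norm_ne_zero_iff.2 ha0
  refine exists_psl_order (A := K × F) (by rw [Module.finrank_prod, hK, Module.finrank_self])
    (a, (Algebra.norm F a)⁻¹) ?_ ?_
  · rw [norm_prod, Algebra.norm_self, MonoidHom.id_apply, mul_inv_cancel₀ hN0]
  · intro k l h
    have h1 : a ^ k = algebraMap F K l := congrArg Prod.fst h
    have h2 : ((Algebra.norm F a)⁻¹) ^ k = l := congrArg Prod.snd h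
    have e1 : q ^ 2 - 1 ∣ (q + 2) * k := by
      rw [← hao]
      apply orderOf_dvd_of_pow_eq_one
      rw [Nat.succ_mul, pow_add, pow_mul, ← hNq, h1, ← map_pow, ← map_mul, ← h2, ← mul_pow,
        mul_inv_cancel₀ hN0, one_pow, map_one]
    have e2 : q ^ 2 - 1 ∣ (q - 1) * k := by
      rw [← hao]
      apply orderOf_dvd_of_pow_eq_one
      have hl0 : l ≠ 0 := by rw [← h2]; exact pow_ne_zero _ (inv_ne_zero hN0)
      rw [mul_comm, pow_mul, h1, ← map_pow, hqdef, FiniteField.pow_card_sub_one_eq_one l hl0, map_one]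
    have e3 : q ^ 2 - 1 ∣ 3 * k := by
      have := Nat.dvd_sub e1 e2
      rwa [← Nat.sub_mul, show q + 2 - (q - 1) = 3 by omega] at this
    have e4 : q ^ 2 - 1 ∣ Nat.gcd 3 (q - 1) * k := by
      rw [← Nat.gcd_mul_right]; exact Nat.dvd_gcd e3 e2
    exact (Nat.div_dvd_iff_dvd_mul (facts q hq).2.1 (Nat.gcd_pos_of_pos_left _ (by norm_num))).2 e4

theorem mem_cubic [Fintype F] (p : ℕ) [Fact p.Prime] [CharP F p] :
    (Fintype.card F ^ 2 + Fintype.card F + 1) / Nat.gcd 3 (Fintype.card F - 1) ∈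
      omega (Matrix.ProjectiveSpecialLinearGroup (Fin 3) F) := by
  let K := FiniteField.Extension F p 3
  have hK : Module.finrank F K = 3 := FiniteField.finrank_extension F p 3
  haveI : Fintype K := Fintype.ofFinite K
  have hcard : Fintype.card K = Fintype.card F ^ 3 := by
    rw [Fintype.card_eq_nat_card, FiniteField.natCard_extension, Nat.card_eq_fintype_card]
  have hq : 2 ≤ Fintype.card F := Fintype.one_lt_card
  obtain ⟨g, hg0, hgo⟩ := exists_gen K
  rw [hcard] at hgo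
  set q := Fintype.card F with hqdef
  set N := q ^ 2 + q + 1 with hN
  have hfac : q ^ 3 - 1 = N * (q - 1) := by
    rw [hN]; zify [Nat.one_le_pow 3 q (by omega), (by omega : 1 ≤ q)]; ring
  have ha : orderOf (g ^ (q - 1)) = N := by
    rw [orderOf_pow_of_dvd (by omega) (hgo ▸ hfac ▸ dvd_mul_left _ N), hgo, hfac, Nat.mul_div_cancel _ (by omega)]
  set a := g ^ (q - 1) with hadef
  refine exists_psl_order (A := K) hK a ?_ ?_
  · apply (algebraMap F K).injective
    rw [FiniteField.algebraMap_norm_eq_pow, map_one, Nat.card_eq_fintype_card, Nat.card_eq_fintype_card, hcard,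
      ← hqdef, hfac, Nat.mul_div_cancel _ (by omega), ← ha, pow_orderOf_eq_one]
  · intro k l h
    have hl0 : l ≠ 0 := by
      intro h0
      rw [h0, map_zero] at h
      exact pow_ne_zero k (pow_ne_zero _ hg0) h
    have e1 : N ∣ (q - 1) * k := by
      rw [← ha]
      apply orderOf_dvd_of_pow_eq_one
      rw [mul_comm, pow_mul, h, ← map_pow, hqdef, FiniteField.pow_card_sub_one_eq_one l hl0, map_one]
    have hgcd := (facts q hq).2.2.2
    rw [← hgcd]
    exact div_gcd_dvd (Nat.gcd_pos_of_pos_left _ (by omega)) e1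

theorem mem_unip [Fintype F] (p : ℕ) [Fact p.Prime] [CharP F p] :
    p * (Fintype.card F - 1) / Nat.gcd 3 (Fintype.card F - 1) ∈
      omega (Matrix.ProjectiveSpecialLinearGroup (Fin 3) F) := by
  have hp : p.Prime := Fact.out
  have hq : 2 ≤ Fintype.card F := Fintype.one_lt_card
  obtain ⟨a, ha0, hao⟩ := exists_gen F
  have hmon : (X ^ 2 : F[X]).Monic := monic_X_pow 2
  let pb := AdjoinRoot.powerBasis' hmon
  haveI : Module.Finite F (AdjoinRoot (X ^ 2 : F[X])) := pb.finite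
  have hdim : Module.finrank F (AdjoinRoot (X ^ 2 : F[X])) = 2 := by rw [pb.finrank]; simp [pb]
  haveI : Nontrivial (AdjoinRoot (X ^ 2 : F[X])) := AdjoinRoot.nontrivial _ (by simp)
  haveI : CharP (AdjoinRoot (X ^ 2 : F[X])) p :=
    charP_of_injective_algebraMap (algebraMap F (AdjoinRoot (X ^ 2 : F[X]))).injective p
  set ε := AdjoinRoot.root (X ^ 2 : F[X]) with hε
  have hε2 : ε ^ 2 = 0 := by
    have := AdjoinRoot.mk_self (f := (X ^ 2 : F[X]))
    rw [map_pow, AdjoinRoot.mk_X] at this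
    exact this
  set u : AdjoinRoot (X ^ 2 : F[X]) := 1 + ε with hu
  have hup : u ^ p = 1 := by
    rw [hu, add_pow_char, one_pow, pow_eq_zero_of_le hp.two_le hε2, add_zero]
  have hnu : Algebra.norm F u = 1 := by
    have h : (Algebra.norm F u) ^ p = 1 := by rw [← map_pow, hup, map_one]
    have h2 : (Algebra.norm F u - 1) ^ p = 0 := by rw [sub_pow_char, h, one_pow, sub_self]
    exact sub_eq_zero.1 (eq_zero_of_pow_eq_zero h2)
  refine exists_psl_order (A := AdjoinRoot (X ^ 2 : F[X]) × F)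
    (by rw [Module.finrank_prod, hdim, Module.finrank_self]) (algebraMap F _ a * u, (a ^ 2)⁻¹) ?_ ?_
  · rw [norm_prod, map_mul, Algebra.norm_algebraMap, hdim, hnu, mul_one, Algebra.norm_self,
      MonoidHom.id_apply, mul_inv_cancel₀ (pow_ne_zero 2 ha0)]
  · intro k l h
    have e1 : (algebraMap F _ a * u) ^ k = algebraMap F _ l := congrArg Prod.fst h
    have e2 : ((a ^ 2)⁻¹) ^ k = l := congrArg Prod.snd h
    have e3 : u ^ k = algebraMap F _ ((a ^ k)⁻¹ * l) := by
      rw [mul_pow, ← map_pow] at e1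
      have h := congrArg (algebraMap F (AdjoinRoot (X ^ 2 : F[X])) ((a ^ k)⁻¹) * ·) e1
      simpa only [← mul_assoc, ← map_mul, inv_mul_cancel₀ (pow_ne_zero k ha0), map_one, one_mul] using h
    have hexp : u ^ k = 1 + (k : AdjoinRoot (X ^ 2 : F[X])) * ε := by
      clear h e1 e2 e3
      induction k with
      | zero => simp
      | succ i ih =>
        rw [pow_succ u i, ih, hu]
        push_cast
        linear_combination (i : AdjoinRoot (X ^ 2 : F[X])) * hε2
    have hcoef : ∀ r s : F, algebraMap F _ r + algebraMap F _ s * ε = 0 → r = 0 ∧ s = 0 := by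
      intro r s hrs
      rw [hε, AdjoinRoot.algebraMap_eq, ← AdjoinRoot.mk_C, ← AdjoinRoot.mk_C, ← AdjoinRoot.mk_X, ← map_mul,
        ← map_add, AdjoinRoot.mk_eq_zero, X_pow_dvd_iff] at hrs
      have r0 := hrs 0 (by norm_num)
      have s0 := hrs 1 (by norm_num)
      simp at r0 s0
      exact ⟨r0, s0⟩
    obtain ⟨hr, hs⟩ := hcoef (1 - (a ^ k)⁻¹ * l) (k : F) (by
      rw [map_natCast, map_sub, map_one, ← e3, hexp]; ring)
    have hpk : p ∣ k := (CharP.cast_eq_zero_iff F p k).1 hs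
    have e4 : (a ^ k)⁻¹ * l = 1 := (sub_eq_zero.1 hr).symm
    have e5 : Fintype.card F - 1 ∣ 3 * k := by
      rw [← hao]
      apply orderOf_dvd_of_pow_eq_one
      rw [← e2, inv_pow, ← mul_inv, inv_eq_one, ← pow_mul, ← pow_add] at e4
      rw [show 3 * k = k + 2 * k by ring]
      exact e4
    have e6 : (Fintype.card F - 1) / Nat.gcd 3 (Fintype.card F - 1) ∣ k := by
      rw [Nat.gcd_comm]
      exact div_gcd_dvd (Nat.gcd_pos_of_pos_right _ (by norm_num)) e5
    rw [Nat.mul_div_assoc p (Nat.gcd_dvd_right 3 _)]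
    refine Nat.Coprime.mul_dvd_of_dvd_of_dvd (hp.coprime_iff_not_dvd.2 fun hd => ?_) hpk e6
    have h1 := hd.trans (Nat.div_dvd_of_dvd (Nat.gcd_dvd_right 3 (Fintype.card F - 1)))
    have h2 : p ∣ Fintype.card F := (CharP.cast_eq_zero_iff F p _).1 (FiniteField.cast_card_eq_zero F)
    have h3 := Nat.dvd_sub h2 h1
    rw [Nat.sub_sub_self (by omega)] at h3
    exact hp.one_lt.ne' (Nat.dvd_one.1 h3)

theorem mem_four [Fintype F] [CharP F 2] : 4 ∈ omega (Matrix.ProjectiveSpecialLinearGroup (Fin 3) F) := by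
  haveI : Fact (Nat.Prime 2) := ⟨Nat.prime_two⟩
  obtain ⟨A, hA, hA'⟩ := exists_regular_unipotent (F := F) (d := 3) (by norm_num) 2
  have h4 : unipExp 2 3 = 4 := by
    have : Nat.clog 2 3 = 2 := le_antisymm ((Nat.clog_le_iff_le_pow one_lt_two).2 (by norm_num))
      ((Nat.lt_clog_iff_pow_lt one_lt_two).2 (by norm_num))
    rw [unipExp, this]; rfl
  rw [h4] at hA
  let x : Matrix.SpecialLinearGroup (Fin 3) F := ⟨A, det_eq_one_of_pow_eq_one 2 A (i := 2) hA⟩
  refine ⟨toPSL x, ?_⟩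
  refine orderOf_eq_prime_pow (p := 2) (n := 1) ?_ ?_
  · rw [← map_pow, toPSL_eq_one_iff]
    rintro ⟨c, hc⟩
    exact hA' 1 (by norm_num) ⟨c, by rw [← hc, Matrix.SpecialLinearGroup.coe_pow]⟩
  · rw [← map_pow, toPSL_eq_one_iff]
    exact ⟨1, by rw [Matrix.SpecialLinearGroup.coe_pow, map_one]; exact hA⟩

theorem omega_psl3 [Fintype F] (p : ℕ) [Fact p.Prime] [CharP F p] :
    Set.range (orderOf : Matrix.ProjectiveSpecialLinearGroup (Fin 3) F → ℕ) =
      {m : ℕ | m ∣ (Fintype.card F ^ 2 + Fintype.card F + 1) / Nat.gcd 3 (Fintype.card F - 1) ∨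
        m ∣ (Fintype.card F ^ 2 - 1) / Nat.gcd 3 (Fintype.card F - 1) ∨ m ∣ Fintype.card F - 1 ∨
        m ∣ p * (Fintype.card F - 1) / Nat.gcd 3 (Fintype.card F - 1) ∨ (p = 2 ∧ m ∣ 4)} := by
  apply Set.Subset.antisymm
  · rintro s ⟨x, rfl⟩
    obtain ⟨g, rfl⟩ := QuotientGroup.mk_surjective x
    simp only [Set.mem_setOf_eq, Nat.mul_div_assoc p (Nat.gcd_dvd_right 3 (Fintype.card F - 1))]
    rcases classify p g with h | h | h | h | h
    · exact Or.inr (Or.inr (Or.inl h))
    · exact Or.inr (Or.inr (Or.inr (Or.inl h)))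
    · exact Or.inr (Or.inl h)
    · exact Or.inl h
    · exact Or.inr (Or.inr (Or.inr (Or.inr h)))
  · rintro s (h | h | h | h | ⟨rfl, h⟩)
    · exact omega_of_dvd (mem_cubic p) h
    · exact omega_of_dvd (mem_quad p) h
    · exact omega_of_dvd mem_sub_one h
    · exact omega_of_dvd (mem_unip p) h
    · exact omega_of_dvd mem_four h

end Cfsg.Agent.Lib.LinearOrders.PSL83
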