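import Cfsg.Agent.Lib.LinearOrders.UnitClassify

/-!
Element orders of `PSU_3(q)`, odd `q`.
-/

set_option autoImplicit false

namespace Cfsg.Agent.Lib.LinearOrders

open Polynomial
open Cfsg.Agent.Lib.OrderSets
open Cfsg.Agent.Lib.Unitary (conj conj_apply)

universe u

variable {F : Type u} [Field F] {q : ℕ}

theorem dvd_mul_div_of_dvd {N d x : ℕ} (hN : d ∣ N) (hx : d ∣ x) : N ∣ x * (N / d) := by
  obtain ⟨y, rfl⟩ := hx
  rw [mul_comm d, mul_assoc, Nat.mul_div_cancel' hN]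
  exact dvd_mul_left N y

theorem pow_eq_one_of_dvd' {M : Type*} [Monoid M] {a : M} {N k : ℕ} (ha : a ^ N = 1) (h : N ∣ k) : a ^ k = 1 := by
  obtain ⟨t, rfl⟩ := h
  rw [pow_mul, ha, one_pow]

theorem gcd_three_facts (q : ℕ) (hq : 2 ≤ q) :
    Nat.gcd 3 (q + 1) ∣ q + 1 ∧ Nat.gcd 3 (q + 1) ∣ q - 2 ∧ Nat.gcd 3 (q + 1) ∣ q ^ 2 - 1 ∧
      Nat.gcd 3 (q + 1) ∣ q ^ 2 - q + 1 := by
  have h1 := Nat.gcd_dvd_right 3 (q + 1)
  have h3 := Nat.gcd_dvd_left 3 (q + 1)
  have h2 : Nat.gcd 3 (q + 1) ∣ q - 2 := by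
    have h := Nat.dvd_sub h1 h3
    rwa [show q + 1 - 3 = q - 2 by omega] at h
  refine ⟨h1, h2, ?_, ?_⟩
  · rw [show q ^ 2 - 1 = (q + 1) * (q - 1) by rw [← Nat.sq_sub_sq, one_pow]]
    exact h1.mul_right _
  · have hle : q ≤ q ^ 2 := by nlinarith
    have h4 : q ^ 2 - q + 1 = (q + 1) * (q - 2) + 3 := by
      zify [hle, hq]; ring
    rw [h4]
    exact (h1.mul_right _).add h3

section cases

variable {K : Type*} [Field K] {a b c : K}

theorem psu3_swap (hq : 2 ≤ q) (hab : b = (a ^ q)⁻¹) (hba : a = (b ^ q)⁻¹) (habc : a * b * c = 1) :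
    b ^ ((q ^ 2 - 1) / Nat.gcd 3 (q + 1)) = a ^ ((q ^ 2 - 1) / Nat.gcd 3 (q + 1)) ∧
      c ^ ((q ^ 2 - 1) / Nat.gcd 3 (q + 1)) = a ^ ((q ^ 2 - 1) / Nat.gcd 3 (q + 1)) := by
  obtain ⟨h1, h2, h3, -⟩ := gcd_three_facts q hq
  have hab0 : a * b ≠ 0 := left_ne_zero_of_mul_eq_one habc
  have ha0 : a ≠ 0 := left_ne_zero_of_mul hab0
  have ha2 : a ^ (q ^ 2) = a := by
    conv_rhs => rw [hba, hab, inv_pow, inv_inv, ← pow_mul, ← sq]
  have haN : a ^ (q ^ 2 - 1) = 1 := by
    apply mul_right_cancel₀ ha0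
    rw [← pow_succ, Nat.sub_add_cancel (Nat.one_le_pow 2 q (by omega)), ha2, one_mul]
  have e1 := pow_eq_one_of_dvd' haN (dvd_mul_div_of_dvd h3 h1)
  have e2 := pow_eq_one_of_dvd' haN (dvd_mul_div_of_dvd h3 h2)
  set k := (q ^ 2 - 1) / Nat.gcd 3 (q + 1)
  have hb : b ^ k = a ^ k := by
    rw [hab, inv_pow, ← pow_mul]
    apply inv_eq_of_mul_eq_one_right
    rw [← pow_add, ← Nat.succ_mul]
    exact e1
  refine ⟨hb, ?_⟩
  have h := congrArg (· ^ k) habc
  simp only [mul_pow, one_pow, hb] at h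
  have e3 : a ^ k * a ^ k * a ^ k = 1 := by
    rw [← pow_add, ← pow_add, show k + k + k = 3 * k by ring]
    have h5 : a ^ ((q + 1) * k) = a ^ ((q - 2) * k) * a ^ (3 * k) := by
      rw [← pow_add, ← add_mul, show q - 2 + 3 = q + 1 by omega]
    rw [e1, e2, one_mul] at h5
    exact h5.symm
  exact mul_left_cancel₀ (mul_ne_zero (pow_ne_zero k ha0) (pow_ne_zero k ha0)) (h.trans e3.symm)

theorem psu3_cycle (hq : 2 ≤ q) (hab : b = (a ^ q)⁻¹) (hbc : c = (b ^ q)⁻¹) (habc : a * b * c = 1) :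
    b ^ ((q ^ 2 - q + 1) / Nat.gcd 3 (q + 1)) = a ^ ((q ^ 2 - q + 1) / Nat.gcd 3 (q + 1)) ∧
      c ^ ((q ^ 2 - q + 1) / Nat.gcd 3 (q + 1)) = a ^ ((q ^ 2 - q + 1) / Nat.gcd 3 (q + 1)) := by
  obtain ⟨h1, -, -, h4⟩ := gcd_three_facts q hq
  have hab0 : a * b ≠ 0 := left_ne_zero_of_mul_eq_one habc
  have ha0 : a ≠ 0 := left_ne_zero_of_mul hab0
  have hle : q ≤ q ^ 2 := by nlinarith
  have hc : c = a ^ q ^ 2 := by rw [hbc, hab, inv_pow, inv_inv, ← pow_mul, ← sq]
  have haN : a ^ (q ^ 2 - q + 1) = 1 := by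
    have h : a * c = a ^ q := by
      have h' := habc
      rw [hab] at h'
      calc a * c = a ^ q * (a * (a ^ q)⁻¹ * c) := by field_simp
        _ = a ^ q := by rw [h', mul_one]
    apply mul_right_cancel₀ (pow_ne_zero q ha0)
    rw [← pow_add, one_mul, ← h, hc, show q ^ 2 - q + 1 + q = 1 + q ^ 2 by omega, pow_add, pow_one]
  have e1 := pow_eq_one_of_dvd' haN (dvd_mul_div_of_dvd h4 h1)
  have e2 := pow_eq_one_of_dvd' haN (dvd_mul_div_of_dvd h4 (h1.mul_right (q - 1)))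
  set k := (q ^ 2 - q + 1) / Nat.gcd 3 (q + 1)
  refine ⟨?_, ?_⟩
  · rw [hab, inv_pow, ← pow_mul]
    apply inv_eq_of_mul_eq_one_right
    rw [← pow_add, ← Nat.succ_mul]
    exact e1
  · rw [hc, ← pow_mul, show q ^ 2 = (q + 1) * (q - 1) + 1 by
      rw [← Nat.sq_sub_sq, one_pow, Nat.sub_add_cancel (Nat.one_le_pow 2 q (by omega))],
      Nat.succ_mul, pow_add, e2, one_mul]

theorem psu3_double (hq : 2 ≤ q) (ha : a = (a ^ q)⁻¹) (hc : a * a * c = 1) :
    c ^ ((q + 1) / Nat.gcd 3 (q + 1)) = a ^ ((q + 1) / Nat.gcd 3 (q + 1)) := by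
  obtain ⟨h1, -, -, -⟩ := gcd_three_facts q hq
  have ha0 : a ≠ 0 := left_ne_zero_of_mul (left_ne_zero_of_mul_eq_one hc)
  have haN : a ^ (q + 1) = 1 := by
    rw [pow_succ]
    nth_rewrite 2 [ha]
    exact mul_inv_cancel₀ (pow_ne_zero q ha0)
  have e1 := pow_eq_one_of_dvd' haN (dvd_mul_div_of_dvd h1 (Nat.gcd_dvd_left 3 (q + 1)))
  set k := (q + 1) / Nat.gcd 3 (q + 1)
  have h := congrArg (· ^ k) hc
  simp only [mul_pow, one_pow] at h
  rw [show 3 * k = k + k + k by ring, pow_add, pow_add] at e1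
  exact mul_left_cancel₀ (mul_ne_zero (pow_ne_zero k ha0) (pow_ne_zero k ha0)) (h.trans e1.symm)

end cases

theorem psu3_classify [Fintype F] (hF : Fintype.card F = q ^ 2) (p : ℕ) [Fact p.Prime] [CharP F p] (hp : p ≠ 2)
    (g : Cfsg.SU 3 F q) :
    (QuotientGroup.mk g : Cfsg.PSU 3 F q) ^ (q + 1) = 1 ∨
    (QuotientGroup.mk g : Cfsg.PSU 3 F q) ^ (p * ((q + 1) / Nat.gcd 3 (q + 1))) = 1 ∨
    (QuotientGroup.mk g : Cfsg.PSU 3 F q) ^ ((q ^ 2 - 1) / Nat.gcd 3 (q + 1)) = 1 ∨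
    (QuotientGroup.mk g : Cfsg.PSU 3 F q) ^ ((q ^ 2 - q + 1) / Nat.gcd 3 (q + 1)) = 1 := by
  classical
  have hq : 2 ≤ q := Cfsg.Agent.Lib.Unitary.one_lt_q hF
  let K := AlgebraicClosure F
  set ι := algebraMap F K with hι
  set M : Matrix (Fin 3) (Fin 3) K := (g.1.1 : Matrix (Fin 3) (Fin 3) F).map ι with hM
  obtain ⟨θ, hθ'⟩ := exists_pow_q_hom hF K 1
  have hθ : ∀ x, θ x = x ^ q := fun x => by rw [hθ', pow_one]
  have hdet : M.det = 1 := by
    rw [hM, ← RingHom.mapMatrix_apply, ← RingHom.map_det, g.1.2, map_one]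
  have hH : (M.map θ).transpose * M = 1 := by
    have h := congrArg (fun A : Matrix (Fin 3) (Fin 3) F => A.map ι)
      (dag_mul_self_of_preserving hF (g.1.1 : Matrix (Fin 3) (Fin 3) F) g.2)
    simp only [Matrix.map_mul, Matrix.map_one _ (map_zero ι) (map_one ι)] at h
    rw [hM]
    convert h using 2
    ext i j
    simp [dag, hθ]
  have hfin : ∀ (k : ℕ) (l : K), M ^ k = l • (1 : Matrix (Fin 3) (Fin 3) K) →
      (QuotientGroup.mk g : Cfsg.PSU 3 F q) ^ k = 1 := by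
    intro k l hl
    rw [← QuotientGroup.mk_pow, QuotientGroup.eq_one_iff,
      Cfsg.Agent.Lib.Unitary.mem_center_SU_iff hF (by norm_num)]
    set A : Matrix (Fin 3) (Fin 3) F := ((g ^ k).1.1 : Matrix (Fin 3) (Fin 3) F) with hA
    have hA' : A.map ι = l • (1 : Matrix (Fin 3) (Fin 3) K) := by
      rw [← hl, hM, ← RingHom.mapMatrix_apply, ← RingHom.mapMatrix_apply, ← map_pow]
      rfl
    refine ⟨A 0 0, fun w => ?_⟩
    have hA'' : A = A 0 0 • (1 : Matrix (Fin 3) (Fin 3) F) := by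
      ext i j
      apply ι.injective
      have e := congrFun (congrFun hA' i) j
      have e0 := congrFun (congrFun hA' 0) 0
      simp only [Matrix.map_apply, Matrix.smul_apply, smul_eq_mul] at e e0 ⊢
      rw [map_mul, e, e0]
      by_cases hij : i = j <;> simp [hij, Matrix.one_apply]
    rw [hA'', Matrix.smul_mulVec, Matrix.one_mulVec]
    simp
  set χ := M.charpoly with hχ
  have hmon : χ.Monic := M.charpoly_monic
  have hsplit : χ.Splits := IsAlgClosed.splits χ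
  have hcard : χ.roots.card = 3 := by
    rw [← hsplit.natDegree_eq_card_roots, hχ, Matrix.charpoly_natDegree_eq_dim, Fintype.card_fin]
  obtain ⟨a, b, c, habc⟩ := Multiset.card_eq_three.1 hcard
  have hprod : χ = (X - C a) * ((X - C b) * (X - C c)) := by
    rw [hsplit.eq_prod_roots_of_monic hmon, habc]
    simp
  have hroot : ∀ x, χ.eval x = 0 ↔ x = a ∨ x = b ∨ x = c := by
    intro x
    rw [hprod]
    simp [sub_eq_zero]
  have hp1 : a * b * c = 1 := by
    have h := Matrix.det_eq_prod_roots_charpoly M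
    rw [hdet, ← hχ, habc] at h
    rw [h]
    simp [mul_assoc]
  have hφ : ∀ x, χ.eval x = 0 → x ≠ 0 ∧ χ.eval (x ^ q)⁻¹ = 0 := by
    intro x hx
    have hx0 : x ≠ 0 := by
      rintro rfl
      apply (one_ne_zero : (1 : K) ≠ 0)
      rw [← hp1]
      rcases (hroot 0).1 hx with h | h | h <;> simp [← h]
    refine ⟨hx0, ?_⟩
    rw [hχ, Matrix.eval_charpoly] at hx ⊢
    have h1 := congrArg θ hx
    rw [map_zero, RingHom.map_det, RingHom.mapMatrix_apply, ← Matrix.det_transpose] at h1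
    have h2 : ((Matrix.scalar (Fin 3) x - M).map θ).transpose * M =
        (-(x ^ q)) • (Matrix.scalar (Fin 3) (x ^ q)⁻¹ - M) := by
      rw [Matrix.map_sub _ (map_sub θ), Matrix.transpose_sub, Matrix.sub_mul, hH, Matrix.scalar_apply,
        Matrix.diagonal_map (map_zero θ), Matrix.diagonal_transpose]
      simp only [hθ, Matrix.scalar_apply, ← Matrix.smul_one_eq_diagonal, smul_mul_assoc, one_mul]
      rw [smul_sub, smul_smul, neg_mul, mul_inv_cancel₀ (pow_ne_zero q hx0), neg_smul, neg_smul, one_smul,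
        neg_sub_neg]
    have h3 := congrArg Matrix.det h2
    rw [Matrix.det_mul, h1, zero_mul, Matrix.det_smul, eq_comm] at h3
    exact (mul_eq_zero.1 h3).resolve_left (pow_ne_zero _ (neg_ne_zero.2 (pow_ne_zero q hx0)))
  have hinj : ∀ x y : K, (x ^ q)⁻¹ = (y ^ q)⁻¹ → x = y := fun x y h => by
    apply θ.injective
    rw [hθ, hθ]
    exact inv_injective h
  have hCH : aeval M χ = 0 := M.aeval_self_charpoly
  have hscal : ∀ (m : ℕ) (l : K), a ^ m = l → b ^ m = l → c ^ m = l →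
      (M ^ (p * m) = l ^ p • (1 : Matrix (Fin 3) (Fin 3) K)) ∧
      (a ≠ b → a ≠ c → b ≠ c → M ^ m = l • (1 : Matrix (Fin 3) (Fin 3) K)) := by
    intro m l ha hb hc
    have : CharP K p := charP_of_injective_algebraMap ι.injective p
    have hd : ∀ x : K, x ^ m = l → X - C x ∣ (X ^ m - C l : K[X]) := fun x hx =>
      dvd_iff_isRoot.2 (by simp [hx])
    constructor
    · have h3 : χ ∣ (X ^ m - C l : K[X]) ^ p := by
        refine dvd_trans ?_ (pow_dvd_pow _ (show 3 ≤ p from Nat.lt_of_le_of_ne (Fact.out : p.Prime).two_le (Ne.symm hp)))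
        rw [hprod, pow_succ', sq]
        exact mul_dvd_mul (hd a ha) (mul_dvd_mul (hd b hb) (hd c hc))
      rw [sub_pow_char, ← pow_mul, ← C_pow] at h3
      obtain ⟨r, hr⟩ := h3
      have h := congrArg (aeval M) hr
      rw [map_mul, hCH, zero_mul] at h
      rw [← sub_eq_zero, mul_comm p, ← h]
      simp [Algebra.algebraMap_eq_smul_one, _root_.smul_pow]
    · intro h1 h2 h3
      have hco : ∀ x y : K, x ≠ y → IsCoprime (X - C x) (X - C y) := fun x y h =>
        isCoprime_X_sub_C_of_isUnit_sub (sub_ne_zero.2 h).isUnit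
      have h4 : χ ∣ (X ^ m - C l : K[X]) := by
        rw [hprod]
        exact ((hco a b h1).mul_right (hco a c h2)).mul_dvd (hd a ha) ((hco b c h3).mul_dvd (hd b hb) (hd c hc))
      obtain ⟨r, hr⟩ := h4
      have h := congrArg (aeval M) hr
      rw [map_mul, hCH, zero_mul] at h
      rw [← sub_eq_zero, ← h]
      simp [Algebra.algebraMap_eq_smul_one]
  have perm : ∀ x, (x = a ∨ x = b ∨ x = c) → ((x ^ q)⁻¹ = a ∨ (x ^ q)⁻¹ = b ∨ (x ^ q)⁻¹ = c) :=
    fun x hx => (hroot _).1 (hφ x ((hroot x).2 hx)).2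
  -- repeated eigenvalue
  have hdouble : ∀ x z : K, x * x * z = 1 → (∀ y, (y = a ∨ y = b ∨ y = c) ↔ (y = x ∨ y = z)) →
      (QuotientGroup.mk g : Cfsg.PSU 3 F q) ^ (p * ((q + 1) / Nat.gcd 3 (q + 1))) = 1 := by
    intro x z hxz hset
    have hx : (x ^ q)⁻¹ = x := by
      rcases (hset _).1 (perm x ((hset x).2 (Or.inl rfl))) with h | h
      · exact h
      rcases (hset _).1 (perm z ((hset z).2 (Or.inr rfl))) with h' | h'
      · have hx0 : x ≠ 0 := left_ne_zero_of_mul (left_ne_zero_of_mul_eq_one hxz)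
        have e1 : x * x = x ^ q := by
          rw [← h] at hxz
          calc x * x = x * x * (x ^ q)⁻¹ * x ^ q := by rw [inv_mul_cancel_right₀ (pow_ne_zero q hx0)]
            _ = x ^ q := by rw [hxz, one_mul]
        have e2 : (x ^ q) ^ q = x := by rw [← h, inv_pow, inv_inv] at h'; exact h'
        have e3 : x * x * (x * x) = x := by
          calc x * x * (x * x) = x ^ q * x ^ q := by rw [e1]
            _ = (x * x) ^ q := (mul_pow x x q).symm
            _ = x := by rw [e1, e2]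
        apply inv_eq_of_mul_eq_one_right
        rw [← e1]
        apply mul_right_cancel₀ hx0
        calc x * x * x * x = x * x * (x * x) := by ring
          _ = x := e3
          _ = 1 * x := (one_mul x).symm
      · rw [← hinj x z (h.trans h'.symm)] at h; exact h
    have hk := psu3_double hq hx.symm hxz
    set k := (q + 1) / Nat.gcd 3 (q + 1)
    have hval : ∀ y, (y = a ∨ y = b ∨ y = c) → y ^ k = x ^ k := by
      intro y hy
      rcases (hset y).1 hy with rfl | rfl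
      · rfl
      · exact hk
    exact hfin _ _ (hscal k (x ^ k) (hval a (by simp)) (hval b (by simp)) (hval c (by simp))).1
  by_cases hab : a = b
  · right; left
    subst hab
    exact hdouble a c hp1 (fun y => by tauto)
  by_cases hac : a = c
  · right; left
    subst hac
    exact hdouble a b (by rw [← hp1]; ring) (fun y => by tauto)
  by_cases hbc : b = c
  · right; left
    subst hbc
    exact hdouble b a (by rw [← hp1]; ring) (fun y => by tauto)
  have hdist : ∀ (m : ℕ) (l : K), a ^ m = l → b ^ m = l → c ^ m = l →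
      (QuotientGroup.mk g : Cfsg.PSU 3 F q) ^ m = 1 := fun m l ha hb hc =>
    hfin m l ((hscal m l ha hb hc).2 hab hac hbc)
  have hswap : ∀ x y z : K, x * y * z = 1 → (x ^ q)⁻¹ = y → (y ^ q)⁻¹ = x →
      (∀ w, (w = a ∨ w = b ∨ w = c) → (w = x ∨ w = y ∨ w = z)) →
      (QuotientGroup.mk g : Cfsg.PSU 3 F q) ^ ((q ^ 2 - 1) / Nat.gcd 3 (q + 1)) = 1 := by
    intro x y z h h1 h2 hs
    obtain ⟨e1, e2⟩ := psu3_swap hq h1.symm h2.symm h
    have hval : ∀ w, (w = a ∨ w = b ∨ w = c) → w ^ ((q ^ 2 - 1) / Nat.gcd 3 (q + 1)) = x ^ ((q ^ 2 - 1) / Nat.gcd 3 (q + 1)) := by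
      intro w hw
      rcases hs w hw with rfl | rfl | rfl
      · rfl
      · exact e1
      · exact e2
    exact hdist _ _ (hval a (by simp)) (hval b (by simp)) (hval c (by simp))
  have hcyc : ∀ x y z : K, x * y * z = 1 → (x ^ q)⁻¹ = y → (y ^ q)⁻¹ = z →
      (∀ w, (w = a ∨ w = b ∨ w = c) → (w = x ∨ w = y ∨ w = z)) →
      (QuotientGroup.mk g : Cfsg.PSU 3 F q) ^ ((q ^ 2 - q + 1) / Nat.gcd 3 (q + 1)) = 1 := by
    intro x y z h h1 h2 hs
    obtain ⟨e1, e2⟩ := psu3_cycle hq h1.symm h2.symm h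
    have hval : ∀ w, (w = a ∨ w = b ∨ w = c) → w ^ ((q ^ 2 - q + 1) / Nat.gcd 3 (q + 1)) = x ^ ((q ^ 2 - q + 1) / Nat.gcd 3 (q + 1)) := by
      intro w hw
      rcases hs w hw with rfl | rfl | rfl
      · rfl
      · exact e1
      · exact e2
    exact hdist _ _ (hval a (by simp)) (hval b (by simp)) (hval c (by simp))
  have nab : (a ^ q)⁻¹ ≠ (b ^ q)⁻¹ := fun h => hab (hinj _ _ h)
  have nac : (a ^ q)⁻¹ ≠ (c ^ q)⁻¹ := fun h => hac (hinj _ _ h)
  have nbc : (b ^ q)⁻¹ ≠ (c ^ q)⁻¹ := fun h => hbc (hinj _ _ h)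
  rcases perm a (by simp) with h1 | h1 | h1 <;> rcases perm b (by simp) with h2 | h2 | h2 <;>
    rcases perm c (by simp) with h3 | h3 | h3 <;>
    first
    | exact absurd (h1.trans h2.symm) nab
    | exact absurd (h1.trans h3.symm) nac
    | exact absurd (h2.trans h3.symm) nbc
    | (left
       have hfix : ∀ x : K, x ≠ 0 → (x ^ q)⁻¹ = x → x ^ (q + 1) = 1 := fun x hx hxq => by
         rw [pow_succ]
         nth_rewrite 2 [← hxq]
         exact mul_inv_cancel₀ (pow_ne_zero q hx)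
       exact hdist _ 1 (hfix a (hφ a ((hroot a).2 (by simp))).1 h1) (hfix b (hφ b ((hroot b).2 (by simp))).1 h2)
         (hfix c (hφ c ((hroot c).2 (by simp))).1 h3))
    | (right; right; left; exact hswap a b c hp1 h1 h2 (fun w hw => hw))
    | (right; right; left; exact hswap a c b (by rw [← hp1]; ring) h1 h3 (fun w hw => by tauto))
    | (right; right; left; exact hswap b c a (by rw [← hp1]; ring) h2 h3 (fun w hw => by tauto))
    | (right; right; right; exact hcyc a b c hp1 h1 h2 (fun w hw => hw))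
    | (right; right; right; exact hcyc a c b (by rw [← hp1]; ring) h1 h3 (fun w hw => by tauto))

theorem exists_orderOf_eq_card_sub_one (F : Type*) [Field F] [Fintype F] :
    ∃ g : Fˣ, orderOf g = Fintype.card F - 1 := by
  obtain ⟨g, hg⟩ := IsCyclic.exists_generator (α := Fˣ)
  exact ⟨g, by rw [orderOf_eq_card_of_forall_mem_zpowers hg, Nat.card_units, Nat.card_eq_fintype_card]⟩

theorem mem_omega_psu3_q_add_one [Fintype F] (hF : Fintype.card F = q ^ 2) :
    q + 1 ∈ omega (Cfsg.PSU 3 F q) := by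
  obtain ⟨g, hg⟩ := exists_orderOf_eq_card_sub_one F
  have hq := Cfsg.Agent.Lib.Unitary.one_lt_q hF
  rw [hF, show q ^ 2 - 1 = (q + 1) * (q - 1) by rw [← Nat.sq_sub_sq, one_pow]] at hg
  have ha : orderOf (g ^ (q - 1)) = q + 1 := by
    rw [orderOf_pow_of_dvd (by omega) (hg ▸ dvd_mul_left (q - 1) (q + 1)), hg,
      Nat.mul_div_cancel _ (by omega)]
  set a : F := ((g ^ (q - 1) : Fˣ) : F) with hadef
  have hA : a ^ (q + 1) = 1 := by
    rw [hadef, ← Units.val_pow_eq_pow_val, ← ha, pow_orderOf_eq_one, Units.val_one]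
  have hao : orderOf a = q + 1 := by rw [hadef, orderOf_units, ha]
  refine exists_psu_order hF (isUnitAlg_prod hF (isUnitAlg_self hF)
    (isUnitAlg_prod hF (isUnitAlg_self hF) (isUnitAlg_self hF))) (by norm_num)
    (by simp [Module.finrank_prod]) (a, a⁻¹, 1) ?_ ?_ ?_
  · refine Prod.ext ?_ (Prod.ext ?_ ?_)
    · change a * a ^ q = 1
      rw [← pow_succ', hA]
    · change a⁻¹ * a⁻¹ ^ q = 1
      rw [← pow_succ', inv_pow, hA, inv_one]
    · change (1 : F) * 1 ^ q = 1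
      rw [one_pow, one_mul]
  · have ha0 : a ≠ 0 := Units.ne_zero _
    simp [norm_prod_mk, Algebra.norm_self, ha0]
  · intro k l h
    have h1 : a ^ k = l := congrArg Prod.fst h
    have h3 : (1 : F) ^ k = l := congrArg (fun t => t.2.2) h
    rw [one_pow] at h3
    rw [← hao]
    exact orderOf_dvd_of_pow_eq_one (h1.trans h3.symm)

theorem coprime_div_gcd {a N d : ℕ} (hd : Nat.gcd N a = d) (hd0 : 0 < d) {k : ℕ} (h : N ∣ a * k) : N / d ∣ k := by
  subst hd
  have h1 : (N / Nat.gcd N a).Coprime (a / Nat.gcd N a) := Nat.coprime_div_gcd_div_gcd hd0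
  apply h1.dvd_of_dvd_mul_left
  rw [← mul_comm k, ← Nat.mul_div_assoc k (Nat.gcd_dvd_right N a), mul_comm k]
  exact Nat.div_dvd_div (Nat.gcd_dvd_left N a) h

theorem mem_omega_psu3_swap [Fintype F] (hF : Fintype.card F = q ^ 2) :
    (q ^ 2 - 1) / Nat.gcd 3 (q + 1) ∈ omega (Cfsg.PSU 3 F q) := by
  obtain ⟨g, hg⟩ := exists_orderOf_eq_card_sub_one F
  have hq := Cfsg.Agent.Lib.Unitary.one_lt_q hF
  rw [hF] at hg
  set a : F := (g : F) with hadef
  have ha0 : a ≠ 0 := Units.ne_zero _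
  have hao : orderOf a = q ^ 2 - 1 := by rw [hadef, orderOf_units, hg]
  have hA : a ^ (q ^ 2 - 1) = 1 := by rw [← hao, pow_orderOf_eq_one]
  let σ : F × F →+* F × F := RingHom.prod ((conj hF).comp (RingHom.snd F F)) ((conj hF).comp (RingHom.fst F F))
  let ℓ : F × F →ₗ[F] F := (LinearMap.id : F →ₗ[F] F).coprod LinearMap.id
  have hU : IsUnitAlg q σ ℓ := by
    refine ⟨fun x => Prod.ext (Cfsg.Agent.Lib.Unitary.pow_q_q hF _) (Cfsg.Agent.Lib.Unitary.pow_q_q hF _),
      fun c => rfl, fun x => ?_, fun x hx => Prod.ext ?_ ?_⟩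
    · change x.2 ^ q + x.1 ^ q = (x.1 + x.2) ^ q
      rw [Cfsg.Agent.Lib.Unitary.add_pow_q hF, add_comm]
    · simpa [ℓ] using hx (1, 0)
    · simpa [ℓ] using hx (0, 1)
  refine exists_psu_order hF (isUnitAlg_prod hF hU (isUnitAlg_self hF)) (by norm_num)
    (by simp [Module.finrank_prod]) ((a, (a ^ q)⁻¹), a ^ (q - 1)) ?_ ?_ ?_
  · refine Prod.ext (Prod.ext ?_ ?_) ?_
    · change a * ((a ^ q)⁻¹) ^ q = 1
      rw [inv_pow, Cfsg.Agent.Lib.Unitary.pow_q_q hF, mul_inv_cancel₀ ha0]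
    · change (a ^ q)⁻¹ * a ^ q = 1
      rw [inv_mul_cancel₀ (pow_ne_zero q ha0)]
    · change a ^ (q - 1) * (a ^ (q - 1)) ^ q = 1
      rw [← pow_succ', ← pow_mul, mul_comm, ← Nat.sq_sub_sq, one_pow, hA]
  · rw [norm_prod_mk, norm_prod_mk, Algebra.norm_self, MonoidHom.id_apply, MonoidHom.id_apply, MonoidHom.id_apply]
    have : a * a ^ (q - 1) = a ^ q := by rw [← pow_succ', Nat.sub_add_cancel (by omega)]
    rw [mul_right_comm, this, mul_inv_cancel₀ (pow_ne_zero q ha0)]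
  · intro k l h
    have h1 : a ^ k = l := congrArg (fun t => t.1.1) h
    have h2 : ((a ^ q)⁻¹) ^ k = l := congrArg (fun t => t.1.2) h
    have h3 : (a ^ (q - 1)) ^ k = l := congrArg Prod.snd h
    have e1 : q ^ 2 - 1 ∣ (q + 1) * k := by
      rw [← hao]
      apply orderOf_dvd_of_pow_eq_one
      rw [Nat.succ_mul, pow_add, h1, ← h2, inv_pow, pow_mul, mul_inv_cancel₀ (pow_ne_zero k (pow_ne_zero q ha0))]
    have e2 : q ^ 2 - 1 ∣ (q - 2) * k := by
      rw [← hao]
      apply orderOf_dvd_of_pow_eq_one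
      apply mul_right_cancel₀ (pow_ne_zero k ha0)
      rw [← pow_add, ← Nat.succ_mul, show (q - 2).succ = q - 1 by omega, pow_mul, h3, h1, one_mul]
    have e3 : q ^ 2 - 1 ∣ 3 * k := by
      have := Nat.dvd_sub e1 e2
      rwa [← Nat.sub_mul, show q + 1 - (q - 2) = 3 by omega] at this
    have hg' : Nat.gcd (q + 1) 3 * k = Nat.gcd ((q + 1) * k) (3 * k) := (Nat.gcd_mul_right _ _ _).symm
    have e4 : q ^ 2 - 1 ∣ Nat.gcd 3 (q + 1) * k := by
      rw [Nat.gcd_comm, hg']; exact Nat.dvd_gcd e1 e3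
    exact (Nat.div_dvd_iff_dvd_mul (gcd_three_facts q (by omega)).2.2.1
      (Nat.gcd_pos_of_pos_left _ (by norm_num))).2 e4

theorem mem_omega_psu3_unip [Fintype F] (hF : Fintype.card F = q ^ 2) (p : ℕ) [Fact p.Prime] [CharP F p] :
    p * (q + 1) / Nat.gcd 3 (q + 1) ∈ omega (Cfsg.PSU 3 F q) := by
  have hp : p.Prime := Fact.out
  obtain ⟨g, hg⟩ := exists_orderOf_eq_card_sub_one F
  have hq := Cfsg.Agent.Lib.Unitary.one_lt_q hF
  rw [hF, show q ^ 2 - 1 = (q + 1) * (q - 1) by rw [← Nat.sq_sub_sq, one_pow]] at hg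
  have ha : orderOf (g ^ (q - 1)) = q + 1 := by
    rw [orderOf_pow_of_dvd (by omega) (hg ▸ dvd_mul_left (q - 1) (q + 1)), hg,
      Nat.mul_div_cancel _ (by omega)]
  set a : F := ((g ^ (q - 1) : Fˣ) : F) with hadef
  have hA : a ^ (q + 1) = 1 := by
    rw [hadef, ← Units.val_pow_eq_pow_val, ← ha, pow_orderOf_eq_one, Units.val_one]
  have hao : orderOf a = q + 1 := by rw [hadef, orderOf_units, ha]
  have ha0 : a ≠ 0 := Units.ne_zero _
  obtain ⟨A, _, _, _, σ, ℓ, u, hU, hdim, hu, huP, hnu, hud⟩ := exists_unipotent_unitAlg hF p (d := 2) (by norm_num)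
  have hP : unipExp p 2 = p := by
    have : Nat.clog p 2 = 1 := le_antisymm
      ((Nat.clog_le_iff_le_pow hp.one_lt).2 (by rw [pow_one]; exact hp.two_le))
      (Nat.clog_pos hp.one_lt one_lt_two)
    rw [unipExp, this, pow_one]
  rw [hP] at huP hud
  refine exists_psu_order hF (isUnitAlg_prod hF hU (isUnitAlg_self hF)) (by norm_num)
    (by rw [Module.finrank_prod, hdim, Module.finrank_self]) (algebraMap F A a * u, (a ^ 2)⁻¹)
    (Prod.ext ?_ ?_) ?_ ?_
  · change algebraMap F A a * u * σ (algebraMap F A a * u) = 1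
    rw [map_mul, hU.semilin, mul_mul_mul_comm, hu, mul_one, ← map_mul, ← pow_succ', hA, map_one]
  · change (a ^ 2)⁻¹ * ((a ^ 2)⁻¹) ^ q = 1
    rw [← pow_succ', inv_pow, pow_right_comm, hA, one_pow, inv_one]
  · rw [norm_prod_mk, map_mul, Algebra.norm_algebraMap, hdim, hnu, mul_one, Algebra.norm_self,
      MonoidHom.id_apply, mul_inv_cancel₀ (pow_ne_zero 2 ha0)]
  · intro k l h
    have e1 : (algebraMap F A a * u) ^ k = algebraMap F A l := congrArg Prod.fst h
    have e2 : ((a ^ 2)⁻¹) ^ k = l := congrArg Prod.snd h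
    have e3 : u ^ k = algebraMap F A ((a ^ k)⁻¹ * l) := by
      rw [mul_pow, ← map_pow] at e1
      have h := congrArg (algebraMap F A ((a ^ k)⁻¹) * ·) e1
      simpa only [← mul_assoc, ← map_mul, inv_mul_cancel₀ (pow_ne_zero k ha0), map_one, one_mul] using h
    have hpk := hud k _ e3
    have : Nontrivial A := Module.nontrivial_of_finrank_pos (R := F) (by rw [hdim]; norm_num)
    have e4 : (a ^ k)⁻¹ * l = 1 := by
      obtain ⟨m, rfl⟩ := hpk
      rw [pow_mul u, huP, one_pow] at e3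
      exact (algebraMap F A).injective (by rw [← e3, map_one])
    have e5 : q + 1 ∣ 3 * k := by
      rw [← hao]
      apply orderOf_dvd_of_pow_eq_one
      rw [← e2, inv_pow, ← mul_inv, inv_eq_one, ← pow_mul, ← pow_add] at e4
      rw [show 3 * k = k + 2 * k by ring]
      exact e4
    have e6 : (q + 1) / Nat.gcd 3 (q + 1) ∣ k :=
      coprime_div_gcd (Nat.gcd_comm _ _) (Nat.gcd_pos_of_pos_left _ (by norm_num)) e5
    rw [Nat.mul_div_assoc p (Nat.gcd_dvd_right 3 (q + 1))]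
    have hpq : p ∣ q := by
      have h2 : p ∣ q ^ 2 := hF ▸ (CharP.cast_eq_zero_iff F p _).1 (FiniteField.cast_card_eq_zero F)
      exact hp.dvd_of_dvd_pow h2
    refine Nat.Coprime.mul_dvd_of_dvd_of_dvd (hp.coprime_iff_not_dvd.2 fun hd => ?_) hpk e6
    have := hd.trans (Nat.div_dvd_of_dvd (Nat.gcd_dvd_right 3 (q + 1)))
    exact hp.one_lt.ne' (Nat.dvd_one.1 ((Nat.dvd_add_right hpq).1 this))

theorem mem_omega_psu3_cycle [Fintype F] (hF : Fintype.card F = q ^ 2) (p : ℕ) [Fact p.Prime] [CharP F p] :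
    (q ^ 2 - q + 1) / Nat.gcd 3 (q + 1) ∈ omega (Cfsg.PSU 3 F q) := by
  have hq : 2 ≤ q := Cfsg.Agent.Lib.Unitary.one_lt_q hF
  let K := FiniteField.Extension F p 3
  have hK : Module.finrank F K = 3 := FiniteField.finrank_extension F p 3
  have : Fintype K := Fintype.ofFinite K
  have hcard : Fintype.card K = q ^ 6 := by
    rw [Fintype.card_eq_nat_card, FiniteField.natCard_extension, Nat.card_eq_fintype_card, hF, ← pow_mul]
  obtain ⟨θ, hθ⟩ := exists_pow_q_hom hF K 3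
  have hA : IsUnitAlg q θ (Algebra.trace F K) := by
    refine ⟨fun x => ?_, fun c => ?_, fun x => ?_, fun x hx => ?_⟩
    · rw [hθ, hθ, ← pow_mul, ← pow_add, ← hcard, FiniteField.pow_card]
    · rw [hθ, ← map_pow, pow_q_pow_odd hF c (by decide)]
    · rw [hθ, algebraMap_pow_q_trace hF (by decide)]
    · exact (traceForm_nondegenerate F K).1 x fun y => hx y
  obtain ⟨g, hg⟩ := exists_orderOf_eq_card_sub_one K
  rw [hcard] at hg
  set T := q ^ 2 - q + 1 with hT
  have hle : q ≤ q ^ 2 := by nlinarith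
  have hfac : q ^ 6 - 1 = T * ((q + 1) * (q ^ 3 - 1)) := by
    have h1 : 1 ≤ q ^ 6 := Nat.one_le_pow 6 q (by omega)
    have h2 : 1 ≤ q ^ 3 := Nat.one_le_pow 3 q (by omega)
    rw [hT]
    zify [h1, h2, hle]
    ring
  have ha : orderOf (g ^ ((q + 1) * (q ^ 3 - 1))) = T := by
    have h0 : 0 < (q + 1) * (q ^ 3 - 1) := by
      have : 1 < q ^ 3 := Nat.one_lt_pow (by norm_num) (by omega)
      exact Nat.mul_pos (by omega) (by omega)
    rw [orderOf_pow_of_dvd h0.ne' (hg ▸ hfac ▸ dvd_mul_left _ T), hg, hfac, Nat.mul_div_cancel _ h0]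
  set a : K := ((g ^ ((q + 1) * (q ^ 3 - 1)) : Kˣ) : K) with hadef
  have hao : orderOf a = T := by rw [hadef, orderOf_units, ha]
  have hA1 : a ^ T = 1 := hao ▸ pow_orderOf_eq_one a
  refine exists_psu_order hF hA (by norm_num) hK a ?_ ?_ ?_
  · rw [hθ, ← pow_succ']
    refine pow_eq_one_of_dvd' hA1 ⟨q + 1, ?_⟩
    rw [hT]; zify [hle]; ring
  · apply (algebraMap F K).injective
    rw [FiniteField.algebraMap_norm_eq_pow, map_one, Nat.card_eq_fintype_card, Nat.card_eq_fintype_card, hcard,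
      hF]
    refine pow_eq_one_of_dvd' hA1 ⟨q ^ 2 + q + 1, ?_⟩
    have h1 : 1 ≤ q ^ 2 := Nat.one_le_pow 2 q (by omega)
    have h6 : q ^ 6 - 1 = (q ^ 4 + q ^ 2 + 1) * (q ^ 2 - 1) := by
      have : 1 ≤ q ^ 6 := Nat.one_le_pow 6 q (by omega)
      zify [this, h1]; ring
    have h4 : 4 ≤ q ^ 2 := by nlinarith
    rw [h6, Nat.mul_div_cancel _ (by omega), hT]
    zify [hle]; ring
  · intro k l h
    have hl0 : l ≠ 0 := by
      intro h0
      rw [h0, map_zero] at h
      exact pow_ne_zero k (Units.ne_zero _) h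
    have e1 : T ∣ (q ^ 2 - 1) * k := by
      rw [← hao]
      apply orderOf_dvd_of_pow_eq_one
      rw [mul_comm, pow_mul, h, ← map_pow, ← hF, FiniteField.pow_card_sub_one_eq_one l hl0, map_one]
    have hgcd : Nat.gcd T (q ^ 2 - 1) = Nat.gcd 3 (q + 1) := by
      have hcop : Nat.Coprime T (q - 1) := by
        have : T = 1 + q * (q - 1) := by rw [hT, Nat.mul_sub, mul_one, ← sq]; omega
        rw [Nat.Coprime, this, Nat.gcd_add_mul_right_left, Nat.gcd_one_left]
      rw [show q ^ 2 - 1 = (q + 1) * (q - 1) by rw [← Nat.sq_sub_sq, one_pow],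
        Nat.Coprime.gcd_mul_right_cancel_right _ hcop.symm]
      have h3 : T = 3 + (q - 2) * (q + 1) := by
        rw [hT]; zify [hle, hq]; ring
      rw [h3, Nat.gcd_add_mul_right_left]
    exact coprime_div_gcd hgcd (Nat.gcd_pos_of_pos_left _ (by norm_num)) e1

theorem omega_psu3 [Fintype F] (hF : Fintype.card F = q ^ 2) (p : ℕ) [Fact p.Prime] [CharP F p] (hp : p ≠ 2) :
    omega (Cfsg.PSU 3 F q) =
      {s : ℕ | s ∣ q + 1} ∪ {s : ℕ | s ∣ p * (q + 1) / Nat.gcd 3 (q + 1)} ∪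
        {s : ℕ | s ∣ (q ^ 2 - 1) / Nat.gcd 3 (q + 1)} ∪ {s : ℕ | s ∣ (q ^ 2 - q + 1) / Nat.gcd 3 (q + 1)} := by
  apply Set.Subset.antisymm
  · rintro s ⟨x, rfl⟩
    obtain ⟨g, rfl⟩ := QuotientGroup.mk_surjective x
    simp only [Set.mem_union, Set.mem_setOf_eq, Nat.mul_div_assoc p (Nat.gcd_dvd_right 3 (q + 1))]
    rcases psu3_classify hF p hp g with h | h | h | h
    · exact Or.inl (Or.inl (Or.inl (orderOf_dvd_of_pow_eq_one h)))
    · exact Or.inl (Or.inl (Or.inr (orderOf_dvd_of_pow_eq_one h)))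
    · exact Or.inl (Or.inr (orderOf_dvd_of_pow_eq_one h))
    · exact Or.inr (orderOf_dvd_of_pow_eq_one h)
  · rintro s (((h | h) | h) | h)
    · exact omega_of_dvd (mem_omega_psu3_q_add_one hF) h
    · exact omega_of_dvd (mem_omega_psu3_unip hF p) h
    · exact omega_of_dvd (mem_omega_psu3_swap hF) h
    · exact omega_of_dvd (mem_omega_psu3_cycle hF p) h

end Cfsg.Agent.Lib.LinearOrders
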