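import Cfsg.Agent.Lib.LinearOrders.Unipotent
import Cfsg.Agent.Lib.OrderSets.Basic

/-!
Element orders in `PSL_n(q)`: extending by a prime divisor of `q - 1`, and irreducible elements.
-/

set_option autoImplicit false

namespace Cfsg.Agent.Lib.LinearOrders

open Matrix Polynomial
open Cfsg.Agent.Lib.OrderSets

variable {F : Type*} [Field F]

/-- The projection of `SL_n` onto `PSL_n`. -/
abbrev toPSL {n : ℕ} :
    Matrix.SpecialLinearGroup (Fin n) F →* Matrix.ProjectiveSpecialLinearGroup (Fin n) F :=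
  QuotientGroup.mk' _

theorem toPSL_eq_one_iff {n : ℕ} (A : Matrix.SpecialLinearGroup (Fin n) F) :
    toPSL A = 1 ↔ ∃ c : F, (A : Matrix (Fin n) (Fin n) F) = Matrix.scalar (Fin n) c := by
  rw [toPSL, QuotientGroup.mk'_apply, QuotientGroup.eq_one_iff,
    Matrix.SpecialLinearGroup.mem_center_iff]
  constructor
  · rintro ⟨c, -, h⟩; exact ⟨c, h.symm⟩
  · rintro ⟨c, h⟩
    refine ⟨c, ?_, h.symm⟩
    have := A.2
    rw [h] at this
    simpa using this

theorem exists_primitive_root [Fintype F] {r : ℕ} (hr : r.Prime) (hrq : r ∣ Fintype.card F - 1) :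
    ∃ ζ : F, ζ ^ r = 1 ∧ ζ ≠ 1 := by
  have : Fact r.Prime := ⟨hr⟩
  obtain ⟨u, hu⟩ := exists_prime_orderOf_dvd_card' (G := Fˣ) r
    (by rw [Nat.card_units, Nat.card_eq_fintype_card]; exact hrq)
  refine ⟨(u : F), ?_, fun h => ?_⟩
  · rw [← Units.val_pow_eq_pow_val, ← hu, pow_orderOf_eq_one, Units.val_one]
  · rw [show u = 1 from Units.ext h, orderOf_one] at hu
    exact hr.ne_one hu.symm

theorem exists_commuting_of_idempotent [Fintype F] {n r : ℕ} (hn : 1 ≤ n) (hr : r.Prime)
    (hrq : r ∣ Fintype.card F - 1) (hrn : ¬ r ∣ n) (g : Matrix.SpecialLinearGroup (Fin n) F)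
    (e : Matrix (Fin n) (Fin n) F) (he : e * e = e) (he0 : e ≠ 0) (he1 : e ≠ 1)
    (hge : Commute (g : Matrix (Fin n) (Fin n) F) e) :
    ∃ z : Matrix.ProjectiveSpecialLinearGroup (Fin n) F, Commute (toPSL g) z ∧ orderOf z = r := by
  have : Nonempty (Fin n) := ⟨⟨0, hn⟩⟩
  have : Fact r.Prime := ⟨hr⟩
  obtain ⟨ζ, hζ, hζ1⟩ := exists_primitive_root hr hrq
  set z₀ : Matrix (Fin n) (Fin n) F := (ζ - 1) • e + 1 with hz₀
  have hpow : ∀ j : ℕ, z₀ ^ j = (ζ ^ j - 1) • e + 1 := by
    intro j
    induction j with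
    | zero => simp
    | succ j ih =>
      rw [pow_succ, ih, hz₀]
      simp only [add_mul, mul_add, smul_mul_smul_comm, he, mul_one, one_mul]
      rw [← add_assoc, ← add_smul, ← add_smul]
      congr 2
      ring
  have hz₀r : z₀ ^ r = 1 := by rw [hpow, hζ, sub_self, zero_smul, zero_add]
  set δ := z₀.det with hδ
  have hδr : δ ^ r = 1 := by rw [hδ, ← det_pow, hz₀r, det_one]
  obtain ⟨j, -, hj⟩ := Nat.exists_mul_mod_eq_one_of_coprime
    ((hr.coprime_iff_not_dvd.2 hrn).symm) hr.one_lt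
  set c : F := δ ^ ((r - 1) * j) with hc
  have hcr : c ^ r = 1 := by rw [hc, ← pow_mul, mul_comm, pow_mul, hδr, one_pow]
  have hdet : (c • z₀).det = 1 := by
    rw [det_smul, Fintype.card_fin, ← hδ, hc, ← pow_mul,
      show (r - 1) * j * n = (r - 1) * (n * j) by ring]
    have h1 : δ ^ (n * j) = δ := by
      rw [← Nat.mod_add_div (n * j) r, hj, pow_add, pow_one, pow_mul, hδr, one_pow, mul_one]
    rw [mul_comm (r - 1), pow_mul, h1, ← pow_succ, Nat.sub_add_cancel hr.pos, hδr]
  set z : Matrix.SpecialLinearGroup (Fin n) F := ⟨c • z₀, hdet⟩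
  refine ⟨toPSL z, ?_, ?_⟩
  · have h : Commute g z := by
      apply Subtype.ext
      have hc : Commute (g : Matrix (Fin n) (Fin n) F) (c • z₀) :=
        ((hge.smul_right (ζ - 1)).add_right (Commute.one_right _)).smul_right c
      exact hc.eq
    exact h.map _
  · apply orderOf_eq_prime
    · have : z ^ r = 1 := by
        apply Subtype.ext
        change (c • z₀) ^ r = 1
        rw [_root_.smul_pow, hcr, hz₀r, one_smul]
      rw [← map_pow, this, map_one]
    · rw [Ne, toPSL_eq_one_iff]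
      rintro ⟨d, hd⟩
      have hd' : c • z₀ = algebraMap F (Matrix (Fin n) (Fin n) F) d := hd
      have hc0 : c ≠ 0 := by
        intro h0
        rw [h0, zero_pow hr.pos.ne'] at hcr
        exact zero_ne_one hcr
      have hζ0 : ζ - 1 ≠ 0 := sub_ne_zero.2 hζ1
      obtain ⟨a, ha⟩ : ∃ a : F, e = a • (1 : Matrix (Fin n) (Fin n) F) := by
        refine ⟨(d / c - 1) / (ζ - 1), ?_⟩
        rw [hz₀, smul_add, smul_smul, Algebra.algebraMap_eq_smul_one] at hd'
        have h' : (c * (ζ - 1)) • e = (d - c) • (1 : Matrix (Fin n) (Fin n) F) := by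
          rw [sub_smul, ← hd', add_sub_cancel_right]
        apply smul_right_injective _ (mul_ne_zero hc0 hζ0)
        simp only [h', smul_smul]
        congr 1
        field_simp
      have h2 := he
      rw [ha, smul_mul_smul_comm, mul_one] at h2
      have h3 : a * a = a := by
        have h4 := congrFun (congrFun h2 ⟨0, hn⟩) ⟨0, hn⟩
        simpa using h4
      rcases mul_eq_zero.1 (show a * (a - 1) = 0 by rw [mul_sub, h3]; ring) with h | h
      · exact he0 (by rw [ha, h, zero_smul])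
      · exact he1 (by rw [ha, sub_eq_zero.1 h, one_smul])

theorem exists_idempotent_or_irreducible_minpoly [Finite F] {n : ℕ} (hn : 1 ≤ n) (p : ℕ) [Fact p.Prime]
    [CharP F p] (s : GL (Fin n) F) (hs : ¬ p ∣ orderOf s) :
    (∃ e : Matrix (Fin n) (Fin n) F, e * e = e ∧ e ≠ 0 ∧ e ≠ 1 ∧
        ∀ B, Commute B (s : Matrix (Fin n) (Fin n) F) → Commute B e) ∨
      Irreducible (minpoly F (s : Matrix (Fin n) (Fin n) F)) := by
  have : Nonempty (Fin n) := ⟨⟨0, hn⟩⟩
  set S : Matrix (Fin n) (Fin n) F := (s : Matrix (Fin n) (Fin n) F) with hS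
  set m := minpoly F S with hm
  by_cases hirr : Irreducible m
  · exact Or.inr hirr
  left
  have hint := Matrix.isIntegral (R := F) S
  have hm0 : m ≠ 0 := minpoly.ne_zero hint
  have hne : ((orderOf s : ℕ) : F) ≠ 0 := fun h => hs ((CharP.cast_eq_zero_iff F p _).1 h)
  have hmP : m ∣ X ^ orderOf s - C 1 := minpoly.dvd F S (by
    simp [hS, ← Units.val_pow_eq_pow_val, pow_orderOf_eq_one])
  have hsq : Squarefree m := (separable_X_pow_sub_C (1 : F) hne one_ne_zero).squarefree.squarefree_of_dvd hmP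
  have hnu : ¬ IsUnit m := minpoly.not_isUnit F S
  obtain ⟨f, hf, ⟨h, hfh⟩⟩ := WfDvdMonoid.exists_irreducible_factor hnu hm0
  have hh : ¬ IsUnit h := by
    intro hu
    apply hirr
    rw [hfh]
    exact (irreducible_mul_isUnit hu).2 hf
  have hcop : IsCoprime f h := by
    rw [hf.coprime_iff_not_dvd]
    rintro ⟨k, hk⟩
    exact hf.not_isUnit (hsq f ⟨k, by rw [hfh, hk]; ring⟩)
  obtain ⟨u, v, huv⟩ := hcop
  refine ⟨aeval S (u * f), ?_, ?_, ?_, fun B hB => ?_⟩
  · rw [← sub_eq_zero, ← map_mul, ← map_sub]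
    have h1 : u * f * (u * f) - u * f = -(u * v) * m := by
      rw [hfh]; linear_combination (u * f) * huv
    rw [h1, map_mul, hm, minpoly.aeval, mul_zero]
  · intro h0
    have h1 : h ∣ u * f := dvd_trans ⟨f, hfh.trans (mul_comm _ _)⟩ (minpoly.dvd F S h0)
    apply hh
    apply isUnit_of_dvd_one
    rw [← huv]
    exact dvd_add h1 (dvd_mul_left h v)
  · intro h0
    have h2 : aeval S (v * h) = 0 := by
      have := congrArg (aeval S) huv
      rwa [map_add, h0, map_one, add_eq_left] at this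
    have h1 : f ∣ v * h := dvd_trans ⟨h, hfh⟩ (minpoly.dvd F S h2)
    apply hf.not_isUnit
    apply isUnit_of_dvd_one
    rw [← huv]
    exact dvd_add (dvd_mul_left f u) h1
  · generalize u * f = q
    induction q using Polynomial.induction_on' with
    | add a b ha hb => rw [map_add]; exact ha.add_right hb
    | monomial k a =>
      rw [aeval_monomial, ← Algebra.smul_def]
      exact (hB.pow_right k).smul_right a

theorem exists_mulLeft_conj [Finite F] {n : ℕ} (hn : 1 ≤ n) {K : Type*} [Field K] [Finite K] [Algebra F K]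
    (hK : Module.finrank F K = n) (S : Matrix (Fin n) (Fin n) F)
    (hirr : Irreducible (minpoly F S)) :
    ∃ (lam : K) (ψ : (Fin n → F) ≃ₗ[F] K), ∀ v, ψ (S *ᵥ v) = lam * ψ v := by
  have : Nonempty (Fin n) := ⟨⟨0, hn⟩⟩
  have : Fact (Irreducible (minpoly F S)) := ⟨hirr⟩
  let E := AdjoinRoot (minpoly F S)
  let pb := AdjoinRoot.powerBasis hirr.ne_zero
  have : Module.Finite F E := Module.Finite.of_basis pb.basis
  have : Finite E := Module.finite_of_finite F
  have hker : ∀ a : F[X], a ∈ Ideal.span {minpoly F S} → (aeval S : F[X] →ₐ[F] _) a = 0 := by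
    intro a ha
    obtain ⟨c, rfl⟩ := Ideal.mem_span_singleton.1 ha
    rw [map_mul, minpoly.aeval, zero_mul]
  let toMat : E →ₐ[F] Matrix (Fin n) (Fin n) F := Ideal.Quotient.liftₐ _ (aeval S) hker
  have hroot : toMat (AdjoinRoot.root (minpoly F S)) = S := by
    change (aeval S) (X : F[X]) = S
    exact aeval_X S
  let toEnd : E →ₐ[F] Module.End F (Fin n → F) :=
    (Matrix.toLinAlgEquiv' (R := F) (n := Fin n)).toAlgHom.comp toMat
  letI : Module E (Fin n → F) := Module.compHom _ toEnd.toRingHom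
  have hsmul : ∀ (x : E) (v : Fin n → F), x • v = toEnd x v := fun _ _ => rfl
  haveI : IsScalarTower F E (Fin n → F) := ⟨fun a x v => by
    rw [hsmul, hsmul, map_smul, LinearMap.smul_apply]⟩
  have : Module.Finite E (Fin n → F) := Module.Finite.of_restrictScalars_finite F E _
  have hfin : Module.finrank F E * Module.finrank E (Fin n → F) = n := by
    rw [Module.finrank_mul_finrank, Module.finrank_fin_fun]
  obtain ⟨φ⟩ : Nonempty (E →ₐ[F] K) :=
    FiniteField.nonempty_algHom_of_finrank_dvd (by rw [hK]; exact Dvd.intro _ hfin)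
  letI : Algebra E K := φ.toRingHom.toAlgebra
  haveI : IsScalarTower F E K := IsScalarTower.of_algebraMap_eq' φ.comp_algebraMap.symm
  have : Module.Finite E K := Module.Finite.of_finite
  have hfinK : Module.finrank F E * Module.finrank E K = n := by
    rw [Module.finrank_mul_finrank, hK]
  obtain ⟨ψ⟩ := FiniteDimensional.nonempty_linearEquiv_of_finrank_eq
    (R := E) (M := Fin n → F) (M' := K)
    (Nat.eq_of_mul_eq_mul_left Module.finrank_pos (hfin.trans hfinK.symm))
  refine ⟨φ (AdjoinRoot.root (minpoly F S)), ψ.restrictScalars F, fun v => ?_⟩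
  have h : (AdjoinRoot.root (minpoly F S) : E) • v = S *ᵥ v := by
    rw [hsmul]
    simp [toEnd, hroot]
  change ψ (S *ᵥ v) = _
  rw [← h, map_smul, Algebra.smul_def]
  rfl

theorem exists_singer [Fintype F] {n : ℕ} (hn : 1 ≤ n) (p : ℕ) [Fact p.Prime] [CharP F p] :
    ∃ σ : Matrix.SpecialLinearGroup (Fin n) F, ¬ p ∣ orderOf (toPSL σ) ∧
      ∀ g : Matrix.SpecialLinearGroup (Fin n) F,
        Irreducible (minpoly F (g : Matrix (Fin n) (Fin n) F)) →
          (toPSL g) ^ orderOf (toPSL σ) = 1 := by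
  have : NeZero n := ⟨by omega⟩
  have : Nonempty (Fin n) := ⟨⟨0, hn⟩⟩
  let K := FiniteField.Extension F p n
  have hK : Module.finrank F K = n := FiniteField.finrank_extension F p n
  let b : Module.Basis (Fin n) F K := Module.finBasisOfFinrankEq F K hK
  let N : Kˣ →* Fˣ := Units.map (Algebra.norm F : K →* F)
  obtain ⟨σ₀, hσ₀⟩ := IsCyclic.exists_generator (α := N.ker)
  have hdet : ∀ x : Kˣ, x ∈ N.ker → (Algebra.leftMulMatrix b (x : K)).det = 1 := by
    intro x hx
    rw [← Algebra.norm_eq_matrix_det]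
    exact congrArg Units.val (MonoidHom.mem_ker.1 hx)
  let σ : Matrix.SpecialLinearGroup (Fin n) F :=
    ⟨Algebra.leftMulMatrix b ((σ₀ : Kˣ) : K), hdet _ σ₀.2⟩
  refine ⟨σ, ?_, fun g hg => ?_⟩
  · intro hdvd
    have hp : p.Prime := Fact.out
    set u : Kˣ := (σ₀ : Kˣ)
    have h1 : σ ^ orderOf u = 1 := by
      apply Subtype.ext
      change (Algebra.leftMulMatrix b (u : K)) ^ orderOf u = 1
      rw [← map_pow, ← Units.val_pow_eq_pow_val, pow_orderOf_eq_one, Units.val_one, map_one]
    have h2 : orderOf (toPSL σ) ∣ orderOf u :=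
      orderOf_dvd_of_pow_eq_one (by rw [← map_pow, h1, map_one])
    have h3 : orderOf u ∣ Fintype.card F ^ n - 1 := by
      have := orderOf_dvd_natCard u
      rwa [Nat.card_units, FiniteField.natCard_extension, Nat.card_eq_fintype_card] at this
    have h4 : p ∣ Fintype.card F ^ n - 1 := (hdvd.trans h2).trans h3
    have h5 : p ∣ Fintype.card F ^ n :=
      ((CharP.cast_eq_zero_iff F p _).1 (FiniteField.cast_card_eq_zero F)).trans (dvd_pow_self _ (by omega))
    have h6 : 1 ≤ Fintype.card F ^ n := Nat.one_le_pow _ _ Fintype.card_pos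
    have h7 := Nat.dvd_sub h5 h4
    rw [Nat.sub_sub_self h6] at h7
    exact hp.one_lt.ne' (Nat.dvd_one.1 h7)
  · set m := orderOf (toPSL σ)
    obtain ⟨lam, ψ, hψ⟩ := exists_mulLeft_conj hn hK _ hg
    have hlin : (Algebra.lmul F K lam) =
        (ψ : (Fin n → F) →ₗ[F] K) ∘ₗ Matrix.toLin' (g : Matrix (Fin n) (Fin n) F) ∘ₗ (ψ.symm : K →ₗ[F] (Fin n → F)) := by
      ext x
      simp [hψ]
    have hN : Algebra.norm F lam = 1 := by
      rw [Algebra.norm_apply, hlin, LinearMap.det_conj, LinearMap.det_toLin', g.2]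
    have hlam0 : lam ≠ 0 := by
      intro h0
      rw [h0, Algebra.norm_zero] at hN
      exact zero_ne_one hN
    have hmem : Units.mk0 lam hlam0 ∈ N.ker := MonoidHom.mem_ker.2 (Units.ext hN)
    obtain ⟨j, hj⟩ := (hσ₀ ⟨_, hmem⟩ : _)
    have hσm : toPSL (σ ^ m) = 1 := by rw [map_pow, pow_orderOf_eq_one]
    obtain ⟨c, hc⟩ := (toPSL_eq_one_iff _).1 hσm
    have hσc : ((σ₀ : Kˣ) : K) ^ m = algebraMap F K c := by
      apply Algebra.leftMulMatrix_injective b
      rw [map_pow, (Algebra.leftMulMatrix b).commutes]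
      exact hc
    have hlamm : lam ^ m = algebraMap F K (c ^ j) := by
      have : lam = (((σ₀ : Kˣ) : K)) ^ j := by
        have := congrArg (fun x : N.ker => ((x : Kˣ) : K)) hj
        simpa using this.symm
      rw [this, ← zpow_natCast, ← _root_.zpow_mul, mul_comm, _root_.zpow_mul, zpow_natCast, hσc, map_zpow₀]
    rw [← map_pow, toPSL_eq_one_iff]
    refine ⟨c ^ j, ?_⟩
    have hk : ∀ (k : ℕ) (v : Fin n → F),
        ψ ((g : Matrix (Fin n) (Fin n) F) ^ k *ᵥ v) = lam ^ k * ψ v := by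
      intro k
      induction k with
      | zero => simp
      | succ k ih =>
        intro v
        rw [pow_succ', ← Matrix.mulVec_mulVec, hψ, ih, pow_succ', mul_assoc]
    apply Matrix.toLin'.injective
    apply LinearMap.ext
    intro v
    apply ψ.injective
    rw [Matrix.toLin'_apply, Matrix.toLin'_apply, Matrix.SpecialLinearGroup.coe_pow, hk, hlamm,
      show Matrix.scalar (Fin n) (c ^ j) = (c ^ j) • (1 : Matrix (Fin n) (Fin n) F) from
        (Algebra.algebraMap_eq_smul_one _), Matrix.smul_mulVec, Matrix.one_mulVec, map_smul,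
      Algebra.smul_def]

end Cfsg.Agent.Lib.LinearOrders
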