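import Cfsg.Agent.Lib.LinearOrders.SympOrders

/-!
Classification of the elements of `PSp_2n(q)`, `q` odd, by the possibility of extending their order by 2.
-/

set_option autoImplicit false

namespace Cfsg.Agent.Lib.LinearOrders

open Polynomial
open Cfsg.Agent.Lib.Symplectic

theorem not_dvd_orderOf_pow_of_forall {G : Type*} [Group G] [Finite G] {p : ℕ} (hp : p.Prime) (g : G) (P : ℕ)
    (h : ∀ j i : ℕ, (g ^ j) ^ p ^ i = 1 → (g ^ j) ^ P = 1) : ¬ p ∣ orderOf (g ^ P) := by
  have ho := orderOf_pos g
  have hd : p ^ (orderOf g).factorization p ∣ orderOf g := Nat.ordProj_dvd _ _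
  set j := orderOf g / p ^ (orderOf g).factorization p
  have h1 : (g ^ j) ^ p ^ (orderOf g).factorization p = 1 := by
    rw [← pow_mul, Nat.div_mul_cancel hd, pow_orderOf_eq_one]
  have h2 := h j _ h1
  intro hdvd
  have h3 : (g ^ P) ^ j = 1 := by rw [← pow_mul, mul_comm, pow_mul, h2]
  exact Nat.not_dvd_ordCompl hp ho.ne' (hdvd.trans (orderOf_dvd_of_pow_eq_one h3))

theorem orderOf_dvd_mul_of_pow {G : Type*} [Group G] [Finite G] {p : ℕ} (hp : p.Prime) (x : G) {a c Pe : ℕ}
    (h : x ^ (p ^ c * a) = 1) (hPe : Pe ∣ p ^ c) (hx : ¬ p ∣ orderOf (x ^ Pe)) : orderOf x ∣ Pe * a := by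
  obtain ⟨t, ht⟩ := hPe
  have h1 : orderOf (x ^ Pe) ∣ t * a := orderOf_dvd_of_pow_eq_one (by rw [← pow_mul, ← mul_assoc, ← ht, h])
  obtain ⟨i, -, rfl⟩ := (Nat.dvd_prime_pow hp).1 (ht ▸ dvd_mul_left t Pe)
  have h2 : orderOf (x ^ Pe) ∣ a :=
    ((hp.coprime_iff_not_dvd.2 hx).symm.pow_right i).dvd_of_dvd_mul_left h1
  exact orderOf_dvd_of_pow_eq_one (by rw [pow_mul, orderOf_dvd_iff_pow_eq_one.1 h2])

theorem two_mul_dvd_lcm {p m Pe Pe' a A : ℕ} (hp : p.Prime) (hA : A = 2 * a) (hpA : ¬ p ∣ A)
    {c : ℕ} (hc : Pe' = p ^ c) (hPe : Pe ∣ Pe') (hm : m ∣ Pe * a) : 2 * m ∣ Nat.lcm A Pe' := by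
  have h1 : 2 * m ∣ Pe' * A := by
    have h := Nat.mul_dvd_mul (dvd_refl 2) hm
    rw [show 2 * (Pe * a) = Pe * (2 * a) by ring, ← hA] at h
    exact h.trans (Nat.mul_dvd_mul hPe dvd_rfl)
  have hco : A.Coprime Pe' := hc ▸ (hp.coprime_iff_not_dvd.2 hpA).symm.pow_right c
  rw [hco.lcm_eq_mul, mul_comm A]
  exact h1

universe u

variable {F : Type u} [Field F] {V : Type*} [AddCommGroup V] [Module F V]
  {B : V →ₗ[F] V →ₗ[F] F}

/-- The linear map of an isometry. -/
def isomEnd (B : V →ₗ[F] V →ₗ[F] F) : Isom B →* Module.End F V where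
  toFun g := (g : V ≃ₗ[F] V).toLinearMap
  map_one' := rfl
  map_mul' _ _ := rfl

theorem isomEnd_injective : Function.Injective (isomEnd B) := fun g h e =>
  Subtype.ext (LinearEquiv.toLinearMap_injective e)

theorem finrank_range_le (hB : IsSympForm B) [FiniteDimensional F V] (E E' : Module.End F V)
    (hEE : E * E = E) (hsum : E + E' = 1) (hz : E' * E = 0)
    (hadj : ∀ x y, B (E x) y = B x (E' y)) :
    Module.finrank F (LinearMap.range E) ≤ Module.finrank F (LinearMap.range E') := by
  let φ : LinearMap.range E →ₗ[F] Module.Dual F (LinearMap.range E') :=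
    { toFun := fun x => (B (x : V)).comp (LinearMap.range E').subtype
      map_add' := fun x y => by ext z; simp
      map_smul' := fun c x => by ext z; simp }
  have hinj : Function.Injective φ := by
    rw [← LinearMap.ker_eq_bot, LinearMap.ker_eq_bot']
    rintro ⟨x, hx⟩ h0
    apply Subtype.ext
    refine hB.nondeg x fun y => ?_
    obtain ⟨w, rfl⟩ := hx
    have h1 : B (E w) (E y) = 0 := by
      rw [hadj, show E' (E y) = (E' * E) y from rfl, hz, LinearMap.zero_apply, map_zero]
    have h2 : B (E w) (E' y) = 0 := LinearMap.congr_fun h0 ⟨E' y, y, rfl⟩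
    have hy : y = E y + E' y := by
      rw [← LinearMap.add_apply, hsum]; rfl
    rw [hy, map_add, h1, h2, add_zero]
  exact (LinearMap.finrank_le_finrank_of_injective hinj).trans_eq Subspace.dual_finrank_eq

theorem mk_eq_one_of_end (hB : IsSympForm B) [Finite F] (x : Isom B)
    (h : isomEnd B x = 1 ∨ isomEnd B x = -1) :
    (QuotientGroup.mk x : Isom B ⧸ Subgroup.center (Isom B)) = 1 := by
  rw [QuotientGroup.eq_one_iff, ← SetLike.mem_coe, center_isom hB]
  rcases h with h | h
  · exact Or.inl (isomEnd_injective (h.trans (map_one _).symm))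
  · refine Or.inr (isomEnd_injective ?_)
    rw [h]
    ext v
    rfl

theorem exists_commuting_involution (hB : IsSympForm B) [Finite F] (h2 : (2 : F) ≠ 0) [FiniteDimensional F V]
    [Finite (Isom B)] (g : Isom B) (E : Module.End F V) (hEE : E * E = E) (hE0 : E ≠ 0) (hE1 : E ≠ 1)
    (hadj : ∀ x y, B (E x) y = B x (E y)) (hcomm : Commute (isomEnd B g) E) :
    ∃ z : Isom B ⧸ Subgroup.center (Isom B), Commute (QuotientGroup.mk g) z ∧ orderOf z = 2 := by
  set Z : Module.End F V := 2 • E - 1 with hZ
  have hZZ : ∀ v, Z (Z v) = v := by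
    intro v
    have : Z * Z = 1 := by
      rw [hZ]
      simp only [mul_sub, sub_mul, smul_mul_assoc, mul_smul_comm, hEE, mul_one, one_mul]
      abel
    exact LinearMap.congr_fun this v
  let z0 : V ≃ₗ[F] V := LinearEquiv.ofLinearMap Z Z (LinearMap.ext hZZ) (LinearMap.ext hZZ)
  have hadjZ : ∀ x y, B (Z x) y = B x (Z y) := by
    intro x y
    simp [hZ, hadj]
  have hz0 : z0 ∈ Isom B := fun x y => by
    change B (Z x) (Z y) = B x y
    rw [hadjZ, hZZ]
  let z : Isom B := ⟨z0, hz0⟩
  have hzend : isomEnd B z = Z := rfl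
  refine ⟨QuotientGroup.mk z, ?_, ?_⟩
  · have h : Commute g z := by
      apply isomEnd_injective
      rw [map_mul, map_mul, hzend, hZ]
      exact (hcomm.smul_right 2).sub_right (Commute.one_right _)
    exact h.map (QuotientGroup.mk' (Subgroup.center (Isom B)))
  · have : Fact (Nat.Prime 2) := ⟨Nat.prime_two⟩
    apply orderOf_eq_prime
    · rw [← QuotientGroup.mk_pow, show z ^ 2 = 1 from Subtype.ext (LinearEquiv.ext fun v => hZZ v)]
      rfl
    · intro hc
      rw [QuotientGroup.eq_one_iff, ← SetLike.mem_coe, center_isom hB] at hc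
      have hhalf : ∀ v, (2 : F) • E v = Z v + v := by
        intro v
        simp [hZ, two_smul]
      rcases hc with hc | hc
      · apply hE1
        apply LinearMap.ext
        intro v
        have h : Z v = v := congrArg (fun x : Isom B => x • v) hc |>.trans (one_smul _ v)
        apply smul_right_injective V h2
        simp only [hhalf, h, Module.End.one_apply, two_smul]
      · apply hE0
        apply LinearMap.ext
        intro v
        have h : Z v = -v := (congrArg (fun x : Isom B => x • v) (Set.mem_singleton_iff.1 hc)).trans (negIsom_smul v)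
        apply smul_right_injective V h2
        simp [hhalf, h]

theorem symp_classify [Fintype F] (p : ℕ) [Fact p.Prime] [CharP F p] (h2 : (2 : F) ≠ 0)
    (hodd : Odd (Fintype.card F)) (hB : IsSympForm B)
    [Finite (Isom B)] {n : ℕ} (hn : 1 ≤ n) (hfin : Module.finrank F V = 2 * n) (g : Isom B) :
    (∃ z : Isom B ⧸ Subgroup.center (Isom B), Commute (QuotientGroup.mk g) z ∧ orderOf z = 2) ∨
      orderOf (QuotientGroup.mk g : Isom B ⧸ Subgroup.center (Isom B)) ∣ (Fintype.card F ^ n + 1) / 2 ∨
      orderOf (QuotientGroup.mk g : Isom B ⧸ Subgroup.center (Isom B)) ∣ (Fintype.card F ^ n - 1) / 2 ∨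
      orderOf (QuotientGroup.mk g : Isom B ⧸ Subgroup.center (Isom B)) ∣ unipExp p (2 * n) ∨
      ∃ d, 1 ≤ d ∧ d < n ∧
        (2 * orderOf (QuotientGroup.mk g : Isom B ⧸ Subgroup.center (Isom B)) ∣
            Nat.lcm (Fintype.card F ^ d + 1) (unipExp p (2 * (n - d))) ∨
          2 * orderOf (QuotientGroup.mk g : Isom B ⧸ Subgroup.center (Isom B)) ∣
            Nat.lcm (Fintype.card F ^ d - 1) (unipExp p (2 * (n - d)))) := by
  classical
  have hp : p.Prime := Fact.out
  have : FiniteDimensional F V := FiniteDimensional.of_finrank_pos (by omega)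
  have hnd : ∀ z, (∀ x, B x z = 0) → z = 0 := fun z hz =>
    hB.nondeg z fun y => by rw [hB.swap, hz, neg_zero]
  set L := Isom B ⧸ Subgroup.center (Isom B)
  set x : L := QuotientGroup.mk g with hx
  set m := orderOf x with hm
  set G := isomEnd B g with hG
  set P := unipExp p (2 * n) with hPdef
  set q := Fintype.card F with hq
  have hqp : ∀ d, 1 ≤ d → ¬ p ∣ q ^ d + 1 ∧ ¬ p ∣ q ^ d - 1 := by
    intro d hd
    have h1 : p ∣ q ^ d :=
      ((CharP.cast_eq_zero_iff F p _).1 (FiniteField.cast_card_eq_zero F)).trans (dvd_pow_self _ (by omega))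
    refine ⟨fun h => hp.one_lt.ne' (Nat.dvd_one.1 ((Nat.dvd_add_right h1).1 h)), fun h => ?_⟩
    have h3 := Nat.dvd_sub h1 h
    rw [Nat.sub_sub_self (Nat.one_le_pow _ _ Fintype.card_pos)] at h3
    exact hp.one_lt.ne' (Nat.dvd_one.1 h3)
  set s := g ^ P with hs
  set o := orderOf s with ho
  have hpo : ¬ p ∣ o := by
    refine not_dvd_orderOf_pow_of_forall hp g P fun j i hji => ?_
    obtain ⟨e, he, hcf⟩ := commutant_facts p (1 : Module.End F V) (irreducible_X_sub_C (1 : F))
      (by simp)
    rw [natDegree_X_sub_C, one_mul, hfin] at he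
    subst he
    apply isomEnd_injective
    rw [map_pow, map_one]
    exact (hcf _ (Commute.one_right _)).1 i (by rw [← map_pow, hji, map_one])
  have ho1 : 1 ≤ o := orderOf_pos s
  set S := isomEnd B s with hS
  have hSo : S ^ o = 1 := by rw [hS, ← map_pow, pow_orderOf_eq_one, map_one]
  have hSi : isomEnd B s⁻¹ = S ^ (o - 1) := by
    rw [hS, ← map_pow]
    congr 1
    refine inv_eq_of_mul_eq_one_right ?_
    rw [← pow_succ', Nat.sub_add_cancel ho1, pow_orderOf_eq_one]
  have hGS : Commute G S := by rw [hS, hs, map_pow]; exact (Commute.refl G).pow_right P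
  have hGpoly : ∀ r : F[X], Commute G (aeval S r) := by
    intro r
    induction r using Polynomial.induction_on' with
    | add a b ha hb => rw [map_add]; exact ha.add_right hb
    | monomial k a =>
      rw [aeval_monomial, ← Algebra.smul_def]
      exact (hGS.pow_right k).smul_right a
  have hadj : ∀ (r : F[X]) (v w : V), B (aeval S r v) w = B v (aeval (S ^ (o - 1)) r w) := by
    have hk : ∀ (k : ℕ) (v w : V), B ((S ^ k) v) w = B v (((S ^ (o - 1)) ^ k) w) := by
      intro k v w
      rw [hS, ← map_pow, ← hS, ← hSi, ← map_pow, inv_pow]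
      change B ((s ^ k) • v) w = B v ((s ^ k)⁻¹ • w)
      exact isom_apply_smul_left _ _ _
    intro r v w
    induction r using Polynomial.induction_on' with
    | add a b ha hb => simp [ha, hb]
    | monomial k a =>
      rw [aeval_monomial, aeval_monomial, ← Algebra.smul_def, ← Algebra.smul_def]
      simp [hk]
  have hcompo : ∀ r : F[X], aeval (S ^ (o - 1)) r = aeval S (r.comp (X ^ (o - 1))) := by
    intro r; rw [aeval_comp, map_pow, aeval_X]
  have hdone : ∀ k, (isomEnd B (g ^ k) = 1 ∨ isomEnd B (g ^ k) = -1) → m ∣ k := by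
    intro k h
    apply orderOf_dvd_of_pow_eq_one
    rw [hx, ← QuotientGroup.mk_pow]
    exact mk_eq_one_of_end hB _ h
  set μ := minpoly F S with hμ
  have hint : IsIntegral F S := Algebra.IsIntegral.isIntegral S
  have hμ0 : μ ≠ 0 := minpoly.ne_zero hint
  have hμo : μ ∣ X ^ o - 1 := minpoly.dvd F S (by simp [hSo])
  have hsq : Squarefree μ := by
    have hne : ((o : ℕ) : F) ≠ 0 := fun h => hpo ((CharP.cast_eq_zero_iff F p _).1 h)
    have := (separable_X_pow_sub_C (1 : F) hne one_ne_zero).squarefree
    rw [map_one] at this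
    exact this.squarefree_of_dvd hμo
  have hnt : Nontrivial V := Module.nontrivial_of_finrank_pos (R := F) (by omega)
  have hEndNt : Nontrivial (Module.End F V) := inferInstance
  have hodd' : ∀ d, Even (q ^ d + 1) ∧ Even (q ^ d - 1) := fun d =>
    ⟨hodd.pow.add_one, Nat.Odd.sub_odd hodd.pow odd_one⟩
  by_cases hirr : Irreducible μ
  · by_cases h21 : μ ∣ X ^ 2 - 1
    · refine Or.inr (Or.inr (Or.inr (Or.inl (hdone P ?_))))
      have hSS : S * S = 1 := by
        obtain ⟨c, hc⟩ := h21
        have h := congrArg (aeval S) hc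
        rw [map_mul, hμ, minpoly.aeval, zero_mul] at h
        simpa [sub_eq_zero, sq] using h
      have := aeval_eq_one_or_neg_one hirr (minpoly.aeval F S) X (by rw [aeval_X]; exact hSS)
      rwa [aeval_X] at this
    have hinv : μ ∣ μ.comp (X ^ (o - 1)) := by
      refine minpoly.dvd F S ?_
      rw [← hcompo]
      apply LinearMap.ext
      intro w
      refine hnd _ fun v => ?_
      rw [← hadj, hμ, minpoly.aeval, LinearMap.zero_apply, map_zero, LinearMap.zero_apply]
    obtain ⟨d, hdeg, hd⟩ := exists_half_degree hirr ho1 hμo hinv h21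
    have hSpow : S ^ (o - 1) = S ^ q ^ d := by
      obtain ⟨c, hc⟩ := hd
      have h := congrArg (aeval S) hc
      rw [map_mul, hμ, minpoly.aeval, zero_mul] at h
      simpa [sub_eq_zero] using h
    obtain ⟨e, he, hcf⟩ := commutant_facts p S hirr (minpoly.aeval F S)
    rw [hdeg, hfin, mul_assoc] at he
    have hde : d * e = n := Nat.eq_of_mul_eq_mul_left (by norm_num) he
    have hd1 : 1 ≤ d := Nat.pos_of_ne_zero fun h => by rw [h, zero_mul] at hde; omega
    have he1 : 1 ≤ e := Nat.pos_of_ne_zero fun h => by rw [h, mul_zero] at hde; omega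
    rcases eq_or_lt_of_le he1 with he1 | he2
    · subst he1
      rw [mul_one] at hde
      subst hde
      obtain ⟨r, hr⟩ := (hcf G hGS).2 rfl
      refine Or.inr (Or.inl (hdone _ ?_))
      have hginv : isomEnd B g⁻¹ = G ^ q ^ d := by
        rw [hr, ← map_pow, ← comp_X_pow_card_pow, aeval_comp, map_pow, aeval_X, ← hSpow]
        apply LinearMap.ext
        intro w
        rw [← sub_eq_zero]
        refine hnd _ fun v => ?_
        rw [map_sub, ← hadj, ← hr, sub_eq_zero]
        change B v (g⁻¹ • w) = B (g • v) w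
        rw [isom_apply_smul_left]
      have h1 : G ^ (q ^ d + 1) = 1 := by
        rw [pow_succ, ← hginv, hG, ← map_mul, inv_mul_cancel, map_one]
      obtain ⟨c, hc⟩ := (hodd' d).1
      rw [show (q ^ d + 1) / 2 = c by omega, map_pow, ← hG]
      have hh : aeval S (r ^ c) * aeval S (r ^ c) = 1 := by
        rw [map_pow, ← hr, ← pow_add, ← hc, h1]
      have := aeval_eq_one_or_neg_one hirr (minpoly.aeval F S) (r ^ c) hh
      rwa [map_pow, ← hr] at this
    · refine Or.inr (Or.inr (Or.inr (Or.inr ⟨d, hd1, ?_, Or.inl ?_⟩)))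
      · rw [← hde]; exact lt_mul_of_one_lt_right hd1 he2
      obtain ⟨c, hc⟩ := (hodd' d).1
      have hSc : S ^ c * S ^ c = 1 := by
        rw [← pow_add, ← hc, pow_succ, ← hSpow, ← pow_succ, Nat.sub_add_cancel ho1, hSo]
      have hpow : x ^ (P * c) = 1 := by
        rw [hx, ← QuotientGroup.mk_pow]
        refine mk_eq_one_of_end hB _ ?_
        rw [pow_mul, ← hs, map_pow, ← hS]
        have := aeval_eq_one_or_neg_one hirr (minpoly.aeval F S) (X ^ c) (by rw [map_pow, aeval_X]; exact hSc)
        rwa [map_pow, aeval_X] at this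
      have hle : e ≤ 2 * (n - d) := by
        obtain ⟨e', rfl⟩ : ∃ e', e = e' + 1 := ⟨e - 1, by omega⟩
        have : n - d = d * e' := by rw [← hde, mul_add, mul_one, Nat.add_sub_cancel]
        rw [this]
        have : e' ≤ d * e' := Nat.le_mul_of_pos_left e' hd1
        omega
      have hx' : ¬ p ∣ orderOf (x ^ unipExp p e) := by
        intro h
        refine not_dvd_orderOf_pow_of_forall hp g (unipExp p e) (fun j i hji => ?_)
          (h.trans (orderOf_map_dvd (QuotientGroup.mk' (Subgroup.center (Isom B))) _))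
        apply isomEnd_injective
        rw [map_pow, map_one]
        exact (hcf _ (by rw [map_pow, ← hG]; exact hGS.pow_left j)).1 i (by rw [← map_pow, hji, map_one])
      have hdiv : unipExp p e ∣ P := pow_dvd_pow p (Nat.clog_mono_right p (by omega))
      exact two_mul_dvd_lcm hp (show q ^ d + 1 = 2 * c by omega) (hqp d hd1).1 rfl
        (pow_dvd_pow p (Nat.clog_mono_right p hle)) (orderOf_dvd_mul_of_pow hp x hpow hdiv hx')
  · have hnu : ¬ IsUnit μ := minpoly.not_isUnit F S
    obtain ⟨f, hf, ⟨h, hfh⟩⟩ := WfDvdMonoid.exists_irreducible_factor hnu hμ0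
    have hh : ¬ IsUnit h := by
      intro hu
      apply hirr
      rw [hfh]
      exact (irreducible_mul_isUnit hu).2 hf
    have hcop : IsCoprime f h := by
      rw [hf.coprime_iff_not_dvd]
      rintro ⟨k, hk⟩
      exact hf.not_isUnit (hsq f ⟨k, by rw [hfh, hk]; ring⟩)
    obtain ⟨u, v, huv⟩ := hcop
    set E := aeval S (v * h) with hE
    set E' := aeval (S ^ (o - 1)) (v * h) with hE'
    have hfE : aeval S f * E = 0 := by
      rw [hE, ← map_mul, show f * (v * h) = v * (f * h) by ring, ← hfh, map_mul, hμ, minpoly.aeval, mul_zero]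
    have hEE : E * E = E := by
      rw [← sub_eq_zero, hE, ← map_mul, ← map_sub]
      have h1 : v * h * (v * h) - v * h = -(u * v) * μ := by
        rw [hfh]; linear_combination (v * h) * huv
      rw [h1, map_mul, hμ, minpoly.aeval, mul_zero]
    have hE0 : E ≠ 0 := by
      intro h0
      have h1 : f ∣ v * h := dvd_trans ⟨h, hfh⟩ (minpoly.dvd F S h0)
      exact hf.not_isUnit (isUnit_of_dvd_one (huv ▸ dvd_add (dvd_mul_left f u) h1))
    have hE1 : E ≠ 1 := by
      intro h0
      have h2 : aeval S (u * f) = 0 := by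
        have := congrArg (aeval S) huv
        rwa [map_add, map_one, ← hE, h0, add_eq_right] at this
      have h1 : h ∣ u * f := dvd_trans ⟨f, hfh.trans (mul_comm _ _)⟩ (minpoly.dvd F S h2)
      exact hh (isUnit_of_dvd_one (huv ▸ dvd_add h1 (dvd_mul_left h v)))
    have hadjE : ∀ a b, B (E a) b = B a (E' b) := fun a b => hadj _ a b
    have hadjE' : ∀ a b, B (E' a) b = B a (E b) := fun a b => by
      rw [hB.swap, ← hadjE, ← hB.swap]
    have hE'E : Commute E E' := by
      rw [hE, hE', hcompo]
      exact (Commute.all _ _).map (aeval S)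
    have hE'E' : E' * E' = E' := by
      apply LinearMap.ext
      intro b
      rw [← sub_eq_zero]
      refine hnd _ fun a => ?_
      rw [map_sub, Module.End.mul_apply, ← hadjE, ← hadjE, ← hadjE, ← Module.End.mul_apply, hEE, sub_self]
    have hGE : Commute G E := hGpoly _
    have hGE' : Commute G E' := by rw [hE', hcompo]; exact hGpoly _
    by_cases hA1 : E * E' = 1
    · exfalso
      apply hE1
      calc E = E * (E * E') := by rw [hA1, mul_one]
        _ = 1 := by rw [← mul_assoc, hEE, hA1]
    by_cases hA0 : E * E' ≠ 0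
    · refine Or.inl (exists_commuting_involution hB h2 g _ ?_ hA0 hA1 (fun a b => ?_) (hGE.mul_right hGE'))
      · rw [mul_assoc, ← mul_assoc E' E, ← hE'E.eq, mul_assoc, hE'E', ← mul_assoc, hEE]
      · rw [Module.End.mul_apply, hadjE, hadjE', ← Module.End.mul_apply, hE'E.eq, Module.End.mul_apply]
    push Not at hA0
    have hA0' : E' * E = 0 := hE'E.eq ▸ hA0
    by_cases hsum : E + E' ≠ 1
    · refine Or.inl (exists_commuting_involution hB h2 g _ ?_ ?_ hsum (fun a b => ?_) (hGE.add_right hGE'))
      · rw [add_mul, mul_add, mul_add, hEE, hE'E', hA0, hA0']; simp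
      · intro h0
        apply hE0
        calc E = E * (E + E') := by rw [mul_add, hEE, hA0, add_zero]
          _ = 0 := by rw [h0, mul_zero]
      · simp [hadjE, hadjE', add_comm]
    push Not at hsum
    have hdet : ∀ (X : Module.End F V), (∀ a b, B (X a) (X b) = B a b) → Commute X E → ∀ c : F, c * c = 1 →
        X * E = c • E → X = c • 1 := by
      intro X hX hXE c hc hXc
      have hE'X : X * E' = E' * X := by
        rw [eq_sub_of_add_eq' hsum, mul_sub, sub_mul, mul_one, one_mul, hXE.eq]
      have hE'c : X * E' = c • E' := by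
        apply LinearMap.ext
        intro b
        rw [← sub_eq_zero]
        refine hnd _ fun a => ?_
        have ha : a = E a + E' a := by rw [← LinearMap.add_apply, hsum]; rfl
        have h1 : ∀ w, B (E' a) (E' w) = 0 := fun w => by
          rw [hadjE', ← Module.End.mul_apply, hA0, LinearMap.zero_apply, map_zero]
        have h2' : B (E a) ((X * E') b) = c * B (E a) (E' b) := by
          have h := hX (E a) (E' b)
          rw [show X (E a) = c • E a from LinearMap.congr_fun hXc a, map_smul, LinearMap.smul_apply,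
            smul_eq_mul] at h
          rw [← h, ← mul_assoc, hc, one_mul]
          rfl
        rw [ha, map_add, LinearMap.add_apply]
        have h3 : B (E' a) ((X * E') b - (c • E') b) = 0 := by
          rw [hE'X, Module.End.mul_apply, LinearMap.smul_apply, ← map_smul, ← map_sub]
          exact h1 _
        rw [h3, add_zero, map_sub, h2', LinearMap.smul_apply, map_smul, smul_eq_mul, sub_self]
      calc X = X * (E + E') := by rw [hsum, mul_one]
        _ = c • 1 := by rw [mul_add, hXc, hE'c, ← smul_add, hsum]
    set W := LinearMap.range E with hW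
    have hker : LinearMap.ker E = LinearMap.range E' := by
      apply le_antisymm
      · intro a ha
        refine ⟨a, ?_⟩
        have := LinearMap.congr_fun hsum a
        rwa [LinearMap.add_apply, LinearMap.mem_ker.1 ha, zero_add, Module.End.one_apply] at this
      · rintro _ ⟨a, rfl⟩
        rw [LinearMap.mem_ker, ← Module.End.mul_apply, hA0, LinearMap.zero_apply]
    have hWn : Module.finrank F W = n := by
      have h1 := finrank_range_le hB E E' hEE hsum hA0' hadjE
      have h2 := finrank_range_le hB E' E hE'E' (by rw [add_comm]; exact hsum) hA0 hadjE'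
      have h3 := LinearMap.finrank_range_add_finrank_ker E
      rw [hker, hfin] at h3
      rw [hW]; omega
    have hmaps : ∀ X : Module.End F V, Commute X E → ∀ a ∈ W, X a ∈ W := by
      rintro X hX _ ⟨a, rfl⟩
      exact ⟨X a, (LinearMap.congr_fun hX.eq a).symm⟩
    let R : ∀ (X : Module.End F V), Commute X E → Module.End F W := fun X hX =>
      X.restrict (hmaps X hX)
    have hRv : ∀ X hX (w : W), ((R X hX w : W) : V) = X w := fun _ _ _ => rfl
    have hRpow : ∀ X hX (k : ℕ) (w : W), ((((R X hX) ^ k) w : W) : V) = (X ^ k) w := by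
      intro X hX k
      induction k with
      | zero => intro w; rfl
      | succ k ih =>
        intro w
        rw [pow_succ, pow_succ, Module.End.mul_apply, Module.End.mul_apply, ih, hRv X hX]
    have hSE : Commute S E := by
      rw [hE]
      have h := (Commute.all X (v * h)).map (aeval S)
      rwa [aeval_X] at h
    set T := R S hSE with hT
    have hTp : ∀ (r : F[X]) (w : W), ((aeval T r w : W) : V) = aeval S r w := by
      intro r w
      induction r using Polynomial.induction_on' with
      | add a b ha hb => simp [ha, hb]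
      | monomial k a =>
        rw [aeval_monomial, aeval_monomial, ← Algebra.smul_def, ← Algebra.smul_def, LinearMap.smul_apply,
          LinearMap.smul_apply, Submodule.coe_smul, hT, hRpow S hSE]
    have hTf : aeval T f = 0 := by
      apply LinearMap.ext
      rintro ⟨_, a, rfl⟩
      apply Subtype.ext
      rw [hTp, ← Module.End.mul_apply, hfE]
      rfl
    obtain ⟨e, he, hcf⟩ := commutant_facts p T hf hTf
    rw [hWn] at he
    set d := f.natDegree
    have hd1 : 1 ≤ d := hf.natDegree_pos
    have he1 : 1 ≤ e := Nat.pos_of_ne_zero fun h => by rw [h, mul_zero] at he; omega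
    have hWnt : Nontrivial W := Module.nontrivial_of_finrank_pos (R := F) (by omega)
    have hRT : ∀ X hX, Commute X S → Commute (R X hX) T := by
      intro X hX hXS
      apply LinearMap.ext
      intro w
      apply Subtype.ext
      exact LinearMap.congr_fun hXS.eq _
    have hnz : ∀ (y : Isom B) hy, R (isomEnd B y) hy ≠ 0 := by
      intro y hy h0
      obtain ⟨w, hw⟩ := exists_ne (0 : W)
      apply hw
      apply Subtype.ext
      apply (y : V ≃ₗ[F] V).injective
      rw [Submodule.coe_zero, map_zero]
      exact congrArg Subtype.val (LinearMap.congr_fun h0 w)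
    have hlift : ∀ (y : Isom B) (r : F[X]) (hy : Commute (isomEnd B y) E),
        R (isomEnd B y) hy = aeval T r → (aeval T r) * (aeval T r) = 1 →
        isomEnd B y = 1 ∨ isomEnd B y = -1 := by
      intro y r hy hyr hsq'
      have hext : ∀ c : F, R (isomEnd B y) hy = c • 1 → isomEnd B y * E = c • E := by
        intro c hc
        apply LinearMap.ext
        intro a
        exact congrArg Subtype.val (LinearMap.congr_fun hc ⟨E a, a, rfl⟩)
      rcases aeval_eq_one_or_neg_one hf hTf r hsq' with h1 | h1
      · left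
        have := hdet _ y.2 hy 1 (one_mul 1) (hext 1 (by rw [hyr, h1, one_smul]))
        rwa [one_smul] at this
      · right
        have := hdet _ y.2 hy (-1) (by ring) (hext (-1) ((hyr.trans h1).trans (neg_one_smul F _).symm))
        rwa [neg_one_smul] at this
    obtain ⟨c, hc⟩ := (hodd' d).2
    rcases eq_or_lt_of_le he1 with he1 | he2
    · subst he1
      rw [mul_one] at he
      obtain ⟨r, hr⟩ := (hcf _ (hRT G hGE hGS)).2 rfl
      refine Or.inr (Or.inr (Or.inl (hdone _ ?_)))
      rw [show (q ^ n - 1) / 2 = c by rw [← he]; omega]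
      have hne : aeval T r ≠ 0 := hr ▸ hnz g hGE
      refine hlift (g ^ c) (r ^ c) (by rw [map_pow]; exact hGE.pow_left c) ?_ ?_
      · apply LinearMap.ext
        intro w
        apply Subtype.ext
        change isomEnd B (g ^ c) (w : V) = _
        rw [map_pow (isomEnd B), map_pow (aeval T), ← hr]
        exact (hRpow G hGE c w).symm
      · rw [map_pow, ← pow_add, ← hc]
        exact aeval_pow_card_sub_one hf hTf r hne
    · refine Or.inr (Or.inr (Or.inr (Or.inr ⟨d, hd1, ?_, Or.inr ?_⟩)))
      · rw [← he]; exact lt_mul_of_one_lt_right hd1 he2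
      have hne : aeval T (X : F[X]) ≠ 0 := by rw [aeval_X, hT]; exact hnz s hSE
      have hpow : x ^ (P * c) = 1 := by
        rw [hx, ← QuotientGroup.mk_pow]
        refine mk_eq_one_of_end hB _ ?_
        rw [pow_mul, ← hs]
        refine hlift (s ^ c) (X ^ c) (by rw [map_pow]; exact hSE.pow_left c) ?_ ?_
        · apply LinearMap.ext
          intro w
          apply Subtype.ext
          change isomEnd B (s ^ c) (w : V) = _
          rw [map_pow (isomEnd B), map_pow (aeval T), aeval_X, hT]
          exact (hRpow S hSE c w).symm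
        · rw [map_pow, ← pow_add, ← hc]
          exact aeval_pow_card_sub_one hf hTf X hne
      have hle : e ≤ 2 * (n - d) := by
        obtain ⟨e', rfl⟩ : ∃ e', e = e' + 1 := ⟨e - 1, by omega⟩
        have : n - d = d * e' := by rw [← he, mul_add, mul_one, Nat.add_sub_cancel]
        rw [this]
        have : e' ≤ d * e' := Nat.le_mul_of_pos_left e' hd1
        omega
      have hx' : ¬ p ∣ orderOf (x ^ unipExp p e) := by
        intro h
        refine not_dvd_orderOf_pow_of_forall hp g (unipExp p e) (fun j i hji => ?_)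
          (h.trans (orderOf_map_dvd (QuotientGroup.mk' (Subgroup.center (Isom B))) _))
        have hjE : Commute (isomEnd B (g ^ j)) E := by rw [map_pow]; exact hGE.pow_left j
        have h1 := (hcf _ (hRT _ hjE (by rw [map_pow]; exact hGS.pow_left j))).1 i (by
          apply LinearMap.ext
          intro w
          apply Subtype.ext
          rw [hRpow _ hjE, ← map_pow, hji, map_one]
          rfl)
        apply isomEnd_injective
        rw [map_one]
        have := hdet (isomEnd B ((g ^ j) ^ unipExp p e)) ((g ^ j) ^ unipExp p e).2 (by rw [map_pow]; exact hjE.pow_left _) 1 (one_mul 1)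
          (by
            apply LinearMap.ext
            intro a
            rw [one_smul]
            have h2 := congrArg Subtype.val (LinearMap.congr_fun h1 ⟨E a, a, rfl⟩)
            rw [hRpow _ hjE, ← map_pow] at h2
            exact h2)
        rwa [one_smul] at this
      have hdiv : unipExp p e ∣ P := pow_dvd_pow p (Nat.clog_mono_right p (by omega))
      exact two_mul_dvd_lcm hp (show q ^ d - 1 = 2 * c by omega) (hqp d hd1).2 rfl
        (pow_dvd_pow p (Nat.clog_mono_right p hle)) (orderOf_dvd_mul_of_pow hp x hpow hdiv hx')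

end Cfsg.Agent.Lib.LinearOrders
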