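import Cfsg.Agent.Lib.LinearOrders.FormAlgebra
import Cfsg.Agent.Lib.LinearOrders.FieldModule

/-!
Semisimple and unipotent element orders in `PSp_2n(q)`, `q` odd.
-/

set_option autoImplicit false

namespace Cfsg.Agent.Lib.LinearOrders

open Polynomial
open Cfsg.Agent.Lib.Symplectic
open Cfsg.Agent.Lib.OrderSets

universe u

variable {F : Type u} [Field F]

theorem exists_unipotent_formAlg (h2 : (2 : F) ≠ 0) (p : ℕ) [Fact p.Prime] [CharP F p] {k : ℕ} (hk : 1 ≤ k) :
    ∃ (A : Type u) (_ : CommRing A) (_ : Algebra F A) (_ : Module.Finite F A) (_ : Nontrivial A)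
      (σ : A →ₐ[F] A) (ℓ : A →ₗ[F] F) (v : A), IsFormAlg σ ℓ ∧ Module.finrank F A = 2 * k ∧
        v * σ v = 1 ∧ ∀ j, v ^ j = 1 ∨ v ^ j = -1 → v ^ j = 1 ∧ unipExp p (2 * k) ∣ j := by
  have hmon : (X ^ (2 * k) : F[X]).Monic := monic_X_pow _
  let A := AdjoinRoot (X ^ (2 * k) : F[X])
  let pb := AdjoinRoot.powerBasis' hmon
  have hdim : pb.dim = 2 * k := by simp [pb]
  have hgen : pb.gen = AdjoinRoot.root _ := AdjoinRoot.powerBasis'_gen hmon
  have : Module.Finite F A := Module.Finite.of_basis pb.basis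
  have : Nontrivial A := AdjoinRoot.nontrivial _ (by simp; omega)
  set x : A := AdjoinRoot.root (X ^ (2 * k) : F[X]) with hx
  have hxk : x ^ (2 * k) = 0 := by
    have := AdjoinRoot.mk_self (f := (X ^ (2 * k) : F[X]))
    rwa [map_pow, AdjoinRoot.mk_X] at this
  let σ : A →ₐ[F] A := AdjoinRoot.liftAlgHom _ (Algebra.ofId F A) (-x)
    (by rw [eval₂_X_pow, neg_pow, hxk, mul_zero])
  have hσx : σ x = -x := AdjoinRoot.liftAlgHom_root _ _ _ _
  let ℓ : A →ₗ[F] F := pb.basis.coord ⟨2 * k - 1, by rw [hdim]; omega⟩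
  have hbasis : ∀ i : Fin pb.dim, pb.basis i = x ^ (i : ℕ) := fun i => by rw [pb.basis_eq_pow, hgen]
  have hℓ : ∀ m, ℓ (x ^ m) = if m = 2 * k - 1 then 1 else 0 := by
    intro m
    by_cases hm : m < 2 * k
    · have h := hbasis ⟨m, by rw [hdim]; exact hm⟩
      simp only at h
      rw [← h]
      simp only [ℓ, Module.Basis.coord_apply, Module.Basis.repr_self, Finsupp.single_apply, Fin.ext_iff]
    · rw [pow_eq_zero_of_le (not_lt.1 hm) hxk, map_zero, if_neg (by omega)]
  have hA : IsFormAlg σ ℓ := by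
    refine ⟨fun a => ?_, fun a => ?_, fun a ha => ?_⟩
    · have : σ.comp σ = AlgHom.id F A := by
        apply AdjoinRoot.algHom_ext
        rw [AlgHom.comp_apply, AlgHom.id_apply, ← hx, hσx, map_neg, hσx, neg_neg]
      exact AlgHom.congr_fun this a
    · have : ℓ.comp σ.toLinearMap = -ℓ := by
        apply pb.basis.ext
        intro i
        rw [hbasis, LinearMap.comp_apply, LinearMap.neg_apply, AlgHom.toLinearMap_apply, map_pow, hσx,
          neg_pow]
        rcases neg_one_pow_eq_or A (i : ℕ) with h | h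
        · rw [h, one_mul, hℓ]
          by_cases hi : (i : ℕ) = 2 * k - 1
          · exfalso
            rw [(show Odd (i : ℕ) from ⟨k - 1, by omega⟩).neg_one_pow] at h
            have h7 : (2 : F) • (1 : A) = 0 := by
              rw [two_smul]
              nth_rewrite 1 [← h]
              exact neg_add_cancel 1
            exact one_ne_zero ((smul_eq_zero.1 h7).resolve_left h2)
          · rw [if_neg hi, neg_zero]
        · rw [h, neg_one_mul, map_neg]
      exact LinearMap.congr_fun this a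
    · have hrepr : a = ∑ i, pb.basis.repr a i • pb.basis i := (pb.basis.sum_repr a).symm
      rw [← pb.basis.forall_coord_eq_zero_iff]
      intro i
      have hi := i.2
      have h := ha (x ^ (2 * k - 1 - (i : ℕ)))
      rw [hrepr, Finset.sum_mul, map_sum, Finset.sum_eq_single i] at h
      · rw [smul_mul_assoc, map_smul, hbasis, ← pow_add, hℓ, if_pos (by omega), smul_eq_mul, mul_one] at h
        exact h
      · intro j _ hj
        rw [smul_mul_assoc, map_smul, hbasis, ← pow_add, hℓ, if_neg (fun he => hj (Fin.ext (by omega))),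
          smul_zero]
      · exact fun h' => absurd (Finset.mem_univ i) h'
  set G : A := ∑ i ∈ Finset.range (2 * k), x ^ i with hG
  have hG1 : (1 - x) * G = 1 := by rw [hG, mul_neg_geom_sum, hxk, sub_zero]
  refine ⟨A, inferInstance, inferInstance, inferInstance, inferInstance, σ, ℓ, (1 + x) * G, hA,
    by rw [pb.finrank, hdim], ?_, ?_⟩
  · have h1 : (1 + x) * σ G = 1 := by
      have := congrArg σ hG1
      rwa [map_mul, map_one, map_sub, map_one, hσx, sub_neg_eq_add] at this
    rw [map_mul, map_add, map_one, hσx]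
    calc (1 + x) * G * ((1 + -x) * σ G) = ((1 - x) * G) * ((1 + x) * σ G) := by ring
      _ = 1 := by rw [hG1, h1, one_mul]
  · intro j hj
    have : CharP A p := charP_of_injective_algebraMap (algebraMap F A).injective p
    have hv : ∀ i, ((1 + x) * G) ^ p ^ i * (1 - x ^ p ^ i) = 1 + x ^ p ^ i := by
      intro i
      have e1 : 1 - x ^ p ^ i = (1 - x) ^ p ^ i := by rw [sub_pow_char_pow 1 x i, one_pow]
      rw [e1, ← mul_pow, mul_assoc, mul_comm G, hG1, mul_one, add_pow_char_pow 1 x p i, one_pow]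
    have hP : ((1 + x) * G) ^ unipExp p (2 * k) = 1 := by
      have := hv (Nat.clog p (2 * k))
      rwa [show x ^ p ^ Nat.clog p (2 * k) = 0 from
        pow_eq_zero_of_le (le_unipExp (Fact.out : p.Prime).one_lt (2 * k)) hxk, sub_zero, add_zero,
        mul_one] at this
    have hodd : Odd (unipExp p (2 * k)) := by
      apply Odd.pow
      apply (Fact.out : p.Prime).odd_of_ne_two
      rintro rfl
      exact h2 (by exact_mod_cast CharP.cast_eq_zero F 2)
    have h1 : ((1 + x) * G) ^ j = 1 := by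
      rcases hj with hj | hj
      · exact hj
      · exfalso
        have h := congrArg (fun y => y ^ unipExp p (2 * k)) hj
        rw [pow_right_comm, hP, one_pow, hodd.neg_one_pow] at h
        have h7 : (2 : F) • (1 : A) = 0 := by
          rw [two_smul]
          nth_rewrite 1 [h]
          exact neg_add_cancel 1
        exact one_ne_zero ((smul_eq_zero.1 h7).resolve_left h2)
    refine ⟨h1, ?_⟩
    obtain ⟨i, hi, hord⟩ := (Nat.dvd_prime_pow Fact.out).1 (orderOf_dvd_of_pow_eq_one hP)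
    refine dvd_trans ?_ (orderOf_dvd_of_pow_eq_one h1)
    rw [hord]
    have h0 := hv i
    rw [← hord, pow_orderOf_eq_one, one_mul, hord] at h0
    have h4 : (2 : F) • x ^ p ^ i = 0 := by
      rw [two_smul]
      linear_combination -h0
    have h5 : x ^ p ^ i = 0 := (smul_eq_zero.1 h4).resolve_left h2
    have h6 : 2 * k ≤ p ^ i := by
      by_contra hc
      have h := hbasis ⟨p ^ i, by rw [hdim]; omega⟩
      simp only at h
      rw [h5] at h
      exact pb.basis.ne_zero _ h
    exact pow_dvd_pow p ((Nat.clog_le_iff_le_pow (Fact.out : p.Prime).one_lt).2 h6)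

theorem exists_quadratic_formAlg [Fintype F] (h2 : (2 : F) ≠ 0) (p : ℕ) [Fact p.Prime] [CharP F p]
    {d : ℕ} (hd : 1 ≤ d) :
    ∃ (A : Type) (_ : CommRing A) (_ : Algebra F A) (_ : Module.Finite F A)
      (σ : A →ₐ[F] A) (ℓ : A →ₗ[F] F) (v : A), IsFormAlg σ ℓ ∧ Module.finrank F A = 2 * d ∧
        v * σ v = 1 ∧ ∀ j, v ^ j = 1 → Fintype.card F ^ d + 1 ∣ j := by
  have : NeZero (2 * d) := ⟨by omega⟩
  let K := FiniteField.Extension F p (2 * d)
  have hK : Module.finrank F K = 2 * d := FiniteField.finrank_extension F p (2 * d)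
  let fr := FiniteField.frobeniusAlgEquivOfAlgebraic F K
  let τ : K ≃ₐ[F] K := fr ^ d
  have hτ : ∀ x : K, τ x = x ^ Fintype.card F ^ d := by
    intro x
    simp only [τ, AlgEquiv.coe_pow]
    exact congrFun (FiniteField.coe_frobeniusAlgEquivOfAlgebraic_iterate F K d) x
  have hord : orderOf fr = 2 * d := by rw [FiniteField.orderOf_frobeniusAlgEquivOfAlgebraic, hK]
  have hττ : ∀ x : K, τ (τ x) = x := by
    intro x
    have : τ * τ = 1 := by
      rw [← pow_add, ← two_mul]
      exact orderOf_dvd_iff_pow_eq_one.1 (dvd_of_eq hord)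
    exact AlgEquiv.congr_fun this x
  obtain ⟨a, ha⟩ : ∃ a : K, τ a ≠ a := by
    by_contra hc
    push Not at hc
    have h := orderOf_dvd_of_pow_eq_one (show τ = 1 from AlgEquiv.ext hc)
    rw [hord] at h
    have := Nat.le_of_dvd (by omega) h
    omega
  set c : K := a - τ a with hc
  have hc0 : c ≠ 0 := sub_ne_zero.2 (Ne.symm ha)
  have hτc : τ c = -c := by rw [hc, map_sub, hττ, neg_sub]
  let ℓ : K →ₗ[F] F := (Algebra.trace F K).comp (LinearMap.mulLeft F c)
  have hA : IsFormAlg (τ : K →ₐ[F] K) ℓ := by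
    refine ⟨hττ, fun x => ?_, fun x hx => ?_⟩
    · change Algebra.trace F K (c * τ x) = -Algebra.trace F K (c * x)
      rw [← Algebra.trace_eq_of_algEquiv τ (c * x), map_mul τ, hτc, neg_mul, map_neg, neg_neg]
    · have : c * x = 0 := by
        refine (traceForm_nondegenerate F K).1 (c * x) fun y => ?_
        rw [Algebra.traceForm_apply, mul_assoc]
        exact hx y
      exact (mul_eq_zero.1 this).resolve_left hc0
  obtain ⟨u, hu⟩ := IsCyclic.exists_ofOrder_eq_natCard (α := Kˣ)
  rw [Nat.card_units, FiniteField.natCard_extension, Nat.card_eq_fintype_card] at hu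
  set Q := Fintype.card F ^ d with hQ
  have hQ1 : 2 ≤ Q := le_trans Fintype.one_lt_card (Nat.le_self_pow (by omega) _)
  have hu' : orderOf u = (Q + 1) * (Q - 1) := by
    rw [hu, mul_comm 2 d, pow_mul, ← hQ, ← Nat.sq_sub_sq, one_pow]
  refine ⟨K, inferInstance, inferInstance, inferInstance, τ, ℓ, ((u ^ (Q - 1) : Kˣ) : K), hA, hK, ?_, ?_⟩
  · change _ * τ _ = 1
    rw [hτ, ← pow_succ', ← Units.val_pow_eq_pow_val, Units.val_eq_one, ← pow_mul,
      ← orderOf_dvd_iff_pow_eq_one, hu', mul_comm]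
  · intro j hj
    rw [← Units.val_pow_eq_pow_val, Units.val_eq_one, ← pow_mul,
      ← orderOf_dvd_iff_pow_eq_one, hu', mul_comm (Q + 1)] at hj
    exact (Nat.mul_dvd_mul_iff_left (by omega)).1 hj

theorem exists_split_formAlg [Fintype F] (p : ℕ) [Fact p.Prime] [CharP F p] {d : ℕ} (hd : 1 ≤ d) :
    ∃ (A : Type) (_ : CommRing A) (_ : Algebra F A) (_ : Module.Finite F A)
      (σ : A →ₐ[F] A) (ℓ : A →ₗ[F] F) (v : A), IsFormAlg σ ℓ ∧ Module.finrank F A = 2 * d ∧
        v * σ v = 1 ∧ ∀ j, v ^ j = 1 → Fintype.card F ^ d - 1 ∣ j := by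
  have : NeZero d := ⟨by omega⟩
  let K := FiniteField.Extension F p d
  have hK : Module.finrank F K = d := FiniteField.finrank_extension F p d
  let σ : K × K →ₐ[F] K × K := (AlgHom.snd F K K).prod (AlgHom.fst F K K)
  let ℓ : K × K →ₗ[F] F := (Algebra.trace F K).coprod (-Algebra.trace F K)
  have hA : IsFormAlg σ ℓ := by
    refine ⟨fun x => rfl, fun x => ?_, fun x hx => ?_⟩
    · simp [σ, ℓ]
    · refine Prod.ext ((traceForm_nondegenerate F K).1 _ fun y => ?_)
        ((traceForm_nondegenerate F K).1 _ fun y => ?_)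
      · simpa [ℓ, Algebra.traceForm_apply] using hx (y, 0)
      · simpa [ℓ, Algebra.traceForm_apply] using hx (0, y)
  obtain ⟨u, hu⟩ := IsCyclic.exists_ofOrder_eq_natCard (α := Kˣ)
  rw [Nat.card_units, FiniteField.natCard_extension, Nat.card_eq_fintype_card] at hu
  refine ⟨K × K, inferInstance, inferInstance, inferInstance, σ, ℓ, ((u : K), ((u⁻¹ : Kˣ) : K)), hA,
    by rw [Module.finrank_prod, hK, two_mul], ?_, ?_⟩
  · simp [σ]
  · intro j hj
    have h := congrArg Prod.fst hj
    simp only [Prod.pow_fst, Prod.fst_one] at h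
    rw [← hu]
    exact orderOf_dvd_of_pow_eq_one (Units.ext (by simpa using h))

theorem half_dvd {a k : ℕ} (ha : Even a) (h : a ∣ 2 * k) : a / 2 ∣ k := by
  obtain ⟨b, rfl⟩ := ha
  rw [← two_mul] at h ⊢
  rw [Nat.mul_div_cancel_left b (by norm_num)]
  exact Nat.dvd_of_mul_dvd_mul_left (by norm_num) h

theorem sq_eq_one_of_pm {A : Type*} [Monoid A] [HasDistribNeg A] {v : A} {j : ℕ}
    (h : v ^ j = 1 ∨ v ^ j = -1) : v ^ (2 * j) = 1 := by
  rcases h with h | h <;> rw [mul_comm, pow_mul, h]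
  · exact one_pow 2
  · exact neg_one_sq

theorem splus_mem [Fintype F] (h2 : (2 : F) ≠ 0) (hodd : Odd (Fintype.card F)) (p : ℕ) [Fact p.Prime]
    [CharP F p] {n : ℕ} (hn : 1 ≤ n) : (Fintype.card F ^ n + 1) / 2 ∈ omega (Cfsg.PSp n F) := by
  obtain ⟨A, _, _, _, σ, ℓ, v, hA, hfin, hv, hord⟩ := exists_quadratic_formAlg h2 p (d := n) hn
  exact exists_psp_order h2 hA hfin v hv fun k hk =>
    half_dvd ((hodd.pow).add_one) (hord _ (sq_eq_one_of_pm hk))

theorem sminus_mem [Fintype F] (h2 : (2 : F) ≠ 0) (hodd : Odd (Fintype.card F)) (p : ℕ) [Fact p.Prime]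
    [CharP F p] {n : ℕ} (hn : 1 ≤ n) : (Fintype.card F ^ n - 1) / 2 ∈ omega (Cfsg.PSp n F) := by
  obtain ⟨A, _, _, _, σ, ℓ, v, hA, hfin, hv, hord⟩ := exists_split_formAlg (F := F) p (d := n) hn
  exact exists_psp_order h2 hA hfin v hv fun k hk =>
    half_dvd (Nat.Odd.sub_odd hodd.pow odd_one) (hord _ (sq_eq_one_of_pm hk))

theorem unip_mem [Finite F] (h2 : (2 : F) ≠ 0) (p : ℕ) [Fact p.Prime] [CharP F p] {n : ℕ} (hn : 1 ≤ n) :
    unipExp p (2 * n) ∈ omega (Cfsg.PSp n F) := by
  obtain ⟨A, _, _, _, _, σ, ℓ, v, hA, hfin, hv, hord⟩ := exists_unipotent_formAlg h2 p hn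
  exact exists_psp_order h2 hA hfin v hv fun k hk => (hord k hk).2

theorem mixed_mem [Fintype F] (h2 : (2 : F) ≠ 0) (p : ℕ) [Fact p.Prime] [CharP F p] {n d : ℕ}
    (hd : 1 ≤ d) (hdn : d < n) :
    Nat.lcm (Fintype.card F ^ d + 1) (unipExp p (2 * (n - d))) ∈ omega (Cfsg.PSp n F) ∧
      Nat.lcm (Fintype.card F ^ d - 1) (unipExp p (2 * (n - d))) ∈ omega (Cfsg.PSp n F) := by
  obtain ⟨A', _, _, _, _, σ', ℓ', v', hA', hfin', hv', hord'⟩ :=
    exists_unipotent_formAlg h2 p (k := n - d) (by omega)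
  constructor
  · obtain ⟨A, _, _, _, σ, ℓ, v, hA, hfin, hv, hord⟩ := exists_quadratic_formAlg h2 p (d := d) hd
    exact exists_psp_order_prod h2 hA hA' (by rw [hfin, hfin']; omega) v hv hord v' hv' hord'
  · obtain ⟨A, _, _, _, σ, ℓ, v, hA, hfin, hv, hord⟩ := exists_split_formAlg (F := F) p (d := d) hd
    exact exists_psp_order_prod h2 hA hA' (by rw [hfin, hfin']; omega) v hv hord v' hv' hord'

end Cfsg.Agent.Lib.LinearOrders
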