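import Cfsg.Agent.Lib.LinearOrders.UnitaryOrders
import Cfsg.Agent.Lib.LinearOrders.Projective
import Cfsg.Agent.Lib.LinearOrders.SympClassify

/-!
Elements of `PSU_n(q)`: commuting with an element of order `r ∣ q + 1`, or in a torus modulo `p`-part.
-/

set_option autoImplicit false

namespace Cfsg.Agent.Lib.LinearOrders

open Polynomial
open Cfsg.Agent.Lib.OrderSets
open Cfsg.Agent.Lib.Unitary (conj conj_apply)

universe u

variable {F : Type u} [Field F] {q n : ℕ}

/-- The adjoint of a matrix for the standard hermitian form. -/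
def dag [Fintype F] (hF : Fintype.card F = q ^ 2) (M : Matrix (Fin n) (Fin n) F) : Matrix (Fin n) (Fin n) F :=
  Matrix.transpose (M.map (conj hF))

section dag

variable [Fintype F] (hF : Fintype.card F = q ^ 2)

theorem dag_mul (A B : Matrix (Fin n) (Fin n) F) : dag hF (A * B) = dag hF B * dag hF A := by
  rw [dag, Matrix.map_mul, Matrix.transpose_mul]; rfl

theorem dag_add (A B : Matrix (Fin n) (Fin n) F) : dag hF (A + B) = dag hF A + dag hF B := by
  rw [dag, Matrix.map_add _ (map_add (conj hF)), Matrix.transpose_add]; rfl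

theorem dag_one : dag hF (1 : Matrix (Fin n) (Fin n) F) = 1 := by
  rw [dag, Matrix.map_one _ (map_zero _) (map_one _), Matrix.transpose_one]

theorem dag_smul (c : F) (A : Matrix (Fin n) (Fin n) F) : dag hF (c • A) = c ^ q • dag hF A := by
  ext i j
  simp [dag, mul_pow]

theorem dag_dag (A : Matrix (Fin n) (Fin n) F) : dag hF (dag hF A) = A := by
  ext i j
  simp [dag, Cfsg.Agent.Lib.Unitary.pow_q_q hF]

theorem dag_pow (A : Matrix (Fin n) (Fin n) F) (k : ℕ) : dag hF (A ^ k) = dag hF A ^ k := by
  induction k with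
  | zero => rw [pow_zero, pow_zero, dag_one]
  | succ k ih => rw [pow_succ, dag_mul, ih, pow_succ']

theorem det_dag (A : Matrix (Fin n) (Fin n) F) : (dag hF A).det = A.det ^ q := by
  rw [dag, Matrix.det_transpose, ← RingHom.mapMatrix_apply, ← RingHom.map_det, conj_apply]

theorem herm_eq_dot (u v : Fin n → F) :
    Cfsg.hermForm n F q u v = dotProduct u (fun i => v i ^ q) := rfl

theorem dag_mul_self_of_preserving (M : Matrix (Fin n) (Fin n) F)
    (hM : ∀ u v, Cfsg.hermForm n F q (Matrix.mulVec M u) (Matrix.mulVec M v) = Cfsg.hermForm n F q u v) :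
    dag hF M * M = 1 := by
  ext i j
  have h := hM (Pi.single j 1) (Pi.single i 1)
  rw [Cfsg.Agent.Lib.Unitary.herm_std hF] at h
  simp only [Cfsg.hermForm, Matrix.mulVec_single_one, Matrix.col_apply] at h
  rw [Matrix.mul_apply, Matrix.one_apply]
  refine Eq.trans (Finset.sum_congr rfl fun k _ => ?_) (h.trans ?_)
  · simp [dag, mul_comm]
  · simp [eq_comm]

theorem preserving_of_dag_mul_self (M : Matrix (Fin n) (Fin n) F) (hM : dag hF M * M = 1) (u v : Fin n → F) :
    Cfsg.hermForm n F q (Matrix.mulVec M u) (Matrix.mulVec M v) = Cfsg.hermForm n F q u v := by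
  have hconj : (fun i => (Matrix.mulVec M v) i ^ q) =
      Matrix.mulVec (M.map (conj hF)) (fun i => v i ^ q) := by
    funext i
    exact (RingHom.map_mulVec (conj hF) M v i).trans rfl
  have hM' : M.map (conj hF) = (dag hF M).transpose := by rw [dag, Matrix.transpose_transpose]
  have h1 : M.transpose * M.map (conj hF) = 1 := by
    rw [hM', ← Matrix.transpose_mul, hM, Matrix.transpose_one]
  rw [herm_eq_dot, herm_eq_dot, hconj, Matrix.dotProduct_mulVec, ← Matrix.mulVec_transpose,
    Matrix.mulVec_mulVec]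
  have h2 : (M.map (conj hF)).transpose * M = 1 := hM
  rw [h2, Matrix.one_mulVec]

theorem dag_aeval (A : Matrix (Fin n) (Fin n) F) (r : F[X]) :
    dag hF (aeval A r) = aeval (dag hF A) (r.map (conj hF)) := by
  induction r using Polynomial.induction_on' with
  | add a b ha hb => rw [map_add, dag_add, ha, hb, Polynomial.map_add, map_add]
  | monomial k a =>
    rw [Polynomial.map_monomial, aeval_monomial, aeval_monomial, ← Algebra.smul_def, ← Algebra.smul_def,
      dag_smul, dag_pow, conj_apply]

end dag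

theorem det_facts [Finite F] {W : Type*} [AddCommGroup W] [Module F W] [Module.Finite F W] (T : Module.End F W)
    {f : F[X]} (hf : Irreducible f) (hT : aeval T f = 0) :
    ∃ e, f.natDegree * e = Module.finrank F W ∧
      LinearMap.det T = Algebra.norm F (AdjoinRoot.root f) ^ e := by
  have : Fact (Irreducible f) := ⟨hf⟩
  let E := AdjoinRoot f
  let pb := AdjoinRoot.powerBasis hf.ne_zero
  have : Module.Finite F E := Module.Finite.of_basis pb.basis
  have hker : ∀ a : F[X], a ∈ Ideal.span {f} → (aeval T : F[X] →ₐ[F] _) a = 0 := by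
    intro a ha
    obtain ⟨c, rfl⟩ := Ideal.mem_span_singleton.1 ha
    rw [map_mul, hT, zero_mul]
  let toEnd : E →ₐ[F] Module.End F W := Ideal.Quotient.liftₐ _ (aeval T) hker
  letI : Module E W := Module.compHom _ toEnd.toRingHom
  have hsmul : ∀ (x : E) (v : W), x • v = toEnd x v := fun _ _ => rfl
  haveI : IsScalarTower F E W := ⟨fun a x v => by
    rw [hsmul, hsmul, map_smul, LinearMap.smul_apply]⟩
  have : Module.Finite E W := Module.Finite.of_restrictScalars_finite F E _
  have hroot : toEnd (AdjoinRoot.root f) = T := by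
    change (aeval T) (X : F[X]) = T
    exact aeval_X T
  have hTeq : T = ((AdjoinRoot.root f : E) • (LinearMap.id : W →ₗ[E] W)).restrictScalars F := by
    apply LinearMap.ext
    intro v
    rw [LinearMap.restrictScalars_apply, LinearMap.smul_apply, LinearMap.id_apply, hsmul, hroot]
  refine ⟨Module.finrank E W, ?_, ?_⟩
  · rw [← Module.finrank_mul_finrank F E W, pb.finrank, AdjoinRoot.powerBasis_dim]
  · conv_lhs => rw [hTeq]
    rw [LinearMap.det_restrictScalars, LinearMap.det_smul, LinearMap.det_id, mul_one, map_pow]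

theorem exists_commuting_of_selfdual [Fintype F] (hF : Fintype.card F = q ^ 2) {r : ℕ} (hn : 2 ≤ n)
    (hr : r.Prime) (hrq : r ∣ q + 1) (hrn : ¬ r ∣ n) (g : Cfsg.SU n F q)
    (e : Matrix (Fin n) (Fin n) F) (he : e * e = e) (he0 : e ≠ 0) (he1 : e ≠ 1) (hed : dag hF e = e)
    (hge : Commute (g.1.1 : Matrix (Fin n) (Fin n) F) e) :
    ∃ z : Cfsg.PSU n F q, Commute (QuotientGroup.mk g) z ∧ orderOf z = r := by
  have : Fact r.Prime := ⟨hr⟩
  have hrq2 : r ∣ Fintype.card F - 1 := by
    rw [hF, show q ^ 2 - 1 = (q + 1) * (q - 1) by rw [← Nat.sq_sub_sq, one_pow]]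
    exact hrq.mul_right _
  obtain ⟨ζ, hζ, hζ1⟩ := exists_primitive_root hr hrq2
  obtain ⟨t, ht⟩ := hrq
  have hμ : ∀ c : F, c ^ r = 1 → c ^ q * c = 1 := fun c hc => by
    rw [← pow_succ, ht, pow_mul, hc, one_pow]
  set z₀ : Matrix (Fin n) (Fin n) F := (ζ - 1) • e + 1 with hz₀
  have hpow : ∀ j : ℕ, z₀ ^ j = (ζ ^ j - 1) • e + 1 := by
    intro j
    induction j with
    | zero => simp
    | succ j ih =>
      rw [pow_succ, ih, hz₀]
      simp only [add_mul, mul_add, smul_mul_smul_comm, he, mul_one, one_mul]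
      rw [← add_assoc, ← add_smul, ← add_smul]
      congr 2
      ring
  have hz₀r : z₀ ^ r = 1 := by rw [hpow, hζ, sub_self, zero_smul, zero_add]
  have hz₀d : dag hF z₀ * z₀ = 1 := by
    rw [hz₀, dag_add, dag_smul, hed, dag_one, Cfsg.Agent.Lib.Unitary.sub_pow_q hF, one_pow]
    simp only [add_mul, mul_add, smul_mul_smul_comm, he, mul_one, one_mul]
    rw [← add_assoc, ← add_smul, ← add_smul,
      show (ζ ^ q - 1) * (ζ - 1) + (ζ - 1) + (ζ ^ q - 1) = ζ ^ q * ζ - 1 by ring, hμ ζ hζ, sub_self,
      zero_smul, zero_add]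
  set δ := z₀.det with hδ
  have hδr : δ ^ r = 1 := by rw [hδ, ← Matrix.det_pow, hz₀r, Matrix.det_one]
  obtain ⟨j, -, hj⟩ := Nat.exists_mul_mod_eq_one_of_coprime
    ((hr.coprime_iff_not_dvd.2 hrn).symm) hr.one_lt
  set c : F := δ ^ ((r - 1) * j) with hc
  have hcr : c ^ r = 1 := by rw [hc, ← pow_mul, mul_comm, pow_mul, hδr, one_pow]
  have hdet : (c • z₀).det = 1 := by
    rw [Matrix.det_smul, Fintype.card_fin, ← hδ, hc, ← pow_mul,
      show (r - 1) * j * n = (r - 1) * (n * j) by ring]
    have h1 : δ ^ (n * j) = δ := by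
      rw [← Nat.mod_add_div (n * j) r, hj, pow_add, pow_one, pow_mul, hδr, one_pow, mul_one]
    rw [mul_comm (r - 1), pow_mul, h1, ← pow_succ, Nat.sub_add_cancel hr.pos, hδr]
  have hd : dag hF (c • z₀) * (c • z₀) = 1 := by
    rw [dag_smul, smul_mul_smul_comm, hz₀d, hμ c hcr, one_smul]
  set z : Cfsg.SU n F q := ⟨⟨c • z₀, hdet⟩, preserving_of_dag_mul_self hF _ hd⟩ with hz
  refine ⟨QuotientGroup.mk z, ?_, ?_⟩
  · have h : Commute g z := by
      apply Subtype.ext
      apply Subtype.ext
      exact (((hge.smul_right (ζ - 1)).add_right (Commute.one_right _)).smul_right c).eq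
    exact h.map (QuotientGroup.mk' (Subgroup.center (Cfsg.SU n F q)))
  · apply orderOf_eq_prime
    · have : z ^ r = 1 := by
        apply Subtype.ext
        apply Subtype.ext
        change (c • z₀) ^ r = 1
        rw [_root_.smul_pow, hcr, hz₀r, one_smul]
      rw [← QuotientGroup.mk_pow, this]
      rfl
    · rw [Ne, QuotientGroup.eq_one_iff, Cfsg.Agent.Lib.Unitary.mem_center_SU_iff hF hn]
      rintro ⟨d, hd'⟩
      have hd'' : c • z₀ = d • (1 : Matrix (Fin n) (Fin n) F) := by
        apply Matrix.toLin'.injective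
        apply LinearMap.ext
        intro w
        rw [Matrix.toLin'_apply, Matrix.toLin'_apply, Matrix.smul_mulVec d, Matrix.one_mulVec]
        exact hd' w
      have hc0 : c ≠ 0 := by
        intro h0
        rw [h0, zero_pow hr.pos.ne'] at hcr
        exact zero_ne_one hcr
      have hζ0 : ζ - 1 ≠ 0 := sub_ne_zero.2 hζ1
      obtain ⟨a, ha⟩ : ∃ a : F, e = a • (1 : Matrix (Fin n) (Fin n) F) := by
        refine ⟨(d / c - 1) / (ζ - 1), ?_⟩
        rw [hz₀, smul_add, smul_smul] at hd''
        have h' : (c * (ζ - 1)) • e = (d - c) • (1 : Matrix (Fin n) (Fin n) F) := by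
          rw [sub_smul, ← hd'', add_sub_cancel_right]
        apply smul_right_injective _ (mul_ne_zero hc0 hζ0)
        simp only [h', smul_smul]
        congr 1
        field_simp
      have h2 := he
      rw [ha, smul_mul_smul_comm, mul_one] at h2
      have h3 : a * a = a := by
        have h4 := congrFun (congrFun h2 ⟨0, by omega⟩) ⟨0, by omega⟩
        simpa using h4
      rcases mul_eq_zero.1 (show a * (a - 1) = 0 by rw [mul_sub, h3]; ring) with h | h
      · exact he0 (by rw [ha, h, zero_smul])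
      · exact he1 (by rw [ha, sub_eq_zero.1 h, one_smul])

theorem exists_odd_degree [Fintype F] (hF : Fintype.card F = q ^ 2) {f : F[X]} (hf : Irreducible f) {o : ℕ}
    (ho : 1 ≤ o) (hfo : f ∣ X ^ o - 1) (hinv : f ∣ (f.map (conj hF)).comp (X ^ (o - 1))) :
    Odd f.natDegree ∧ AdjoinRoot.root f ^ (q ^ f.natDegree + 1) = 1 := by
  classical
  have : Fact (Irreducible f) := ⟨hf⟩
  let pb := AdjoinRoot.powerBasis hf.ne_zero
  have := Module.Finite.of_basis pb.basis
  have : Finite (AdjoinRoot f) := Module.finite_of_finite F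
  obtain ⟨θ, hθ'⟩ := exists_pow_q_hom hF (AdjoinRoot f) 1
  have hθ : ∀ x, θ x = x ^ q := fun x => by rw [hθ', pow_one]
  have hθinj : ∀ (i : ℕ) (x y : AdjoinRoot f), x ^ q ^ i = y ^ q ^ i → x = y := by
    intro i
    induction i with
    | zero => intro x y h; simpa using h
    | succ i ih =>
      intro x y h
      rw [pow_succ, pow_mul, pow_mul, ← hθ, ← hθ] at h
      exact ih _ _ (θ.injective h)
  set d := f.natDegree with hd
  set α : AdjoinRoot f := AdjoinRoot.root f with hα
  have hαo : α ^ o = 1 := by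
    have h := AdjoinRoot.mk_eq_zero.2 hfo
    simpa [← hα, sub_eq_zero] using h
  set γ : AdjoinRoot f := α ^ (o - 1) with hγdef
  have hαγ : α * γ = 1 := by rw [hγdef, ← pow_succ', Nat.sub_add_cancel ho, hαo]
  have hg : aeval γ (f.map (conj hF)) = 0 := by
    have h := AdjoinRoot.mk_eq_zero.2 hinv
    rw [← AdjoinRoot.aeval_eq, aeval_comp, map_pow, aeval_X] at h
    exact h
  have hβf : aeval (γ ^ q) f = 0 := by
    have h := congrArg θ hg
    rw [map_zero, aeval_def, hom_eval₂, eval₂_map, hθ] at h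
    have hcomp : (θ.comp (algebraMap F (AdjoinRoot f))).comp (conj hF) = algebraMap F (AdjoinRoot f) := by
      apply RingHom.ext
      intro c
      simp only [RingHom.comp_apply, conj_apply]
      rw [hθ, ← map_pow, Cfsg.Agent.Lib.Unitary.pow_q_q hF]
    rw [hcomp] at h
    exact h
  let σ : AdjoinRoot f →ₐ[F] AdjoinRoot f :=
    AdjoinRoot.liftAlgHom f (Algebra.ofId F _) (γ ^ q) (by simpa [aeval_def] using hβf)
  have hσ : σ α = γ ^ q := AdjoinRoot.liftAlgHom_root _ _ _ _
  obtain ⟨⟨j, hj⟩, hjσ⟩ := (FiniteField.bijective_frobeniusAlgHom_pow F (AdjoinRoot f)).2 σ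
  have happ : ∀ (i : ℕ) (x : AdjoinRoot f),
      (FiniteField.frobeniusAlgHom F (AdjoinRoot f) ^ i) x = x ^ Fintype.card F ^ i := by
    intro i x
    rw [AlgHom.coe_pow, FiniteField.coe_frobeniusAlgHom, pow_iterate]
  have hjα : γ ^ q = α ^ q ^ (2 * j) := by
    rw [← hσ, pow_mul q, ← hF, ← happ]
    exact congrArg (fun φ : AdjoinRoot f →ₐ[F] AdjoinRoot f => φ α) hjσ.symm
  have hαγq : ∀ i, α ^ q ^ i * γ ^ q ^ i = 1 := fun i => by rw [← mul_pow, hαγ, one_pow]
  have h2 : α ^ q ^ (4 * j) = α ^ q ^ 2 := by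
    have e1 : (α ^ q ^ (2 * j)) ^ q ^ (2 * j) = (γ ^ q) ^ q ^ (2 * j) := by rw [hjα]
    rw [← pow_mul, ← pow_add, show 2 * j + 2 * j = 4 * j by ring] at e1
    rw [e1, ← pow_mul, mul_comm q, ← pow_succ, pow_succ, pow_mul]
    have e2 : α ^ q ^ (2 * j) * γ ^ q ^ (2 * j) = 1 := hαγq _
    rw [← hjα] at e2
    have e3 := hαγq 1
    rw [pow_one] at e3
    have e4 : γ ^ q ^ (2 * j) = α ^ q :=
      calc γ ^ q ^ (2 * j) = (α ^ q * γ ^ q) * γ ^ q ^ (2 * j) := by rw [e3, one_mul]
        _ = α ^ q := by rw [mul_assoc, e2, mul_one]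
    rw [e4, ← pow_mul, ← sq]
  have hdvd : ∀ i, α ^ q ^ (2 * i) = α → d ∣ i := by
    intro i hi
    have hfix : FiniteField.frobeniusAlgHom F (AdjoinRoot f) ^ i = 1 := by
      apply AdjoinRoot.algHom_ext
      rw [← hα, happ, hF, ← pow_mul, hi]
      rfl
    have := orderOf_dvd_of_pow_eq_one hfix
    rwa [FiniteField.orderOf_frobeniusAlgHom, pb.finrank, AdjoinRoot.powerBasis_dim] at this
  rw [pb.finrank, AdjoinRoot.powerBasis_dim, ← hd] at hj
  rcases Nat.eq_zero_or_pos j with rfl | hj0
  · simp only [mul_zero, pow_zero, pow_one] at h2 hjα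
    have hd1 : d = 1 := Nat.dvd_one.1 (hdvd 1 (by rw [mul_one]; exact h2.symm))
    rw [hd1]
    refine ⟨odd_one, ?_⟩
    have e3 := hαγq 1
    rw [pow_one, hjα] at e3
    rw [pow_one, pow_succ]
    exact e3
  · have h3 : α ^ q ^ (2 * (2 * j - 1)) = α := by
      apply hθinj 2
      rw [← pow_mul, ← pow_add, show 2 * (2 * j - 1) + 2 = 4 * j by omega, h2]
    obtain ⟨c, hc⟩ := hdvd _ h3
    have hc1 : c = 1 := by
      rcases c with _ | _ | c
      · omega
      · rfl
      · exfalso
        have : d * 2 ≤ d * (c + 1 + 1) := Nat.mul_le_mul_left _ (by omega)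
        omega
    subst hc1
    rw [mul_one] at hc
    refine ⟨⟨j - 1, by omega⟩, ?_⟩
    apply hθinj 1
    rw [one_pow, pow_one, pow_succ, mul_pow, ← pow_mul, ← pow_succ, show d + 1 = 2 * j by omega, ← hjα,
      ← mul_pow, mul_comm, hαγ, one_pow]

theorem psu_classify [Fintype F] (hF : Fintype.card F = q ^ 2) (p : ℕ) [Fact p.Prime] [CharP F p] {r : ℕ}
    (hn : 2 ≤ n) (hr : r.Prime) (hrq : r ∣ q + 1) (hrn : ¬ r ∣ n) :
    ∃ S : ℕ, S ∈ omega (Cfsg.PSU n F q) ∧ ¬ p ∣ S ∧ ∀ g : Cfsg.SU n F q,
      (∃ z : Cfsg.PSU n F q, Commute (QuotientGroup.mk g) z ∧ orderOf z = r) ∨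
        (QuotientGroup.mk g : Cfsg.PSU n F q) ^ (unipExp p n * S) = 1 := by
  classical
  -- the exponent for the given parity
  obtain ⟨S, hS, hpS, hSprop⟩ : ∃ S : ℕ, S ∈ omega (Cfsg.PSU n F q) ∧ ¬ p ∣ S ∧
      ∀ {E : Type u} [Field E] [Finite E] [Algebra F E] (x : E), x ≠ 0 →
        ((∃ e, Module.finrank F E * e = n ∧ Odd (Module.finrank F E) ∧
            x ^ (q ^ Module.finrank F E + 1) = 1 ∧ Algebra.norm F x ^ e = 1) ∨
          (∃ e, n = 2 * (Module.finrank F E * e) ∧
            (Algebra.norm F x ^ e) ^ q = Algebra.norm F x ^ e)) →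
        ∃ l : F, l ^ (q + 1) = 1 ∧ x ^ S = algebraMap F E l := by
    rcases Nat.even_or_odd n with ⟨h, hh⟩ | hodd
    · rw [← two_mul] at hh
      obtain ⟨S, hS, hpS, hp'⟩ := exists_torus_even hF p (n := n) (h := h) (by omega) hh
      refine ⟨S, hS, hpS, fun {E} _ _ _ x hx hor => ?_⟩
      rcases hor with ⟨e, he, hdodd, hxq, hN⟩ | ⟨e, he, hN⟩
      · have he2 : Even e := by
          have h2 : Even (Module.finrank F E * e) := he.trans hh ▸ even_two_mul h
          rcases Nat.even_mul.1 h2 with h2 | h2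
          · exact absurd h2 (Nat.not_even_iff_odd.2 hdodd)
          · exact h2
        obtain ⟨e', rfl⟩ := he2
        refine hp' x e' (Nat.eq_of_mul_eq_mul_left (show 0 < 2 by norm_num) ?_) hx ?_
        · rw [← hh, ← he]; ring
        · have hq' : Algebra.norm F x ^ q * Algebra.norm F x = 1 := by
            have h1 := congrArg (Algebra.norm F) hxq
            rwa [map_pow, map_one, pow_succ, pow_q_pow_odd hF _ hdodd] at h1
          set M := Algebra.norm F x ^ e' with hM
          have hMM : M * M = 1 := by rw [hM, ← pow_add, hN]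
          have hMq : M ^ q * M = 1 := by rw [hM, ← pow_mul, mul_comm e', pow_mul, ← mul_pow, hq', one_pow]
          calc M ^ q = M ^ q * (M * M) := by rw [hMM, mul_one]
            _ = M := by rw [← mul_assoc, hMq, one_mul]
      · exact hp' x e (by omega) hx hN
    · obtain ⟨S, hS, hpS, hp'⟩ := exists_torus_odd hF p hn hodd
      refine ⟨S, hS, hpS, fun {E} _ _ _ x hx hor => ?_⟩
      rcases hor with ⟨e, he, -, hxq, hN⟩ | ⟨e, he, -⟩
      · refine hp' x e he ?_ hN
        have heo : Odd e := (Nat.odd_mul.1 (he ▸ hodd)).2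
        obtain ⟨t, ht⟩ := Odd.nat_add_dvd_pow_add_pow (q ^ Module.finrank F E) 1 heo
        rw [one_pow, ← pow_mul, he] at ht
        rw [ht, pow_mul, hxq, one_pow]
      · exact absurd ⟨_, he⟩ (fun h2 => (Nat.not_even_iff_odd.2 hodd) (even_iff_two_dvd.2 h2))
  refine ⟨S, hS, hpS, fun g => ?_⟩
  have hn1 : 1 ≤ n := by omega
  have : Nonempty (Fin n) := ⟨⟨0, hn1⟩⟩
  set G : Matrix (Fin n) (Fin n) F := g.1.1 with hG
  set P := unipExp p n with hP
  set s := g ^ P with hs
  set o := orderOf s with ho
  have ho1 : 1 ≤ o := orderOf_pos s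
  set Sm : Matrix (Fin n) (Fin n) F := s.1.1 with hSm
  have hSG : Sm = G ^ P := rfl
  have hSo : Sm ^ o = 1 := by
    have h := congrArg (fun x : Cfsg.SU n F q => (x.1.1 : Matrix (Fin n) (Fin n) F)) (pow_orderOf_eq_one s)
    exact h
  have hpo : ¬ p ∣ o := by
    have h := not_dvd_orderOf_pow_unipExp hn1 p (Matrix.SpecialLinearGroup.toGL g.1)
    have h2 : orderOf (Matrix.SpecialLinearGroup.toGL g.1 ^ unipExp p n) = o := by
      rw [← map_pow, orderOf_injective _ Matrix.SpecialLinearGroup.toGL_injective, ← Subgroup.coe_pow,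
        Subgroup.orderOf_coe]
    rwa [h2] at h
  have hdagS : dag hF Sm = Sm ^ (o - 1) := by
    have h1 : dag hF Sm * Sm = 1 := dag_mul_self_of_preserving hF Sm s.2
    calc dag hF Sm = dag hF Sm * (Sm * Sm ^ (o - 1)) := by
          rw [← pow_succ', Nat.sub_add_cancel ho1, hSo, mul_one]
      _ = Sm ^ (o - 1) := by rw [← mul_assoc, h1, one_mul]
  have hcomm : ∀ w : F[X], Commute G (aeval Sm w) := by
    intro w
    induction w using Polynomial.induction_on' with
    | add a b ha hb => rw [map_add]; exact ha.add_right hb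
    | monomial k a =>
      rw [aeval_monomial, ← Algebra.smul_def, hSG, ← pow_mul]
      exact ((Commute.refl G).pow_right _).smul_right a
  have hdagw : ∀ w : F[X], dag hF (aeval Sm w) = aeval Sm ((w.map (conj hF)).comp (X ^ (o - 1))) := by
    intro w
    rw [dag_aeval, hdagS, aeval_comp, map_pow, aeval_X]
  have hfinish : (∃ c : F, Sm ^ S = c • (1 : Matrix (Fin n) (Fin n) F)) →
      (QuotientGroup.mk g : Cfsg.PSU n F q) ^ (P * S) = 1 := by
    rintro ⟨c, hc⟩
    rw [← QuotientGroup.mk_pow, QuotientGroup.eq_one_iff, Cfsg.Agent.Lib.Unitary.mem_center_SU_iff hF hn]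
    refine ⟨c, fun w => ?_⟩
    have h : ((g ^ (P * S)).1.1 : Matrix (Fin n) (Fin n) F) = Sm ^ S := by
      rw [hSG, ← pow_mul]; rfl
    rw [h, hc, Matrix.smul_mulVec, Matrix.one_mulVec]
  set μ := minpoly F Sm with hμ
  have hμ0 : μ ≠ 0 := minpoly.ne_zero (Matrix.isIntegral Sm)
  have hμo : μ ∣ X ^ o - 1 := minpoly.dvd F Sm (by simp [hSo])
  have hsq : Squarefree μ := by
    have hne : ((o : ℕ) : F) ≠ 0 := fun h => hpo ((CharP.cast_eq_zero_iff F p _).1 h)
    have := (separable_X_pow_sub_C (1 : F) hne one_ne_zero).squarefree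
    rw [map_one] at this
    exact this.squarefree_of_dvd hμo
  have hSdet : Sm.det = 1 := s.1.2
  have hscal : ∀ (f : F[X]) (A : Matrix (Fin n) (Fin n) F) (_ : Fact (Irreducible f)) (l : F),
      AdjoinRoot.root f ^ S = algebraMap F (AdjoinRoot f) l → aeval Sm f * A = 0 →
      (Sm ^ S - l • 1) * A = 0 := by
    intro f A _ l hl hA
    have h : f ∣ X ^ S - C l := by
      rw [← AdjoinRoot.mk_eq_zero, map_sub, map_pow, AdjoinRoot.mk_X, AdjoinRoot.mk_C,
        ← AdjoinRoot.algebraMap_eq, hl, sub_self]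
    obtain ⟨c, hc⟩ := h
    have h2 : aeval Sm (X ^ S - C l) = Sm ^ S - l • 1 := by
      simp [Algebra.algebraMap_eq_smul_one]
    rw [← h2, hc, mul_comm f, map_mul, mul_assoc, hA, mul_zero]
  by_cases hirr : Irreducible μ
  · right
    have hinv : μ ∣ (μ.map (conj hF)).comp (X ^ (o - 1)) := by
      refine minpoly.dvd F Sm ?_
      rw [← hdagw, hμ, minpoly.aeval]
      ext i j
      simp [dag, Cfsg.Agent.Lib.Unitary.zero_pow_q hF]
    obtain ⟨hdodd, hroot⟩ := exists_odd_degree hF hirr ho1 hμo hinv
    obtain ⟨e, he, hdet⟩ := det_facts (Matrix.toLinAlgEquiv' Sm) hirr (by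
      rw [aeval_algHom_apply, hμ, minpoly.aeval, map_zero])
    rw [Module.finrank_fin_fun] at he
    have hdet' : LinearMap.det (Matrix.toLinAlgEquiv' Sm) = 1 := by
      rw [← hSdet]
      exact LinearMap.det_toLin' Sm
    rw [hdet'] at hdet
    have hfact : Fact (Irreducible μ) := ⟨hirr⟩
    have := Module.Finite.of_basis (AdjoinRoot.powerBasis hirr.ne_zero).basis
    have : Finite (AdjoinRoot μ) := Module.finite_of_finite F
    have hfr : Module.finrank F (AdjoinRoot μ) = μ.natDegree := by
      rw [(AdjoinRoot.powerBasis hirr.ne_zero).finrank, AdjoinRoot.powerBasis_dim]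
    have hr0 : AdjoinRoot.root μ ≠ 0 := by
      intro h0
      rw [h0, zero_pow (Nat.succ_ne_zero _)] at hroot
      exact zero_ne_one hroot
    obtain ⟨l, -, hl⟩ := hSprop (AdjoinRoot.root μ) hr0
      (Or.inl ⟨e, by rw [hfr, he], by rw [hfr]; exact hdodd, by rw [hfr]; exact hroot, hdet.symm⟩)
    refine hfinish ⟨l, ?_⟩
    have h := hscal μ 1 hfact l hl (by rw [hμ, minpoly.aeval, zero_mul])
    rwa [mul_one, sub_eq_zero] at h
  · have hnu : ¬ IsUnit μ := minpoly.not_isUnit F Sm
    obtain ⟨f, hf, ⟨h, hfh⟩⟩ := WfDvdMonoid.exists_irreducible_factor hnu hμ0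
    have hh : ¬ IsUnit h := by
      intro hu
      apply hirr
      rw [hfh]
      exact (irreducible_mul_isUnit hu).2 hf
    have hcop : IsCoprime f h := by
      rw [hf.coprime_iff_not_dvd]
      rintro ⟨k, hk⟩
      exact hf.not_isUnit (hsq f ⟨k, by rw [hfh, hk]; ring⟩)
    obtain ⟨u, v, huv⟩ := hcop
    set E := aeval Sm (v * h) with hE
    set E' := dag hF E with hE'
    have hfE : aeval Sm f * E = 0 := by
      rw [hE, ← map_mul, show f * (v * h) = v * (f * h) by ring, ← hfh, map_mul, hμ, minpoly.aeval, mul_zero]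
    have hEE : E * E = E := by
      rw [← sub_eq_zero, hE, ← map_mul, ← map_sub]
      have h1 : v * h * (v * h) - v * h = -(u * v) * μ := by
        rw [hfh]; linear_combination (v * h) * huv
      rw [h1, map_mul, hμ, minpoly.aeval, mul_zero]
    have hE0 : E ≠ 0 := by
      intro h0
      have h1 : f ∣ v * h := dvd_trans ⟨h, hfh⟩ (minpoly.dvd F Sm h0)
      exact hf.not_isUnit (isUnit_of_dvd_one (huv ▸ dvd_add (dvd_mul_left f u) h1))
    have hE1 : E ≠ 1 := by
      intro h0
      have h2 : aeval Sm (u * f) = 0 := by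
        have := congrArg (aeval Sm) huv
        rwa [map_add, map_one, ← hE, h0, add_eq_right] at this
      have h1 : h ∣ u * f := dvd_trans ⟨f, hfh.trans (mul_comm _ _)⟩ (minpoly.dvd F Sm h2)
      exact hh (isUnit_of_dvd_one (huv ▸ dvd_add h1 (dvd_mul_left h v)))
    have hE'E' : E' * E' = E' := by rw [hE', ← dag_mul, hEE]
    have hE'poly : E' = aeval Sm (((v * h).map (conj hF)).comp (X ^ (o - 1))) := by rw [hE', hE, hdagw]
    have hEcomm : Commute E E' := by
      rw [hE'poly, hE]
      exact (Commute.all _ _).map (aeval Sm)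
    have hGE : Commute G E := hcomm _
    have hGE' : Commute G E' := by rw [hE'poly]; exact hcomm _
    by_cases hA1 : E * E' = 1
    · exfalso
      apply hE1
      calc E = E * (E * E') := by rw [hA1, mul_one]
        _ = 1 := by rw [← mul_assoc, hEE, hA1]
    by_cases hA0 : E * E' ≠ 0
    · refine Or.inl (exists_commuting_of_selfdual hF hn hr hrq hrn g _ ?_ hA0 hA1 ?_ (hGE.mul_right hGE'))
      · rw [mul_assoc, ← mul_assoc E' E, ← hEcomm.eq, mul_assoc, hE'E', ← mul_assoc, hEE]
      · rw [dag_mul, hE', dag_dag]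
    push Not at hA0
    have hA0' : E' * E = 0 := hEcomm.eq ▸ hA0
    by_cases hsum : E + E' ≠ 1
    · refine Or.inl (exists_commuting_of_selfdual hF hn hr hrq hrn g _ ?_ ?_ hsum ?_ (hGE.add_right hGE'))
      · rw [add_mul, mul_add, mul_add, hEE, hE'E', hA0, hA0']; simp
      · intro h0
        apply hE0
        calc E = E * (E + E') := by rw [mul_add, hEE, hA0, add_zero]
          _ = 0 := by rw [h0, mul_zero]
      · rw [dag_add, hE', dag_dag, add_comm]
    push Not at hsum
    right
    -- determinant on the first summand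
    have hSE : Commute Sm E := by
      rw [hE]
      have h := (Commute.all X (v * h)).map (aeval Sm)
      rwa [aeval_X] at h
    have hSE' : Commute Sm E' := by
      rw [eq_sub_of_add_eq' hsum]
      exact (Commute.one_right Sm).sub_right hSE
    set Si := Sm ^ (o - 1) with hSi
    have hSSi : Sm * Si = 1 := by rw [hSi, ← pow_succ', Nat.sub_add_cancel ho1, hSo]
    set Y := Sm * E + E' with hY
    set Y' := E + Sm * E' with hY'
    have hYY' : Y * Y' = Sm := by
      rw [hY, hY']
      calc (Sm * E + E') * (E + Sm * E')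
          = Sm * (E * E) + (Sm * E) * (Sm * E') + E' * E + E' * (Sm * E') := by noncomm_ring
        _ = Sm * E + Sm * E' := by
          rw [hEE, hA0', ← mul_assoc E' Sm, ← hSE'.eq, mul_assoc Sm E' E', hE'E',
            show Sm * E * (Sm * E') = Sm * (E * Sm) * E' by noncomm_ring, ← hSE.eq,
            show Sm * (Sm * E) * E' = Sm * Sm * (E * E') by noncomm_ring, hA0, mul_zero]
          abel
        _ = Sm := by rw [← mul_add, hsum, mul_one]
    have hdagY' : dag hF Y' = Si * E + E' := by
      rw [hY', dag_add, dag_mul, hdagS, hE', dag_dag, ← hE',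
        ((hSE.pow_left (o - 1)).eq : Si * E = E * Si), add_comm]
    have hDq : Y.det ^ q = Y.det := by
      have h1 : Y * dag hF Y' = 1 := by
        rw [hdagY', hY]
        calc (Sm * E + E') * (Si * E + E')
            = Sm * (E * Si) * E + Sm * (E * E') + E' * (Si * E) + E' * E' := by noncomm_ring
          _ = E + E' := by
            rw [← ((hSE.pow_left (o - 1)).eq : Si * E = E * Si), hA0, hE'E', mul_zero,
              ← mul_assoc E' Si, ← ((hSE'.pow_left (o - 1)).eq : Si * E' = E' * Si), mul_assoc Si E' E, hA0',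
              mul_zero, ← mul_assoc Sm Si E, hSSi, one_mul, hEE]
            abel
          _ = 1 := hsum
      have h2 := congrArg Matrix.det h1
      rw [Matrix.det_mul, det_dag, Matrix.det_one] at h2
      have h3 := congrArg Matrix.det hYY'
      rw [Matrix.det_mul, hSdet] at h3
      have h4 : Y.det ≠ 0 := left_ne_zero_of_mul_eq_one h3
      have h5 : Y.det ^ q * Y'.det ^ q = 1 := by rw [← mul_pow, h3, one_pow]
      have h6 : Y'.det ^ q ≠ 0 := right_ne_zero_of_mul_eq_one h2
      exact mul_right_cancel₀ h6 (h5.trans h2.symm)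
    -- the subspace
    set EL := Matrix.toLinAlgEquiv' (R := F) E with hEL
    set EL' := Matrix.toLinAlgEquiv' (R := F) E' with hEL'
    set SL := Matrix.toLinAlgEquiv' (R := F) Sm with hSL
    have mEE : ∀ a, EL (EL a) = EL a := fun a => by
      rw [← Module.End.mul_apply, hEL, ← map_mul, hEE]
    have mE'E' : ∀ a, EL' (EL' a) = EL' a := fun a => by
      rw [← Module.End.mul_apply, hEL', ← map_mul, hE'E']
    have mEE' : ∀ a, EL (EL' a) = 0 := fun a => by
      rw [← Module.End.mul_apply, hEL, hEL', ← map_mul, hA0, map_zero, LinearMap.zero_apply]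
    have mE'E : ∀ a, EL' (EL a) = 0 := fun a => by
      rw [← Module.End.mul_apply, hEL, hEL', ← map_mul, hA0', map_zero, LinearMap.zero_apply]
    have msum : ∀ a, EL a + EL' a = a := fun a => by
      rw [← LinearMap.add_apply, hEL, hEL', ← map_add, hsum, map_one, Module.End.one_apply]
    have mSE : ∀ a, SL (EL a) = EL (SL a) := fun a => by
      rw [← Module.End.mul_apply, hSL, hEL, ← map_mul, hSE.eq, map_mul, Module.End.mul_apply]
    let W := LinearMap.range EL
    let W' := LinearMap.range EL'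
    let ψ : (Fin n → F) ≃ₗ[F] W × W' :=
      LinearEquiv.ofLinearMap (EL.rangeRestrict.prod EL'.rangeRestrict) (W.subtype.coprod W'.subtype)
        (LinearMap.ext fun ab => by
          obtain ⟨⟨_, a, rfl⟩, ⟨_, b, rfl⟩⟩ := ab
          refine Prod.ext (Subtype.ext ?_) (Subtype.ext ?_)
          · change EL (EL a + EL' b) = EL a
            rw [map_add, mEE, mEE', add_zero]
          · change EL' (EL a + EL' b) = EL' b
            rw [map_add, mE'E', mE'E, zero_add])
        (LinearMap.ext fun a => msum a)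
    let T : Module.End F W := SL.restrict (p := W) (q := W) (by
      rintro _ ⟨a, rfl⟩; exact ⟨SL a, (mSE a).symm⟩)
    have hdetY : Y.det = LinearMap.det T := by
      have hconj : (ψ.symm : W × W' →ₗ[F] (Fin n → F)) ∘ₗ (LinearMap.prodMap T LinearMap.id) ∘ₗ
          (ψ.symm.symm : (Fin n → F) →ₗ[F] W × W') = Matrix.toLinAlgEquiv' (R := F) Y := by
        apply LinearMap.ext
        intro a
        change SL (EL a) + EL' a = _
        rw [hY, map_add, map_mul, LinearMap.add_apply, Module.End.mul_apply]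
      have h1 := LinearMap.det_conj (LinearMap.prodMap T (LinearMap.id : W' →ₗ[F] W')) ψ.symm
      rw [hconj, LinearMap.det_prodMap, LinearMap.det_id, mul_one] at h1
      rw [← h1]
      exact (LinearMap.det_toLin' Y).symm
    have hTp : ∀ (w : F[X]) (a : W), ((aeval T w a : W) : Fin n → F) = aeval SL w a := by
      intro w a
      induction w using Polynomial.induction_on' with
      | add a b ha hb => simp [ha, hb]
      | monomial k c =>
        rw [aeval_monomial, aeval_monomial, ← Algebra.smul_def, ← Algebra.smul_def, LinearMap.smul_apply,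
          LinearMap.smul_apply, Submodule.coe_smul]
        congr 1
        induction k generalizing a with
        | zero => rfl
        | succ k ih =>
          rw [pow_succ, pow_succ, Module.End.mul_apply, Module.End.mul_apply, ih]
          rfl
    have hTf : aeval T f = 0 := by
      apply LinearMap.ext
      rintro ⟨_, a, rfl⟩
      apply Subtype.ext
      rw [hTp]
      change (aeval (Matrix.toLinAlgEquiv' (R := F) Sm) f) (Matrix.toLinAlgEquiv' (R := F) E a) = 0
      rw [aeval_algHom_apply, ← Module.End.mul_apply, ← map_mul, hfE, map_zero, LinearMap.zero_apply]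
    obtain ⟨e, he, hdet⟩ := det_facts T hf hTf
    have hdim : 2 * Module.finrank F W = n := by
      have h1 : Module.finrank F W + Module.finrank F W' = n := by
        rw [← Module.finrank_prod, ← ψ.finrank_eq, Module.finrank_fin_fun]
      have h2 : Module.finrank F W' = Module.finrank F W := by
        let cv : (Fin n → F) ≃ (Fin n → F) :=
          ⟨fun a i => a i ^ q, fun a i => a i ^ q,
            fun a => funext fun i => Cfsg.Agent.Lib.Unitary.pow_q_q hF _,
            fun a => funext fun i => Cfsg.Agent.Lib.Unitary.pow_q_q hF _⟩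
        have hrange : ∀ a, a ∈ LinearMap.range (E.map (conj hF)).mulVecLin ↔ cv a ∈ W := by
          intro a
          constructor
          · rintro ⟨b, rfl⟩
            refine ⟨cv b, ?_⟩
            funext i
            have h := RingHom.map_mulVec (conj hF) E (cv b) i
            have hb : (conj hF ∘ cv b) = b := funext fun i => Cfsg.Agent.Lib.Unitary.pow_q_q hF _
            rw [hb] at h
            change (E.mulVec (cv b)) i = ((E.map (conj hF)).mulVec b) i ^ q
            rw [← h, conj_apply, Cfsg.Agent.Lib.Unitary.pow_q_q hF]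
          · rintro ⟨b, hb⟩
            refine ⟨cv b, ?_⟩
            funext i
            have h := RingHom.map_mulVec (conj hF) E b i
            have hb' := congrFun hb i
            change (E.mulVec b) i = a i ^ q at hb'
            change ((E.map (conj hF)).mulVec (conj hF ∘ b)) i = a i
            rw [← h, hb', conj_apply, Cfsg.Agent.Lib.Unitary.pow_q_q hF]
        have hcardeq : Nat.card (LinearMap.range (E.map (conj hF)).mulVecLin) = Nat.card W :=
          Nat.card_congr (cv.subtypeEquiv hrange)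
        rw [Module.natCard_eq_pow_finrank (K := F), Module.natCard_eq_pow_finrank (K := F) (V := W)] at hcardeq
        have h3 := Nat.pow_right_injective (Finite.one_lt_card : 2 ≤ Nat.card F) hcardeq
        change Matrix.rank E' = _
        rw [hE', dag, Matrix.rank_transpose]
        exact h3
      omega
    have hfact : Fact (Irreducible f) := ⟨hf⟩
    have := Module.Finite.of_basis (AdjoinRoot.powerBasis hf.ne_zero).basis
    have : Finite (AdjoinRoot f) := Module.finite_of_finite F
    have hfr : Module.finrank F (AdjoinRoot f) = f.natDegree := by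
      rw [(AdjoinRoot.powerBasis hf.ne_zero).finrank, AdjoinRoot.powerBasis_dim]
    have hr0 : AdjoinRoot.root f ≠ 0 := by
      intro h0
      have h := AdjoinRoot.mk_eq_zero.2 (dvd_trans ⟨h, hfh⟩ hμo)
      rw [map_sub, map_pow, map_one, AdjoinRoot.mk_X, h0, zero_pow (by omega), zero_sub, neg_eq_zero] at h
      exact one_ne_zero h
    obtain ⟨l, hl1, hl⟩ := hSprop (AdjoinRoot.root f) hr0
      (Or.inr ⟨e, by rw [hfr, he, hdim], by rw [← hdet, ← hdetY, hDq]⟩)
    refine hfinish ⟨l, ?_⟩
    have hA : (Sm ^ S - l • 1) * E = 0 := hscal f E hfact l hl hfE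
    rw [sub_mul, smul_mul_assoc, one_mul, sub_eq_zero] at hA
    -- scalar on the dual summand
    have hB : E' * Si ^ S = l ^ q • E' := by
      have h := congrArg (dag hF) hA
      rwa [dag_mul, dag_pow, dag_smul, hdagS] at h
    have hSiS : Si ^ S * Sm ^ S = 1 := by
      have h1 : Si * Sm = 1 := by rw [hSi, ← pow_succ, Nat.sub_add_cancel ho1, hSo]
      rw [← ((Commute.refl Sm).pow_left (o - 1)).mul_pow, ← hSi, h1, one_pow]
    have hB' : E' = l ^ q • (Sm ^ S * E') :=
      calc E' = E' * Si ^ S * Sm ^ S := by rw [mul_assoc, hSiS, mul_one]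
        _ = l ^ q • (Sm ^ S * E') := by rw [hB, smul_mul_assoc, (hSE'.pow_left S).eq]
    have hC : Sm ^ S * E' = l • E' := by
      conv_rhs => rw [hB', smul_smul, ← pow_succ', hl1, one_smul]
    calc Sm ^ S = Sm ^ S * (E + E') := by rw [hsum, mul_one]
      _ = l • (1 : Matrix (Fin n) (Fin n) F) := by rw [mul_add, hA, hC, ← smul_add, hsum]

end Cfsg.Agent.Lib.LinearOrders
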