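import Cfsg.Agent.Lib.LinearOrders.UnitaryOrders
import Cfsg.Agent.Lib.LinearOrders.UnitClassify
import Cfsg.Agent.Lib.LinearOrders.PSUThree

/-!
Elements of `PSU_{2h}(q)` of order divisible by a prime `r` with `-q` of order `2h` modulo `r`.

Owner: helper83.
-/

set_option autoImplicit false
set_option linter.style.haveILetI false

namespace Cfsg.Agent.Lib.LinearOrders.HalfTorus83

open Polynomial Matrix
open Cfsg.Agent.Lib.OrderSets
open Cfsg.Agent.Lib.LinearOrders

universe u

variable {F : Type u} [Field F] {q n : ℕ}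

theorem prod_zpow {K : Type*} [Field K] {a : K} (ha : a ≠ 0) (f : ℕ → ℤ) :
    ∀ k, ∏ i ∈ Finset.range k, a ^ f i = a ^ ∑ i ∈ Finset.range k, f i
  | 0 => by simp
  | k + 1 => by rw [Finset.prod_range_succ, Finset.sum_range_succ, zpow_add₀ ha, prod_zpow ha f k]

theorem eigen_iff {K : Type*} [Field K] {A : Matrix (Fin n) (Fin n) K} {l : K} :
    (∃ v, v ≠ 0 ∧ A *ᵥ v = l • v) ↔ A.charpoly.eval l = 0 := by
  rw [Matrix.eval_charpoly, ← Matrix.exists_mulVec_eq_zero_iff]
  refine exists_congr fun v => and_congr_right fun _ => ?_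
  rw [Matrix.sub_mulVec, sub_eq_zero, Matrix.scalar_apply, ← Matrix.smul_one_eq_diagonal, Matrix.smul_mulVec,
    Matrix.one_mulVec, eq_comm]

variable {K : Type*} [Field K] {θ : K →+* K}

theorem transpose_eigen (hθ : ∀ x, θ x = x ^ q) {A : Matrix (Fin n) (Fin n) K}
    (hA : Aᵀ * A.map θ = 1) {v : Fin n → K} {a : K} (ha : a ≠ 0) (hv : A *ᵥ v = a • v) :
    Aᵀ *ᵥ (θ ∘ v) = (a ^ q)⁻¹ • (θ ∘ v) := by
  have h1 : A.map θ *ᵥ (θ ∘ v) = a ^ q • (θ ∘ v) := by
    funext i
    rw [← RingHom.map_mulVec θ A v i, hv]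
    simp [hθ, mul_pow]
  have h2 := congrArg (Aᵀ *ᵥ ·) h1
  simp only [Matrix.mulVec_mulVec, hA, Matrix.one_mulVec, Matrix.mulVec_smul] at h2
  conv_rhs => rw [h2, smul_smul, inv_mul_cancel₀ (pow_ne_zero q ha), one_smul]

theorem dot_transpose {A : Matrix (Fin n) (Fin n) K} {w v : Fin n → K} {l m : K}
    (hw : Aᵀ *ᵥ w = l • w) (hv : A *ᵥ v = m • v) : (l - m) * (w ⬝ᵥ v) = 0 := by
  have h : w ⬝ᵥ (A *ᵥ v) = (Aᵀ *ᵥ w) ⬝ᵥ v := by rw [Matrix.dotProduct_mulVec, Matrix.mulVec_transpose]
  rw [hw, hv, dotProduct_smul, smul_dotProduct, smul_eq_mul, smul_eq_mul] at h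
  rw [sub_mul, h, sub_self]

/-- Such elements lie in the torus of order `(q ^ n - 1) / (q + 1)`. -/
theorem pow_eq_one_of_dvd [Fintype F] (hF : Fintype.card F = q ^ 2) (hn : 2 ≤ n) (heven : Even n) {r : ℕ}
    [Fact r.Prime] (hord : orderOf (-(q : ZMod r)) = n) {M S : ℕ} (hM : M * (q + 1) = q ^ n - 1)
    (hS : M ∣ (q + 1) * S) (g : Cfsg.PSU n F q) (hrg : r ∣ orderOf g) : g ^ S = 1 := by
  classical
  have hr : r.Prime := Fact.out
  have hq : 2 ≤ q := Cfsg.Agent.Lib.Unitary.one_lt_q hF
  haveI : NeZero n := ⟨by omega⟩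
  haveI : Nonempty (Fin n) := ⟨⟨0, by omega⟩⟩
  have hrq : ¬ r ∣ q + 1 := by
    intro h
    have : -(q : ZMod r) = 1 := by
      have := (ZMod.natCast_eq_zero_iff (q + 1) r).2 h
      push_cast at this
      linear_combination -this
    rw [this, orderOf_one] at hord
    omega
  obtain ⟨p, k, hp, hchar, hk, hqp⟩ := Cfsg.Agent.Lib.Unitary.q_eq_primePow hF
  haveI := Fact.mk hp
  have hrp : ¬ p ∣ r := by
    intro h
    have hpr : p = r := (Nat.prime_dvd_prime_iff_eq hp hr).1 h
    subst hpr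
    have h0 : (q : ZMod p) = 0 := by rw [hqp, Nat.cast_pow, ZMod.natCast_self, zero_pow (by omega)]
    rw [h0, neg_zero, orderOf_eq_zero] at hord
    · omega
    · rw [isOfFinOrder_iff_pow_eq_one]
      rintro ⟨j, hj, hj1⟩
      rw [zero_pow (by omega)] at hj1
      exact zero_ne_one hj1
  obtain ⟨G, rfl⟩ := QuotientGroup.mk_surjective g
  have hY : orderOf ((QuotientGroup.mk G : Cfsg.PSU n F q) ^ (orderOf (QuotientGroup.mk G : Cfsg.PSU n F q) / r)) = r :=
    orderOf_pow_orderOf_div (orderOf_pos _).ne' hrg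
  set Y := G ^ (orderOf (QuotientGroup.mk G : Cfsg.PSU n F q) / r) with hYdef
  rw [← QuotientGroup.mk_pow, ← hYdef] at hY
  -- the element of order `r` above
  set u := Y ^ (q + 1) with hudef
  have hur : u ^ r = 1 := by
    have h1 : (QuotientGroup.mk (Y ^ r) : Cfsg.PSU n F q) = 1 := by
      rw [QuotientGroup.mk_pow]
      conv_lhs => rw [← hY]
      rw [pow_orderOf_eq_one]
    rw [QuotientGroup.eq_one_iff, Cfsg.Agent.Lib.Unitary.mem_center_SU_iff hF hn] at h1
    obtain ⟨l, hl⟩ := h1
    set A : Matrix (Fin n) (Fin n) F := ((Y ^ r).1.1 : Matrix (Fin n) (Fin n) F) with hA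
    have hA1 : A = l • 1 := Matrix.ext_iff_mulVec.2 fun x => by rw [hl, Matrix.smul_mulVec, Matrix.one_mulVec]
    have hd := dag_mul_self_of_preserving hF A (Y ^ r).2
    rw [hA1, dag_smul, dag_one, smul_mul_smul_comm, mul_one] at hd
    have hl1 : l ^ (q + 1) = 1 := by
      have := congrFun (congrFun hd 0) 0
      simpa [pow_succ] using this
    rw [hudef, ← pow_mul, mul_comm, pow_mul]
    apply Subtype.ext
    apply Subtype.ext
    change A ^ (q + 1) = 1
    rw [hA1, _root_.smul_pow, hl1, one_pow, one_smul]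
  have hu1 : u ≠ 1 := by
    intro h
    have h2 : (QuotientGroup.mk Y : Cfsg.PSU n F q) ^ (q + 1) = 1 := by
      rw [← QuotientGroup.mk_pow, ← hudef, h]; rfl
    exact hrq (hY ▸ orderOf_dvd_of_pow_eq_one h2)
  have hGu : Commute G u := by rw [hudef, hYdef, ← pow_mul]; exact Commute.self_pow G _
  -- over the algebraic closure
  let K := AlgebraicClosure F
  set ι := algebraMap F K with hι
  haveI : CharP K p := charP_of_injective_algebraMap ι.injective p
  obtain ⟨θ, hθ'⟩ := exists_pow_q_hom hF K 1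
  have hθ : ∀ x, θ x = x ^ q := fun x => by rw [hθ', pow_one]
  let φ : Cfsg.SU n F q →* Matrix (Fin n) (Fin n) K :=
    { toFun := fun a => (a.1.1 : Matrix (Fin n) (Fin n) F).map ι
      map_one' := by simp
      map_mul' := fun a b => by
        change ((a.1.1 : Matrix (Fin n) (Fin n) F) * b.1.1).map ι = _
        rw [Matrix.map_mul] }
  have hφdet : ∀ a, (φ a).det = 1 := fun a => by
    change ((a.1.1 : Matrix (Fin n) (Fin n) F).map ι).det = 1
    rw [← RingHom.mapMatrix_apply, ← RingHom.map_det, a.1.2, map_one]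
  have hH : ∀ a, (φ a)ᵀ * (φ a).map θ = 1 := by
    intro a
    have h := congrArg (fun A : Matrix (Fin n) (Fin n) F => A.map ι)
      (dag_mul_self_of_preserving hF (a.1.1 : Matrix (Fin n) (Fin n) F) a.2)
    simp only [Matrix.map_mul, Matrix.map_one _ (map_zero ι) (map_one ι)] at h
    have h' : ((φ a).map θ)ᵀ * φ a = 1 := by
      rw [show φ a = (a.1.1 : Matrix (Fin n) (Fin n) F).map ι from rfl]
      convert h using 2
      ext i j
      simp [dag, hθ]
    have h2 := congrArg Matrix.transpose h'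
    rwa [Matrix.transpose_mul, Matrix.transpose_transpose, Matrix.transpose_one] at h2
  set U := φ u with hU
  have hUr : U ^ r = 1 := by rw [hU, ← map_pow, hur, map_one]
  obtain ⟨ζ, hζ1, hζr, hζev⟩ : ∃ ζ : K, ζ ≠ 1 ∧ ζ ^ r = 1 ∧ U.charpoly.eval ζ = 0 := by
    by_contra hcon
    have hr0 : ((r : ℕ) : K) ≠ 0 := fun h => hrp ((CharP.cast_eq_zero_iff K p r).1 h)
    have hdvd : minpoly K U ∣ X ^ r - C (1 : K) := minpoly.dvd K U (by simp [hUr])
    have hsep := (separable_X_pow_sub_C (1 : K) hr0 one_ne_zero).of_dvd hdvd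
    have hmon := minpoly.monic (Matrix.isIntegral U)
    have hspl : (minpoly K U).Splits := IsAlgClosed.splits _
    have hroots : ∀ x ∈ (minpoly K U).roots, x = 1 := by
      intro x hx
      by_contra hx1
      have hx' := (Polynomial.mem_roots'.1 hx).2
      refine hcon ⟨x, hx1, ?_, ?_⟩
      · obtain ⟨c, hc⟩ := hdvd
        have := congrArg (eval x) hc
        simpa [hx'.eq_zero, sub_eq_zero] using this
      · obtain ⟨c, hc⟩ := Matrix.minpoly_dvd_charpoly U
        rw [hc, eval_mul, hx'.eq_zero, zero_mul]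
    have hone : (minpoly K U).roots = {1} := by
      have hnd := Polynomial.nodup_roots hsep
      have hpos : 0 < (minpoly K U).roots.card := by
        rw [← hspl.natDegree_eq_card_roots]
        exact minpoly.natDegree_pos (Matrix.isIntegral U)
      obtain ⟨x, hx⟩ := Multiset.card_pos_iff_exists_mem.1 hpos
      obtain rfl := hroots x hx
      refine Multiset.ext.2 fun y => ?_
      rw [Multiset.count_singleton]
      split_ifs with hy
      · subst hy; exact Multiset.count_eq_one_of_mem hnd hx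
      · exact Multiset.count_eq_zero.2 fun h => hy (hroots y h)
    have hμ : minpoly K U = X - C 1 := by rw [hspl.eq_prod_roots_of_monic hmon, hone]; simp
    have hU1 : U = 1 := by
      have := minpoly.aeval K U
      rw [hμ] at this
      simpa [sub_eq_zero] using this
    apply hu1
    apply Subtype.ext
    apply Subtype.ext
    refine Matrix.map_injective ι.injective ?_
    change U = ((1 : Matrix (Fin n) (Fin n) F)).map ι
    rw [hU1, Matrix.map_one _ (map_zero ι) (map_one ι)]
  have hζ0 : ζ ≠ 0 := by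
    rintro rfl
    rw [zero_pow hr.ne_zero] at hζr
    exact zero_ne_one hζr
  set lam : ℕ → K := fun i => ζ ^ ((-(q : ℤ)) ^ i) with hlam
  have hlam0 : ∀ i, lam i ≠ 0 := fun i => zpow_ne_zero _ hζ0
  have hlsucc : ∀ i, lam (i + 1) = (lam i ^ q)⁻¹ := fun i => by
    simp only [hlam]
    rw [pow_succ, _root_.zpow_mul, _root_.zpow_neg, zpow_natCast]
  have hev : ∀ i, U.charpoly.eval (lam i) = 0 := by
    intro i
    induction i with
    | zero => simpa [hlam] using hζev
    | succ i ih =>
      obtain ⟨v, hv0, hv⟩ := eigen_iff.2 ih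
      rw [← Matrix.charpoly_transpose, ← eigen_iff]
      refine ⟨θ ∘ v, fun h => hv0 (funext fun j => θ.injective (by rw [← Function.comp_apply (f := θ), h]; simp)), ?_⟩
      rw [hlsucc]
      exact transpose_eigen hθ (hH u) (hlam0 i) hv
  have hinj : ∀ i j, i < n → j < n → lam i = lam j → i = j := by
    intro i j hi hj hij
    have hzu : orderOf (Units.mk0 ζ hζ0) = r :=
      orderOf_eq_prime (Units.ext (by simpa using hζr)) fun h => hζ1 (by simpa using congrArg Units.val h)
    have h2 : (Units.mk0 ζ hζ0) ^ ((-(q : ℤ)) ^ i) = (Units.mk0 ζ hζ0) ^ ((-(q : ℤ)) ^ j) :=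
      Units.ext (by simpa [Units.val_zpow_eq_zpow_val] using hij)
    rw [zpow_eq_zpow_iff_modEq, hzu, ← ZMod.intCast_eq_intCast_iff] at h2
    push_cast at h2
    rw [← hord] at hi hj
    exact pow_injOn_Iio_orderOf hi hj h2
  choose v hv0 hv using fun i : ℕ => eigen_iff.2 (hev i)
  let vv : Fin n → (Fin n → K) := fun i => v i
  have hli : LinearIndependent K vv :=
    Module.End.eigenvectors_linearIndependent' (Matrix.toLin' U) (fun i : Fin n => lam i)
      (fun i j h => Fin.ext (hinj i j i.2 j.2 h)) vv fun i => ⟨Module.End.mem_eigenspace_iff.2 (by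
        rw [Matrix.toLin'_apply]; exact hv i), hv0 i⟩
  let b := basisOfLinearIndependentOfCardEqFinrank hli (by rw [Fintype.card_fin, Module.finrank_fin_fun])
  have hb : ∀ i, b i = vv i := fun i => by simp [b]
  set A := φ G with hAdef
  have hcomm : Commute A U := hGu.map φ
  have hline : ∀ i : Fin n, ∃ c : K, A *ᵥ vv i = c • vv i := by
    intro i
    have hw : U *ᵥ (A *ᵥ vv i) = lam i • (A *ᵥ vv i) := by
      rw [Matrix.mulVec_mulVec, ← hcomm.eq, ← Matrix.mulVec_mulVec, hv i, Matrix.mulVec_smul]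
    set w := A *ᵥ vv i
    refine ⟨b.repr w i, ?_⟩
    have hL : ∀ x j, b.repr (U *ᵥ x) j = lam j * b.repr x j := by
      intro x j
      have : (Finsupp.lapply j).comp (b.repr.toLinearMap.comp (Matrix.toLin' U)) =
          lam j • ((Finsupp.lapply j).comp b.repr.toLinearMap) := by
        refine b.ext fun k => ?_
        simp only [LinearMap.comp_apply, Matrix.toLin'_apply, LinearMap.smul_apply, LinearEquiv.coe_coe,
          Finsupp.lapply_apply]
        rw [hb, show U *ᵥ vv k = lam k • vv k from hv k, ← hb, map_smul, b.repr_self]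
        by_cases hkj : k = j
        · subst hkj; simp
        · simp [Finsupp.single_eq_of_ne' hkj]
      exact LinearMap.congr_fun this x
    rw [← hb i]
    refine b.ext_elem fun j => ?_
    rw [map_smul, b.repr_self]
    by_cases hij : i = j
    · subst hij; simp
    · have h1 := hL w j
      rw [hw, map_smul] at h1
      simp only [Finsupp.smul_apply, smul_eq_mul] at h1
      have hne : lam i ≠ lam j := fun h => hij (Fin.ext (hinj i j i.2 j.2 h))
      have : b.repr w j = 0 := by
        have h3 : (lam i - lam j) * b.repr w j = 0 := by rw [sub_mul, h1, sub_self]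
        exact (mul_eq_zero.1 h3).resolve_left (sub_ne_zero.2 hne)
      simp [Finsupp.single_eq_of_ne' hij, this]
  choose x hx using hline
  have hdet : ∏ i, x i = 1 := by
    have h1 : LinearMap.toMatrix b b (Matrix.toLin' A) = Matrix.diagonal x := by
      refine Matrix.ext fun k l => ?_
      rw [LinearMap.toMatrix_apply, Matrix.toLin'_apply, hb, hx, ← hb, map_smul, b.repr_self]
      by_cases hkl : k = l
      · subst hkl; simp
      · simp [Matrix.diagonal_apply_ne _ hkl, Finsupp.single_eq_of_ne hkl]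
    rw [← Matrix.det_diagonal, ← h1, LinearMap.det_toMatrix, LinearMap.det_toLin', hφdet]
  have hx0 : ∀ i, x i ≠ 0 := fun i h => one_ne_zero (α := K) (by
    rw [← hdet]; exact Finset.prod_eq_zero (Finset.mem_univ i) h)
  let y : ℕ → K := fun i => if hi : i < n then x ⟨i, hi⟩ else 1
  have hy : ∀ i : Fin n, y i = x i := fun i => by simp [y, i.2]
  have hysucc : ∀ i, i + 1 < n → y (i + 1) = (y i ^ q)⁻¹ := by
    intro i hi
    set j : Fin n := ⟨i, by omega⟩
    set j' : Fin n := ⟨i + 1, hi⟩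
    rw [show y (i + 1) = x j' from hy j', show y i = x j from hy j]
    set w := θ ∘ vv j with hw
    have hwU : Uᵀ *ᵥ w = lam (i + 1) • w := by rw [hlsucc]; exact transpose_eigen hθ (hH u) (hlam0 i) (hv i)
    have hwA : Aᵀ *ᵥ w = (x j ^ q)⁻¹ • w := transpose_eigen hθ (hH G) (hx0 j) (hx j)
    have hne : w ⬝ᵥ vv j' ≠ 0 := by
      intro h
      have hall : ∀ k, w ⬝ᵥ vv k = 0 := fun k => by
        by_cases hk : k = j'
        · rw [hk, h]
        · refine (mul_eq_zero.1 (dot_transpose hwU (hv k))).resolve_left (sub_ne_zero.2 fun e => hk ?_)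
          exact Fin.ext (hinj _ _ hi k.2 e).symm
      have hw0 : w = 0 := by
        refine dotProduct_eq_zero _ fun z => ?_
        rw [← b.sum_repr z, dotProduct_sum]
        exact Finset.sum_eq_zero fun k _ => by rw [dotProduct_smul, hb, hall, smul_zero]
      exact hv0 i (funext fun k => θ.injective (by
        rw [Pi.zero_apply, map_zero]; exact congrFun hw0 k))
    exact (sub_eq_zero.1 ((mul_eq_zero.1 (dot_transpose hwA (hx j'))).resolve_right hne)).symm
  have hy00 : y 0 ≠ 0 := (hy ⟨0, by omega⟩) ▸ hx0 _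
  have hypow : ∀ i, i < n → y i = y 0 ^ ((-(q : ℤ)) ^ i) := by
    intro i
    induction i with
    | zero => intro _; simp
    | succ i ih =>
      intro hi
      rw [hysucc i hi, ih (by omega), pow_succ, _root_.zpow_mul, _root_.zpow_neg, zpow_natCast]
  have hy0M : y 0 ^ M = 1 := by
    have h1 : ∏ i ∈ Finset.range n, y 0 ^ ((-(q : ℤ)) ^ i) = 1 := by
      rw [← hdet, ← Fin.prod_univ_eq_prod_range (fun i => y 0 ^ ((-(q : ℤ)) ^ i))]
      exact Finset.prod_congr rfl fun i _ => by rw [← hy, hypow i i.2]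
    rw [prod_zpow hy00] at h1
    have h2 : ∑ i ∈ Finset.range n, (-(q : ℤ)) ^ i = -(M : ℤ) := by
      have h3 := geom_sum_mul_neg (-(q : ℤ)) n
      rw [heven.neg_pow] at h3
      have h4 : (M : ℤ) * ((q : ℤ) + 1) = (q : ℤ) ^ n - 1 := by
        have := congrArg (fun t : ℕ => (t : ℤ)) hM
        simpa [Nat.cast_sub (Nat.one_le_pow n q (by omega))] using this
      refine mul_right_cancel₀ (show ((q : ℤ) + 1) ≠ 0 by omega) ?_
      linear_combination h3 + h4
    rw [h2, _root_.zpow_neg, zpow_natCast, inv_eq_one] at h1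
    exact h1
  have hyS : ∀ i, i < n → y i ^ S = y 0 ^ S := by
    intro i
    induction i with
    | zero => intro _; rfl
    | succ i ih =>
      intro hi
      rw [hysucc i hi, inv_pow, pow_right_comm, ih (by omega)]
      apply inv_eq_of_mul_eq_one_right
      rw [← pow_succ, ← pow_mul, mul_comm]
      exact pow_eq_one_of_dvd' hy0M hS
  have hAS : A ^ S = y 0 ^ S • (1 : Matrix (Fin n) (Fin n) K) := by
    have hk : ∀ (k : ℕ) (i : Fin n), A ^ k *ᵥ vv i = x i ^ k • vv i := by
      intro k i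
      induction k with
      | zero => simp
      | succ k ih => rw [pow_succ', ← Matrix.mulVec_mulVec, ih, Matrix.mulVec_smul, hx, smul_smul, ← pow_succ]
    apply Matrix.toLin'.injective
    refine b.ext fun i => ?_
    rw [Matrix.toLin'_apply, Matrix.toLin'_apply, hb, hk, Matrix.smul_mulVec, Matrix.one_mulVec, ← hy,
      hyS i i.2]
  rw [← QuotientGroup.mk_pow, QuotientGroup.eq_one_iff, Cfsg.Agent.Lib.Unitary.mem_center_SU_iff hF hn]
  set B : Matrix (Fin n) (Fin n) F := ((G ^ S).1.1 : Matrix (Fin n) (Fin n) F) with hB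
  have hB' : B.map ι = y 0 ^ S • (1 : Matrix (Fin n) (Fin n) K) := by
    rw [← hAS, hAdef, ← map_pow]; rfl
  refine ⟨B 0 0, fun w => ?_⟩
  have hB'' : B = B 0 0 • (1 : Matrix (Fin n) (Fin n) F) := by
    ext i j
    apply ι.injective
    have e := congrFun (congrFun hB' i) j
    have e0 := congrFun (congrFun hB' 0) 0
    simp only [Matrix.map_apply, Matrix.smul_apply, smul_eq_mul] at e e0 ⊢
    rw [map_mul, e, e0]
    by_cases hij : i = j <;> simp [hij, Matrix.one_apply]
  rw [hB'', Matrix.smul_mulVec, Matrix.one_mulVec]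
  simp

/-- A generator of the torus. -/
theorem exists_half_torus [Fintype F] (hF : Fintype.card F = q ^ 2) {h M : ℕ} (hh : 1 ≤ h)
    (hnh : n = 2 * h) (hM : M * (q + 1) = q ^ n - 1) :
    M / Nat.gcd M (q + 1) ∈ omega (Cfsg.PSU n F q) := by
  have hq : 2 ≤ q := Cfsg.Agent.Lib.Unitary.one_lt_q hF
  obtain ⟨p, e, hp, hchar, he, hqp⟩ := Cfsg.Agent.Lib.Unitary.q_eq_primePow hF
  haveI := Fact.mk hp
  haveI : NeZero h := ⟨by omega⟩
  let K := FiniteField.Extension F p h
  have hK : Module.finrank F K = h := FiniteField.finrank_extension F p h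
  haveI : Fintype K := Fintype.ofFinite K
  have hcard : Fintype.card K = q ^ (2 * h) := by
    rw [Fintype.card_eq_nat_card, FiniteField.natCard_extension, Nat.card_eq_fintype_card, hF, ← pow_mul]
  have hodd' : Odd (2 * h - 1) := ⟨h - 1, by omega⟩
  obtain ⟨θ, hθ⟩ := exists_pow_q_hom hF K 1
  obtain ⟨θ', hθ'⟩ := exists_pow_q_hom hF K (2 * h - 1)
  have h12 : ∀ x, θ (θ' x) = x := fun x => by
    rw [hθ, hθ', ← pow_mul, ← pow_add, Nat.sub_add_cancel (by omega : 1 ≤ 2 * h), ← hcard, FiniteField.pow_card]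
  have h21 : ∀ x, θ' (θ x) = x := fun x => by
    rw [hθ, hθ', ← pow_mul, ← pow_add, Nat.add_sub_cancel' (by omega : 1 ≤ 2 * h), ← hcard, FiniteField.pow_card]
  let σ : K × K →+* K × K := RingHom.prod (θ.comp (RingHom.snd K K)) (θ'.comp (RingHom.fst K K))
  let ℓ : K × K →ₗ[F] F := (Algebra.trace F K).coprod (Algebra.trace F K)
  have hA : IsUnitAlg q σ ℓ := by
    refine ⟨fun x => Prod.ext (h12 _) (h21 _), fun c => Prod.ext ?_ ?_, fun x => ?_, fun x hx => ?_⟩
    · change θ (algebraMap F K c) = algebraMap F K (c ^ q)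
      rw [hθ, pow_one, map_pow]
    · change θ' (algebraMap F K c) = algebraMap F K (c ^ q)
      rw [hθ', ← map_pow, pow_q_pow_odd hF c hodd']
    · change Algebra.trace F K (θ x.2) + Algebra.trace F K (θ' x.1) =
        (Algebra.trace F K x.1 + Algebra.trace F K x.2) ^ q
      rw [hθ, hθ', algebraMap_pow_q_trace hF odd_one, algebraMap_pow_q_trace hF hodd',
        Cfsg.Agent.Lib.Unitary.add_pow_q hF, add_comm]
    · refine Prod.ext ((traceForm_nondegenerate F K).1 _ fun y => ?_)
        ((traceForm_nondegenerate F K).1 _ fun y => ?_)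
      · simpa [ℓ, Algebra.traceForm_apply] using hx (y, 0)
      · simpa [ℓ, Algebra.traceForm_apply] using hx (0, y)
  obtain ⟨g, hgo⟩ := exists_orderOf_eq_card_sub_one K
  rw [hcard, ← hnh, ← hM] at hgo
  set a : Kˣ := g ^ (q + 1) with hadef
  have hao : orderOf a = M := by
    rw [hadef, orderOf_pow_of_dvd (by omega) (hgo ▸ dvd_mul_left _ M), hgo, Nat.mul_div_cancel _ (by omega)]
  have hN : ∀ z : Kˣ, Algebra.norm F ((z ^ (q + 1) : Kˣ) : K) ^ q = Algebra.norm F ((z ^ (q + 1) : Kˣ) : K) := by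
    intro z
    have hz : Algebra.norm F (z : K) ≠ 0 := Algebra.norm_ne_zero_iff.2 z.ne_zero
    have hc : Algebra.norm F (z : K) ^ (q ^ 2) = Algebra.norm F (z : K) := by
      rw [← hF]; exact FiniteField.pow_card _
    rw [Units.val_pow_eq_pow_val, map_pow, ← pow_mul,
      show (q + 1) * q = q ^ 2 + q by ring, pow_add, hc, pow_succ, mul_comm]
  refine exists_psu_order hF hA (by omega) (by rw [Module.finrank_prod, hK, hnh, two_mul])
    ((a : K), θ' ((a⁻¹ : Kˣ) : K)) ?_ ?_ ?_
  · refine Prod.ext ?_ ?_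
    · change (a : K) * θ (θ' ((a⁻¹ : Kˣ) : K)) = 1
      rw [h12, Units.mul_inv]
    · change θ' ((a⁻¹ : Kˣ) : K) * θ' (a : K) = 1
      rw [← map_mul, Units.inv_mul, map_one]
  · rw [norm_prod_mk, hθ', map_pow, pow_q_pow_odd hF _ hodd', hadef, ← inv_pow, hN, ← map_mul, inv_pow,
      Units.mul_inv, map_one]
  · intro k l hkl
    have e1 : (a : K) ^ k = algebraMap F K l := congrArg Prod.fst hkl
    have e2 : θ' ((a⁻¹ : Kˣ) : K) ^ k = algebraMap F K l := congrArg Prod.snd hkl
    have h1 : θ' ((a : K) ^ k) * θ' ((a⁻¹ : Kˣ) : K) ^ k = 1 := by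
      rw [map_pow θ', ← mul_pow, ← map_mul, Units.mul_inv, map_one, one_pow]
    rw [e2, e1, hθ', ← map_pow, pow_q_pow_odd hF l hodd', ← map_mul, ← pow_succ] at h1
    have hl1 : l ^ (q + 1) = 1 := (algebraMap F K).injective (h1.trans (map_one _).symm)
    refine coprime_div_gcd rfl (Nat.gcd_pos_of_pos_right _ (by omega)) ?_
    rw [← hao, orderOf_dvd_iff_pow_eq_one]
    apply Units.ext
    rw [Units.val_pow_eq_pow_val, mul_comm, pow_mul, e1, ← map_pow, hl1, map_one, Units.val_one]

end Cfsg.Agent.Lib.LinearOrders.HalfTorus83
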