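import Cfsg.Agent.Lib.LinearOrders.UnitAlgebra

/-!
The maximal torus orders of `PSU_n(q)` used for element order sets.
-/

set_option autoImplicit false

namespace Cfsg.Agent.Lib.LinearOrders

open Polynomial
open Cfsg.Agent.Lib.OrderSets
open Cfsg.Agent.Lib.Unitary (conj)

universe u

variable {F : Type u} [Field F] {q : ℕ}

theorem exists_pow_q_hom [Fintype F] (hF : Fintype.card F = q ^ 2) (K : Type*) [Field K] [Algebra F K] (m : ℕ) :
    ∃ θ : K →+* K, ∀ x, θ x = x ^ q ^ m := by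
  obtain ⟨p, k, hp, hc, -, rfl⟩ := Cfsg.Agent.Lib.Unitary.q_eq_primePow hF
  have := Fact.mk hp
  have : CharP K p := charP_of_injective_algebraMap (algebraMap F K).injective p
  exact ⟨iterateFrobenius K p (k * m), fun x => by rw [iterateFrobenius_def, pow_mul]⟩

theorem exists_torus_exponent [Fintype F] (p : ℕ) [Fact p.Prime] [CharP F p] {K : Type*} [Field K] [Finite K]
    [Algebra F K] (T : Subgroup Kˣ) (Z : Subgroup Fˣ) :
    ∃ (S : ℕ) (a : Kˣ), a ∈ T ∧ ¬ p ∣ S ∧
      (∀ (k : ℕ) (l : Fˣ), l ∈ Z → (a : K) ^ k = algebraMap F K l → S ∣ k) ∧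
      ∀ x ∈ T, ∃ l : Fˣ, l ∈ Z ∧ (x : K) ^ S = algebraMap F K l := by
  let N : Subgroup Kˣ := Z.map (Units.map (algebraMap F K : F →* K))
  obtain ⟨a, ha⟩ := IsCyclic.exists_generator (α := T)
  set S := orderOf (QuotientGroup.mk (a : Kˣ) : Kˣ ⧸ N) with hS
  refine ⟨S, a, a.2, ?_, fun k l hlZ hkl => ?_, fun x hx => ?_⟩
  · intro hd
    have hp : p.Prime := Fact.out
    have h2 : S ∣ orderOf (a : Kˣ) := orderOf_map_dvd (QuotientGroup.mk' N) _
    have h3 : orderOf (a : Kˣ) ∣ Nat.card K - 1 := Nat.card_units K ▸ orderOf_dvd_natCard _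
    have h5 : p ∣ Nat.card K := by
      rw [Module.natCard_eq_pow_finrank (K := F), Nat.card_eq_fintype_card]
      exact ((CharP.cast_eq_zero_iff F p _).1 (FiniteField.cast_card_eq_zero F)).trans
        (dvd_pow_self _ Module.finrank_pos.ne')
    have h7 := Nat.dvd_sub h5 ((hd.trans h2).trans h3)
    rw [Nat.sub_sub_self Finite.card_pos] at h7
    exact hp.one_lt.ne' (Nat.dvd_one.1 h7)
  · apply orderOf_dvd_of_pow_eq_one
    rw [← QuotientGroup.mk_pow, QuotientGroup.eq_one_iff]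
    exact Subgroup.mem_map.2 ⟨l, hlZ, Units.ext (by simpa using hkl.symm)⟩
  · obtain ⟨j, hj⟩ := ha ⟨x, hx⟩
    have h : (QuotientGroup.mk x : Kˣ ⧸ N) ^ S = 1 := by
      have hx' : x = (a : Kˣ) ^ j := by
        have h' := congrArg (fun t : T => (t : Kˣ)) hj
        simpa using h'.symm
      rw [hx', QuotientGroup.mk_zpow, ← zpow_natCast, zpow_comm, zpow_natCast, hS, pow_orderOf_eq_one,
        one_zpow]
    rw [← QuotientGroup.mk_pow, QuotientGroup.eq_one_iff] at h
    obtain ⟨l, hlZ, hl⟩ := Subgroup.mem_map.1 h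
    exact ⟨l, hlZ, by simpa using (congrArg Units.val hl).symm⟩

theorem norm_algHom_field {E K : Type*} [Field E] [Field K] [Algebra F E] [Algebra F K] [Finite E] [Finite K]
    (φ : E →ₐ[F] K) (x : E) {e : ℕ} (he : Module.finrank F E * e = Module.finrank F K) :
    Algebra.norm F (φ x) = Algebra.norm F x ^ e := by
  letI : Algebra E K := φ.toRingHom.toAlgebra
  haveI : IsScalarTower F E K := IsScalarTower.of_algebraMap_eq' φ.comp_algebraMap.symm
  have : Module.Finite F E := Module.Finite.of_finite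
  have : Module.Finite F K := Module.Finite.of_finite
  have : Module.Finite E K := Module.Finite.of_finite
  have hrk : Module.finrank E K = e := by
    have h := Module.finrank_mul_finrank F E K
    rw [← he] at h
    exact Nat.eq_of_mul_eq_mul_left Module.finrank_pos h
  change Algebra.norm F (algebraMap E K x) = _
  rw [← Algebra.norm_norm (R := F) (S := E), Algebra.norm_algebraMap, hrk, map_pow]

theorem exists_torus_odd [Fintype F] (hF : Fintype.card F = q ^ 2) (p : ℕ) [Fact p.Prime] [CharP F p]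
    {n : ℕ} (hn : 2 ≤ n) (hodd : Odd n) :
    ∃ S : ℕ, S ∈ omega (Cfsg.PSU n F q) ∧ ¬ p ∣ S ∧
      ∀ {E : Type u} [Field E] [Finite E] [Algebra F E] (x : E) (e : ℕ), Module.finrank F E * e = n →
        x ^ (q ^ n + 1) = 1 → Algebra.norm F x ^ e = 1 →
          ∃ l : F, l ^ (q + 1) = 1 ∧ x ^ S = algebraMap F E l := by
  have : NeZero n := ⟨by omega⟩
  let K := FiniteField.Extension F p n
  have hK : Module.finrank F K = n := FiniteField.finrank_extension F p n
  have : Fintype K := Fintype.ofFinite K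
  have hcard : Fintype.card K = q ^ (2 * n) := by
    rw [Fintype.card_eq_nat_card, FiniteField.natCard_extension, Nat.card_eq_fintype_card, hF, ← pow_mul]
  obtain ⟨θ, hθ⟩ := exists_pow_q_hom hF K n
  have hA : IsUnitAlg q θ (Algebra.trace F K) := by
    refine ⟨fun x => ?_, fun c => ?_, fun x => ?_, fun x hx => ?_⟩
    · rw [hθ, hθ, ← pow_mul, ← pow_add, ← two_mul, ← hcard, FiniteField.pow_card]
    · rw [hθ, ← map_pow, pow_q_pow_odd hF c hodd]
    · rw [hθ, algebraMap_pow_q_trace hF hodd]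
    · exact (traceForm_nondegenerate F K).1 x fun y => hx y
  let T : Subgroup Kˣ := (powMonoidHom (q ^ n + 1) : Kˣ →* Kˣ).ker ⊓
    (Units.map (Algebra.norm F : K →* F)).ker
  obtain ⟨S, a, ha, hpS, hmin, hall⟩ := exists_torus_exponent (F := F) p T ⊤
  obtain ⟨ha1, ha2⟩ := Subgroup.mem_inf.1 ha
  refine ⟨S, exists_psu_order hF hA hn hK (a : K) ?_ (congrArg Units.val (MonoidHom.mem_ker.1 ha2)) ?_,
    hpS, ?_⟩
  · rw [hθ, ← pow_succ']
    exact congrArg Units.val (MonoidHom.mem_ker.1 ha1)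
  · intro k l hkl
    have hl : l ≠ 0 := by
      intro h0
      rw [h0, map_zero] at hkl
      exact pow_ne_zero _ a.ne_zero hkl
    exact hmin k (Units.mk0 l hl) (Subgroup.mem_top _) hkl
  · intro E _ _ _ x e he h1 h2
    obtain ⟨φ⟩ : Nonempty (E →ₐ[F] K) :=
      FiniteField.nonempty_algHom_of_finrank_dvd (by rw [hK, ← he]; exact dvd_mul_right _ _)
    have hx0 : x ≠ 0 := by
      intro h0
      rw [h0, zero_pow (Nat.succ_ne_zero _)] at h1
      exact zero_ne_one h1
    have hmem : Units.map (φ : E →* K) (Units.mk0 x hx0) ∈ T := by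
      refine Subgroup.mem_inf.2 ⟨MonoidHom.mem_ker.2 (Units.ext ?_), MonoidHom.mem_ker.2 (Units.ext ?_)⟩
      · change (φ x) ^ (q ^ n + 1) = 1
        rw [← map_pow, h1, map_one]
      · change Algebra.norm F (φ x) = 1
        rw [norm_algHom_field φ x (he.trans hK.symm), h2]
    obtain ⟨l, -, hl⟩ := hall _ hmem
    have hxl : x ^ S = algebraMap F E (l : F) := by
      apply φ.toRingHom.injective
      change φ (x ^ S) = φ (algebraMap F E l)
      rw [map_pow, φ.commutes]
      exact hl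
    refine ⟨l, (algebraMap F E).injective ?_, hxl⟩
    have hh : (l : F) ^ (q + 1) = (l : F) ^ (q ^ n + 1) := by
      rw [pow_succ, pow_succ, pow_q_pow_odd hF _ hodd]
    rw [hh, map_pow, ← hxl, ← pow_mul, mul_comm, pow_mul, h1, one_pow, map_one]

theorem exists_torus_even [Fintype F] (hF : Fintype.card F = q ^ 2) (p : ℕ) [Fact p.Prime] [CharP F p]
    {n h : ℕ} (hh : 1 ≤ h) (hnh : n = 2 * h) :
    ∃ S : ℕ, S ∈ omega (Cfsg.PSU n F q) ∧ ¬ p ∣ S ∧
      ∀ {E : Type u} [Field E] [Finite E] [Algebra F E] (x : E) (e : ℕ), Module.finrank F E * e = h →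
        x ≠ 0 → (Algebra.norm F x ^ e) ^ q = Algebra.norm F x ^ e →
          ∃ l : F, l ^ (q + 1) = 1 ∧ x ^ S = algebraMap F E l := by
  have : NeZero h := ⟨by omega⟩
  have hq1 := Cfsg.Agent.Lib.Unitary.one_lt_q hF
  let K := FiniteField.Extension F p h
  have hK : Module.finrank F K = h := FiniteField.finrank_extension F p h
  have : Fintype K := Fintype.ofFinite K
  have hcard : Fintype.card K = q ^ (2 * h) := by
    rw [Fintype.card_eq_nat_card, FiniteField.natCard_extension, Nat.card_eq_fintype_card, hF, ← pow_mul]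
  have hodd' : Odd (2 * h - 1) := ⟨h - 1, by omega⟩
  obtain ⟨θ, hθ⟩ := exists_pow_q_hom hF K 1
  obtain ⟨θ', hθ'⟩ := exists_pow_q_hom hF K (2 * h - 1)
  have h12 : ∀ x, θ (θ' x) = x := fun x => by
    rw [hθ, hθ', ← pow_mul, ← pow_add, Nat.sub_add_cancel (by omega : 1 ≤ 2 * h), ← hcard, FiniteField.pow_card]
  have h21 : ∀ x, θ' (θ x) = x := fun x => by
    rw [hθ, hθ', ← pow_mul, ← pow_add, Nat.add_sub_cancel' (by omega : 1 ≤ 2 * h), ← hcard, FiniteField.pow_card]
  let σ : K × K →+* K × K := RingHom.prod (θ.comp (RingHom.snd K K)) (θ'.comp (RingHom.fst K K))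
  let ℓ : K × K →ₗ[F] F := (Algebra.trace F K).coprod (Algebra.trace F K)
  have hA : IsUnitAlg q σ ℓ := by
    refine ⟨fun x => Prod.ext (h12 _) (h21 _), fun c => Prod.ext ?_ ?_, fun x => ?_, fun x hx => ?_⟩
    · change θ (algebraMap F K c) = algebraMap F K (c ^ q)
      rw [hθ, pow_one, map_pow]
    · change θ' (algebraMap F K c) = algebraMap F K (c ^ q)
      rw [hθ', ← map_pow, pow_q_pow_odd hF c hodd']
    · change Algebra.trace F K (θ x.2) + Algebra.trace F K (θ' x.1) =
        (Algebra.trace F K x.1 + Algebra.trace F K x.2) ^ q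
      rw [hθ, hθ', algebraMap_pow_q_trace hF odd_one, algebraMap_pow_q_trace hF hodd',
        Cfsg.Agent.Lib.Unitary.add_pow_q hF, add_comm]
    · refine Prod.ext ((traceForm_nondegenerate F K).1 _ fun y => ?_)
        ((traceForm_nondegenerate F K).1 _ fun y => ?_)
      · simpa [ℓ, Algebra.traceForm_apply] using hx (y, 0)
      · simpa [ℓ, Algebra.traceForm_apply] using hx (0, y)
  let T : Subgroup Kˣ := ((powMonoidHom (q - 1) : Fˣ →* Fˣ).comp (Units.map (Algebra.norm F : K →* F))).ker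
  obtain ⟨S, a, ha, hpS, hmin, hall⟩ :=
    exists_torus_exponent (F := F) p T (powMonoidHom (q + 1) : Fˣ →* Fˣ).ker
  have hN : ∀ (y : Kˣ), y ∈ T ↔ Algebra.norm F (y : K) ^ q = Algebra.norm F (y : K) := by
    intro y
    have hy : Algebra.norm F (y : K) ≠ 0 := ((Units.map (Algebra.norm F : K →* F)) y).ne_zero
    rw [MonoidHom.mem_ker, Units.ext_iff]
    change Algebra.norm F (y : K) ^ (q - 1) = 1 ↔ _
    conv_rhs => lhs; rw [show q = q - 1 + 1 by omega, pow_succ]
    exact (mul_eq_right₀ hy).symm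
  refine ⟨S, exists_psu_order hF hA (by omega) (by rw [Module.finrank_prod, hK, hnh, two_mul])
    ((a : K), θ' ((a⁻¹ : Kˣ) : K)) ?_ ?_ ?_, hpS, ?_⟩
  · refine Prod.ext ?_ ?_
    · change (a : K) * θ (θ' ((a⁻¹ : Kˣ) : K)) = 1
      rw [h12, Units.mul_inv]
    · change θ' ((a⁻¹ : Kˣ) : K) * θ' (a : K) = 1
      rw [← map_mul, Units.inv_mul, map_one]
  · rw [norm_prod_mk, hθ', map_pow, pow_q_pow_odd hF _ hodd']
    have hNa := (hN a).1 ha
    have hi : Algebra.norm F ((a⁻¹ : Kˣ) : K) ^ q = Algebra.norm F ((a⁻¹ : Kˣ) : K) :=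
      (hN a⁻¹).1 (T.inv_mem ha)
    rw [hi, ← map_mul, Units.mul_inv, map_one]
  · intro k l hkl
    have e1 : (a : K) ^ k = algebraMap F K l := congrArg Prod.fst hkl
    have e2 : θ' ((a⁻¹ : Kˣ) : K) ^ k = algebraMap F K l := congrArg Prod.snd hkl
    have h1 : θ' ((a : K) ^ k) * θ' ((a⁻¹ : Kˣ) : K) ^ k = 1 := by
      rw [map_pow θ', ← mul_pow, ← map_mul, Units.mul_inv, map_one, one_pow]
    rw [e2, e1, hθ', ← map_pow, pow_q_pow_odd hF l hodd', ← map_mul, ← pow_succ] at h1
    have hl1 : l ^ (q + 1) = 1 := (algebraMap F K).injective (h1.trans (map_one _).symm)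
    have hl : l ≠ 0 := by
      intro h0
      rw [h0, zero_pow (Nat.succ_ne_zero q)] at hl1
      exact zero_ne_one hl1
    exact hmin k (Units.mk0 l hl) (MonoidHom.mem_ker.2 (Units.ext hl1)) e1
  · intro E _ _ _ x e he hx0 h2
    obtain ⟨φ⟩ : Nonempty (E →ₐ[F] K) :=
      FiniteField.nonempty_algHom_of_finrank_dvd (by rw [hK, ← he]; exact dvd_mul_right _ _)
    have hmem : Units.map (φ : E →* K) (Units.mk0 x hx0) ∈ T := by
      rw [hN]
      change Algebra.norm F (φ x) ^ q = Algebra.norm F (φ x)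
      rw [norm_algHom_field φ x (he.trans hK.symm), h2]
    obtain ⟨l, hlZ, hl⟩ := hall _ hmem
    refine ⟨l, congrArg Units.val (MonoidHom.mem_ker.1 hlZ), φ.toRingHom.injective ?_⟩
    change φ (x ^ S) = φ (algebraMap F E l)
    rw [map_pow, φ.commutes]
    exact hl

end Cfsg.Agent.Lib.LinearOrders
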